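import Cfsg.Agent.H128.Weights
import Cfsg.Prelude.Def_Classical

/-!
# Large abelian `p`-subgroups of the classical groups in cross characteristic (helper128)

`G` one of `PSL_n(q)`, `PSU_n(q)`, `PSp_2m(q)`, `PΩ(q)`, `p` a prime not dividing `q`. Then `G` has an abelian `p`-subgroup `B`
such that `|G|_p` divides `|B| * N!` with `N` the dimension of the natural module, or half of it if `p` is odd and the
group is symplectic or orthogonal, or linear with `q ≡ -1 mod p`, or unitary with `q ≡ 1 mod p`.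
-/

set_option autoImplicit false

namespace Cfsg.Agent.H128.AbelianClassical

open Module Weights
open scoped Matrix

/-! ### closure properties of the set of the weights -/

section Closure

variable {K : Type*} [Field K] {V : Type*} [AddCommGroup V] [Module K V]
  {P : Type*} [Group P] {ρ : P →* Module.End K V} {A : Subgroup P}

/-- closure from an invariant form, linear in one variable and `r`-semilinear in the other -/
theorem closed_of_form [Finite P] [IsAlgClosed K] [FiniteDimensional K V] (hP : (Nat.card P : K) ≠ 0)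
    (hA : ∀ a ∈ A, ∀ b ∈ A, a * b = b * a) (B : V → (V →ₗ[K] K)) (r : ℕ)
    (hsm : ∀ (c : K) (w v : V), B (c • w) v = c ^ r * B w v) (hinv : ∀ (x : P) (w v : V), B (ρ x w) (ρ x v) = B w v)
    (hnd : ∀ w : V, w ≠ 0 → B w ≠ 0) {χ : A → K} (h : χ ∈ wts ρ A) :
    (fun a => χ a ^ (-(r : ℤ))) ∈ wts ρ A := by
  obtain ⟨w, hw, hw0⟩ := (Submodule.ne_bot_iff _).1 h
  rw [mem_W] at hw
  have h1 : ∃ ψ : A → K, ∃ v ∈ W ρ A ψ, B w v ≠ 0 := by
    by_contra hcon
    push Not at hcon
    apply hnd w hw0
    have h2 : (⊤ : Submodule K V) ≤ LinearMap.ker (B w) := by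
      rw [← iSup_W (ρ := ρ) hP hA]
      exact iSup_le fun ψ v hv => LinearMap.mem_ker.2 (hcon ψ v hv)
    exact LinearMap.ext fun v => LinearMap.mem_ker.1 (h2 (Submodule.mem_top : v ∈ ⊤))
  obtain ⟨ψ, v, hv, hne⟩ := h1
  have hψ : ψ ∈ wts ρ A := (Submodule.ne_bot_iff _).2 ⟨v, hv, by
    rintro rfl
    exact hne (map_zero _)⟩
  rw [mem_W] at hv
  have h3 : ψ = fun a => χ a ^ (-(r : ℤ)) := by
    funext a
    have h4 := hinv a w v
    rw [hw a, hv a, hsm, map_smul, smul_eq_mul, ← mul_assoc] at h4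
    have h5 : χ a ^ r * ψ a = 1 := by
      apply mul_right_cancel₀ hne
      rw [h4, one_mul]
    rw [zpow_neg, zpow_natCast]
    exact eq_inv_of_mul_eq_one_right h5
  rw [← h3]
  exact hψ

/-- closure from a semilinear map commuting with the action -/
theorem closed_of_semilinear (Φ : V → V) (r : ℕ) (hsm : ∀ (c : K) (v : V), Φ (c • v) = c ^ r • Φ v)
    (hcomm : ∀ (x : P) (v : V), Φ (ρ x v) = ρ x (Φ v)) (h0 : ∀ v : V, v ≠ 0 → Φ v ≠ 0) {χ : A → K}
    (h : χ ∈ wts ρ A) : (fun a => χ a ^ ((r : ℤ))) ∈ wts ρ A := by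
  obtain ⟨w, hw, hw0⟩ := (Submodule.ne_bot_iff _).1 h
  rw [mem_W] at hw
  refine (Submodule.ne_bot_iff _).2 ⟨Φ w, ?_, h0 w hw0⟩
  rw [mem_W]
  intro a
  rw [← hcomm, hw a, hsm, zpow_natCast]

end Closure

/-! ### transfer to a quotient -/

section Transfer

variable {K : Type*} [Field K] {V : Type*} [AddCommGroup V] [Module K V]
  {Γ : Type*} [Group Γ] [Finite Γ] {G : Type*} [Group G]

/-- the conclusion -/
def HasAb (p : ℕ) (G : Type*) [Group G] (N : ℕ) : Prop :=
  ∃ B : Subgroup G, IsPGroup p B ∧ (∀ a ∈ B, ∀ b ∈ B, a * b = b * a) ∧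
    ∀ S : Sylow p G, Nat.card S ∣ Nat.card B * N.factorial

theorem HasAb.of_surj {p : ℕ} [Fact p.Prime] {N : ℕ} (f : Γ →* G) (hf : Function.Surjective f) (P : Sylow p Γ)
    (A : Subgroup P) (hA : ∀ a ∈ A, ∀ b ∈ A, a * b = b * a) (hi : A.index ∣ N.factorial) : HasAb p G N := by
  have hG : Finite G := Finite.of_surjective f hf
  let g : P →* G := f.comp (P : Subgroup Γ).subtype
  refine ⟨A.map g, (P.isPGroup'.to_subgroup A).map g, ?_, ?_⟩
  · rintro _ ⟨a, ha, rfl⟩ _ ⟨b, hb, rfl⟩
    rw [← map_mul, ← map_mul, hA a ha b hb]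
  · intro S
    have h1 : Nat.card S = Nat.card (P.mapSurjective hf : Sylow p G) := by
      rw [Sylow.card_eq_multiplicity, Sylow.card_eq_multiplicity]
    have h2 : Nat.card (P.mapSurjective hf : Sylow p G) = Nat.card g.range := by
      have : (((P.mapSurjective hf : Sylow p G)) : Subgroup G) = g.range := by
        rw [Sylow.coe_mapSurjective, MonoidHom.range_comp, Subgroup.range_subtype]
      rw [← this]
    have h3 := Subgroup.index_map_dvd (H := A) (f := g.rangeRestrict) g.rangeRestrict_surjective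
    have h4 := (A.map g.rangeRestrict).card_mul_index
    have h5 : Nat.card (A.map g.rangeRestrict) = Nat.card (A.map g) := by
      have h6 : (A.map g.rangeRestrict).map g.range.subtype = A.map g := by
        rw [Subgroup.map_map]
        rfl
      rw [← h6]
      exact (Subgroup.card_map_of_injective Subtype.val_injective).symm
    rw [h1, h2, ← h4, h5]
    exact mul_dvd_mul_left _ (h3.trans hi)

/-- general theorem, full dimension -/
theorem HasAb.of_rep {p : ℕ} [hp : Fact p.Prime] [IsAlgClosed K] [FiniteDimensional K V] (hpK : (p : K) ≠ 0)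
    (ρ : Γ →* Module.End K V) (hρ : Function.Injective ρ) (f : Γ →* G) (hf : Function.Surjective f) {N : ℕ}
    (hN : Module.finrank K V = N) : HasAb p G N := by
  obtain ⟨P⟩ : Nonempty (Sylow p Γ) := inferInstance
  have hPp : IsPGroup p P := P.isPGroup'
  have : Group.IsNilpotent P := hPp.isNilpotent
  obtain ⟨A, hn, hAc, hAC⟩ := Lib.NormalAbelian.exists_normal_abelian_selfCentralizing (G := P)
  have hA : ∀ a ∈ A, ∀ b ∈ A, a * b = b * a := fun a ha b hb => by
    have := hAc.is_comm.comm ⟨a, ha⟩ ⟨b, hb⟩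
    exact congrArg Subtype.val this
  obtain ⟨b, hb⟩ := IsPGroup.iff_card.1 hPp
  have hP : (Nat.card P : K) ≠ 0 := by
    rw [hb]
    push_cast
    exact pow_ne_zero _ hpK
  refine HasAb.of_surj f hf P A hA ?_
  rw [← hN]
  refine index_dvd (ρ := ρ.comp (P : Subgroup Γ).subtype) hP (hρ.comp Subtype.val_injective) hn hA ?_
  intro x hx
  rw [← hAC, Subgroup.mem_centralizer_iff]
  intro a ha
  exact (hx a ha).symm

/-- general theorem, half of the dimension -/
theorem HasAb.of_rep_half {p : ℕ} [hp : Fact p.Prime] (hp2 : p ≠ 2) [IsAlgClosed K] [FiniteDimensional K V]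
    (hpK : (p : K) ≠ 0) (ρ : Γ →* Module.End K V) (hρ : Function.Injective ρ) (f : Γ →* G)
    (hf : Function.Surjective f) {m : ℤ} (hm : (p : ℤ) ∣ m + 1)
    (hcl : ∀ (P : Sylow p Γ) (A : Subgroup P), (∀ a ∈ A, ∀ b ∈ A, a * b = b * a) →
      ∀ χ ∈ wts (ρ.comp (P : Subgroup Γ).subtype) A, (fun a => χ a ^ m) ∈ wts (ρ.comp (P : Subgroup Γ).subtype) A)
    {N : ℕ} (hN : Module.finrank K V / 2 = N) : HasAb p G N := by
  obtain ⟨P⟩ : Nonempty (Sylow p Γ) := inferInstance
  have hPp : IsPGroup p P := P.isPGroup'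
  have : Group.IsNilpotent P := hPp.isNilpotent
  obtain ⟨A, hn, hAc, hAC⟩ := Lib.NormalAbelian.exists_normal_abelian_selfCentralizing (G := P)
  have hA : ∀ a ∈ A, ∀ b ∈ A, a * b = b * a := fun a ha b hb => by
    have := hAc.is_comm.comm ⟨a, ha⟩ ⟨b, hb⟩
    exact congrArg Subtype.val this
  refine HasAb.of_surj f hf P A hA ?_
  rw [← hN]
  refine index_dvd_half (ρ := ρ.comp (P : Subgroup Γ).subtype) hp2 hPp hpK (hρ.comp Subtype.val_injective) hn hA ?_ hm
    (hcl P A hA)
  intro x hx
  rw [← hAC, Subgroup.mem_centralizer_iff]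
  intro a ha
  exact (hx a ha).symm

end Transfer

/-! ### matrices -/

section Mat

variable {F : Type} [Field F] {ι : Type} [Fintype ι] [DecidableEq ι]
  {Γ : Type*} [Group Γ] (μ : Γ →* Matrix ι ι F)

/-- the representation over the algebraic closure -/
noncomputable def rep : Γ →* Module.End (AlgebraicClosure F) (ι → AlgebraicClosure F) :=
  ((Matrix.toLinAlgEquiv' : Matrix ι ι (AlgebraicClosure F) ≃ₐ[AlgebraicClosure F] _) :
    Matrix ι ι (AlgebraicClosure F) →* _).comp
    ((((algebraMap F (AlgebraicClosure F)).mapMatrix : Matrix ι ι F →+* Matrix ι ι (AlgebraicClosure F)) :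
      Matrix ι ι F →* Matrix ι ι (AlgebraicClosure F)).comp μ)

theorem rep_apply (x : Γ) (v : ι → AlgebraicClosure F) :
    rep μ x v = (μ x).map (algebraMap F (AlgebraicClosure F)) *ᵥ v := rfl

theorem rep_injective (hμ : Function.Injective μ) : Function.Injective (rep μ) := by
  intro x y h
  apply hμ
  have h1 : (μ x).map (algebraMap F (AlgebraicClosure F)) = (μ y).map (algebraMap F (AlgebraicClosure F)) :=
    (Matrix.toLinAlgEquiv' (R := AlgebraicClosure F)).injective h
  exact Matrix.map_injective (algebraMap F (AlgebraicClosure F)).injective h1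

theorem cast_ne_zero {p : ℕ} (hp : (p : F) ≠ 0) : (p : AlgebraicClosure F) ≠ 0 := by
  intro h
  apply hp
  apply (algebraMap F (AlgebraicClosure F)).injective
  rw [map_natCast, h, map_zero]

variable {μ} {G : Type*} [Group G] [Finite Γ]

theorem hasAb_mat {p : ℕ} [Fact p.Prime] (hp : (p : F) ≠ 0) (hμ : Function.Injective μ) (f : Γ →* G)
    (hf : Function.Surjective f) {N : ℕ} (hN : Fintype.card ι = N) : HasAb p G N :=
  HasAb.of_rep (cast_ne_zero hp) (rep μ) (rep_injective μ hμ) f hf (by rw [Module.finrank_fintype_fun_eq_card, hN])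

theorem card_ne {p : ℕ} [Fact p.Prime] (hp : (p : F) ≠ 0) {P : Type*} [Group P] [Finite P] (hP : IsPGroup p P) :
    (Nat.card P : AlgebraicClosure F) ≠ 0 := by
  obtain ⟨b, hb⟩ := IsPGroup.iff_card.1 hP
  rw [hb]
  push_cast
  exact pow_ne_zero _ (cast_ne_zero hp)

/-- groups preserving a bilinear form -/
theorem hasAb_form {p : ℕ} [Fact p.Prime] (hp2 : p ≠ 2) (hp : (p : F) ≠ 0) (hμ : Function.Injective μ) (f : Γ →* G)
    (hf : Function.Surjective f) (J : Matrix ι ι F) (hJ : IsUnit J.det) (hJi : ∀ x, (μ x).transpose * J * μ x = J)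
    {N : ℕ} (hN : Fintype.card ι / 2 = N) : HasAb p G N := by
  refine HasAb.of_rep_half hp2 (cast_ne_zero hp) (rep μ) (rep_injective μ hμ) f hf (m := -((1 : ℕ) : ℤ)) (by simp) ?_
    (by rw [Module.finrank_fintype_fun_eq_card, hN])
  intro P A hA χ hχ
  set J' := J.map (algebraMap F (AlgebraicClosure F)) with hJ'
  have hdet : IsUnit J'.det := by
    have h1 : J'.det = algebraMap F (AlgebraicClosure F) J.det := by
      rw [RingHom.map_det]
      rfl
    rw [h1]
    exact hJ.map _
  let B : (ι → AlgebraicClosure F) → ((ι → AlgebraicClosure F) →ₗ[AlgebraicClosure F] AlgebraicClosure F) := fun w =>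
    { toFun := fun v => v ⬝ᵥ (J' *ᵥ w)
      map_add' := fun v v' => add_dotProduct _ _ _
      map_smul' := fun c v => smul_dotProduct _ _ _ }
  refine closed_of_form (card_ne hp P.isPGroup') hA B 1 ?_ ?_ ?_ hχ
  · intro c w v
    change v ⬝ᵥ (J' *ᵥ (c • w)) = c ^ 1 * (v ⬝ᵥ (J' *ᵥ w))
    rw [Matrix.mulVec_smul, dotProduct_smul, pow_one, smul_eq_mul]
  · intro x w v
    change (rep μ x v) ⬝ᵥ (J' *ᵥ (rep μ x w)) = v ⬝ᵥ (J' *ᵥ w)
    rw [rep_apply, rep_apply]
    set M := (μ x).map (algebraMap F (AlgebraicClosure F)) with hM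
    have h1 : M.transpose * J' * M = J' := by
      have h2 := congrArg (fun X : Matrix ι ι F => X.map (algebraMap F (AlgebraicClosure F))) (hJi x)
      simp only [Matrix.map_mul] at h2
      rw [hM, hJ', ← Matrix.transpose_map]
      exact h2
    rw [Matrix.mulVec_mulVec, ← Matrix.vecMul_transpose, ← Matrix.dotProduct_mulVec, Matrix.mulVec_mulVec,
      ← mul_assoc, h1]
  · intro w hw h0
    apply hw
    have h1 : J' *ᵥ w = 0 := by
      funext i
      have h2 := LinearMap.congr_fun h0 (Pi.single i 1)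
      change (Pi.single i 1 : ι → AlgebraicClosure F) ⬝ᵥ (J' *ᵥ w) = 0 at h2
      rw [single_dotProduct, one_mul] at h2
      exact h2
    have h3 := Matrix.mulVec_injective_iff_isUnit.2 ((Matrix.isUnit_iff_isUnit_det J').2 hdet)
    apply h3
    rw [h1, Matrix.mulVec_zero]

/-- linear groups with `q ≡ -1 mod p` -/
theorem hasAb_frob {p : ℕ} [Fact p.Prime] (hp2 : p ≠ 2) (hp : (p : F) ≠ 0) (hμ : Function.Injective μ) (f : Γ →* G)
    (hf : Function.Surjective f) [Fintype F] (hq : p ∣ Fintype.card F + 1)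
    {N : ℕ} (hN : Fintype.card ι / 2 = N) : HasAb p G N := by
  refine HasAb.of_rep_half hp2 (cast_ne_zero hp) (rep μ) (rep_injective μ hμ) f hf (m := ((Fintype.card F : ℕ) : ℤ))
    (by exact_mod_cast Int.natCast_dvd_natCast.2 hq) ?_ (by rw [Module.finrank_fintype_fun_eq_card, hN])
  intro P A hA χ hχ
  obtain ⟨r, hr⟩ := CharP.exists F
  obtain ⟨k, hrp, hk⟩ := FiniteField.card F r
  have : Fact r.Prime := ⟨hrp⟩
  have hchar : CharP (AlgebraicClosure F) r := charP_of_injective_algebraMap (algebraMap F (AlgebraicClosure F)).injective r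
  have hpow : ∀ c : AlgebraicClosure F, iterateFrobenius (AlgebraicClosure F) r k c = c ^ Fintype.card F := by
    intro c
    rw [iterateFrobenius_def, hk]
  let Φ : (ι → AlgebraicClosure F) → (ι → AlgebraicClosure F) := fun v i => iterateFrobenius (AlgebraicClosure F) r k (v i)
  refine closed_of_semilinear Φ (Fintype.card F) ?_ ?_ ?_ hχ
  · intro c v
    funext i
    change iterateFrobenius (AlgebraicClosure F) r k (c * v i) = c ^ Fintype.card F * iterateFrobenius (AlgebraicClosure F) r k (v i)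
    rw [map_mul, hpow c]
  · intro x v
    change Φ (rep μ x v) = rep μ x (Φ v)
    rw [rep_apply, rep_apply]
    funext i
    change iterateFrobenius (AlgebraicClosure F) r k ((((μ x).map (algebraMap F (AlgebraicClosure F))) *ᵥ v) i) = _
    rw [Matrix.mulVec, dotProduct, map_sum]
    apply Finset.sum_congr rfl
    intro j _
    rw [map_mul]
    congr 1
    rw [hpow, Matrix.map_apply, ← map_pow, FiniteField.pow_card]
    rfl
  · intro v hv h0
    apply hv
    funext i
    have h1 := congrFun h0 i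
    change iterateFrobenius (AlgebraicClosure F) r k (v i) = 0 at h1
    rw [hpow] at h1
    exact pow_eq_zero_iff (Fintype.card_ne_zero) |>.1 h1

/-- unitary groups with `q ≡ 1 mod p` -/
theorem hasAb_unitary {p : ℕ} [Fact p.Prime] (hp2 : p ≠ 2) (hp : (p : F) ≠ 0) (hμ : Function.Injective μ) (f : Γ →* G)
    (hf : Function.Surjective f) [Fintype F] {q : ℕ} (hF : Fintype.card F = q ^ 2) (hq : (p : ℤ) ∣ (q : ℤ) - 1)
    (hU : ∀ (x : Γ) (u v : ι → F), ∑ i, (μ x *ᵥ u) i * (μ x *ᵥ v) i ^ q = ∑ i, u i * v i ^ q)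
    {N : ℕ} (hN : Fintype.card ι / 2 = N) : HasAb p G N := by
  refine HasAb.of_rep_half hp2 (cast_ne_zero hp) (rep μ) (rep_injective μ hμ) f hf (m := -((q : ℕ) : ℤ))
    (by rw [← dvd_neg]; ring_nf; ring_nf at hq; exact hq) ?_ (by rw [Module.finrank_fintype_fun_eq_card, hN])
  intro P A hA χ hχ
  obtain ⟨r, hr⟩ := CharP.exists F
  obtain ⟨k, hrp, hk⟩ := FiniteField.card F r
  have : Fact r.Prime := ⟨hrp⟩
  have hchar : CharP (AlgebraicClosure F) r := charP_of_injective_algebraMap (algebraMap F (AlgebraicClosure F)).injective r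
  obtain ⟨l, -, hl⟩ : ∃ l ≤ (k : ℕ), q = r ^ l := (Nat.dvd_prime_pow hrp).1 (by
    rw [← hk, hF]
    exact Dvd.intro_left (q) (by ring))
  have hq0 : q ≠ 0 := by
    rw [hl]
    exact pow_ne_zero _ hrp.ne_zero
  let θ := iterateFrobenius (AlgebraicClosure F) r l
  have hpow : ∀ c : AlgebraicClosure F, θ c = c ^ q := by
    intro c
    change iterateFrobenius (AlgebraicClosure F) r l c = c ^ q
    rw [iterateFrobenius_def, hl]
  let B : (ι → AlgebraicClosure F) → ((ι → AlgebraicClosure F) →ₗ[AlgebraicClosure F] AlgebraicClosure F) := fun w =>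
    { toFun := fun v => v ⬝ᵥ (fun i => θ (w i))
      map_add' := fun v v' => add_dotProduct _ _ _
      map_smul' := fun c v => smul_dotProduct _ _ _ }
  refine closed_of_form (card_ne hp P.isPGroup') hA B q ?_ ?_ ?_ hχ
  · intro c w v
    change v ⬝ᵥ (fun i => θ (c * w i)) = c ^ q * (v ⬝ᵥ (fun i => θ (w i)))
    have h1 : (fun i => θ (c * w i)) = c ^ q • (fun i => θ (w i)) := by
      funext i
      rw [map_mul, hpow c]
      rfl
    rw [h1, dotProduct_smul, smul_eq_mul]
  · intro x w v
    change (rep μ x v) ⬝ᵥ (fun i => θ ((rep μ x w) i)) = v ⬝ᵥ (fun i => θ (w i))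
    rw [rep_apply, rep_apply]
    set M := (μ x).map (algebraMap F (AlgebraicClosure F)) with hM
    -- the matrix identity
    have h1 : M.transpose * M.map θ = 1 := by
      have h2 : (μ x : Matrix ι ι F).transpose * ((μ x : Matrix ι ι F).map fun c => c ^ q) = 1 := by
        ext i j
        have h3 := hU x (Pi.single i 1) (Pi.single j 1)
        rw [Matrix.mul_apply]
        simp only [Matrix.mulVec_single_one] at h3
        change ∑ k, (μ x : Matrix ι ι F) k i * ((μ x : Matrix ι ι F) k j) ^ q = _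
        change ∑ k, (μ x : Matrix ι ι F) k i * ((μ x : Matrix ι ι F) k j) ^ q = _ at h3
        rw [h3, Matrix.one_apply]
        rw [Finset.sum_eq_single i]
        · rw [Pi.single_eq_same, one_mul]
          by_cases hij : i = j
          · rw [hij, Pi.single_eq_same, one_pow, if_pos rfl]
          · rw [Pi.single_eq_of_ne hij, zero_pow hq0, if_neg hij]
        · intro b _ hb
          rw [Pi.single_eq_of_ne hb, zero_mul]
        · intro h
          exact absurd (Finset.mem_univ _) h
      have h3 := congrArg (fun X : Matrix ι ι F => X.map (algebraMap F (AlgebraicClosure F))) h2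
      simp only [Matrix.map_mul] at h3
      rw [Matrix.map_one _ (map_zero _) (map_one _)] at h3
      rw [← h3, hM, Matrix.transpose_map]
      congr 1
      ext i j
      simp only [Matrix.map_apply]
      rw [hpow, map_pow]
    have h2 : (fun i => θ ((M *ᵥ w) i)) = (M.map θ) *ᵥ (fun i => θ (w i)) := by
      funext i
      rw [Matrix.mulVec, dotProduct, map_sum]
      apply Finset.sum_congr rfl
      intro j _
      rw [map_mul]
      rfl
    rw [h2, ← Matrix.vecMul_transpose, ← Matrix.dotProduct_mulVec, Matrix.mulVec_mulVec, h1, Matrix.one_mulVec]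
  · intro w hw h0
    apply hw
    funext i
    have h2 := LinearMap.congr_fun h0 (Pi.single i 1)
    change (Pi.single i 1 : ι → AlgebraicClosure F) ⬝ᵥ (fun i => θ (w i)) = 0 at h2
    rw [single_dotProduct, one_mul, hpow] at h2
    exact pow_eq_zero_iff hq0 |>.1 h2

end Mat

end Cfsg.Agent.H128.AbelianClassical
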