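import Cfsg.Agent.H517.TwFTwo
import Cfsg.Agent.H128.AbelianClassical
import Cfsg.Agent.Lib.ComponentSolvable
import Cfsg.Agent.ClassicalGeometry.PSL2Basic

/-!
# Abelian 3-subgroups of `²F₄(q)` (helper128)

`²F₄(q)` contains `SL₂(q) × SL₂(q)`: `slHom` and its conjugate. Hence `²F₄(q)` has an abelian `3`-subgroup of order
`((q + 1)_3)²`, and `|²F₄(q)|_3 = 3 ((q + 1)_3)²` (`hasAb`).
-/

set_option autoImplicit false

namespace Cfsg.Agent.H128.TwF4Ab

open Subgroup Cfsg.Lie Cfsg.Lie.ChevalleyDatum Cfsg.Agent.ChevalleyStructure.Elts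
open Cfsg.Agent.ChevalleyStructure.Sparse Cfsg.Agent.ChevalleyStructure.SparseHDiag
open Cfsg.Agent.ChevalleyStructure.FixTables Cfsg.Agent.ChevalleyStructure.SparseWordEq
open Cfsg.Agent.H517.ExcTwo Cfsg.Agent.H517.TwFTwo Cfsg.Agent.ChevalleyStructure.SL2Hom
open Cfsg.Agent.H128.AbelianClassical

section

variable {K : Type*} [Field K]

/-- the commutator formula for the pair `(r, s)` has only terms with coefficient `± 2` -/
def okEven (D : ChevalleyDatum) (r s : ℕ) : Bool :=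
  decide (r < D.nroots) && decide (s < D.nroots) && decide (s ≠ r) && decide (s ≠ D.neg r) &&
    (D.commTerms r s).all fun x => x.2.1 % 2 == 0

theorem wordG_zero (hD : InList chevF4) (w : List (ℕ × K)) (h : ∀ x ∈ w, x.2 = 0) : wordG hD w = 1 := by
  induction w with
  | nil => exact wordG_nil hD
  | cons x w ih =>
    obtain ⟨r, u⟩ := x
    have h1 : u = 0 := h (r, u) (List.mem_cons_self)
    rw [wordG_cons, ih fun y hy => h y (List.mem_cons_of_mem _ hy), h1, xG_zero, one_mul]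

theorem comm_of_even [CharP K 2] {r s : ℕ} (h : okEven chevF4 r s = true) (t u : K) :
    Commute (xG hF4 s u) (xG hF4 r t) := by
  simp only [okEven, Bool.and_eq_true, decide_eq_true_eq, List.all_eq_true] at h
  obtain ⟨⟨⟨⟨hr, hs⟩, h1⟩, h2⟩, h3⟩ := h
  change xG hF4 s u * xG hF4 r t = xG hF4 r t * xG hF4 s u
  rw [comm_gen hF4 hr hs h1 h2, wordG_zero, mul_one]
  intro x hx
  rw [commWord, List.mem_map] at hx
  obtain ⟨y, hy, rfl⟩ := hx
  have h4 : y.2.1 % 2 = 0 := by
    have := h3 y hy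
    exact beq_iff_eq.1 this
  have h5 : ((y.2.1 : ℤ) : K) = 0 := by
    obtain ⟨c, hc⟩ := Int.dvd_of_emod_eq_zero h4
    rw [hc]
    push_cast
    rw [show (2 : K) = 0 from CharTwo.two_eq_zero, zero_mul]
  simp only [h5, zero_mul]

theorem hgen {Y : Type*} [Group Y] (P : Y → Prop) (h : Matrix.SpecialLinearGroup (Fin 2) K →* Y)
    (hP1 : ∀ u, P (h (up u))) (hP2 : ∀ u, P (h (lo u))) (hm : ∀ x y, P x → P y → P (x * y))
    (hi : ∀ x, P x → P x⁻¹) (h1 : P 1) : ∀ x, P (h x) := by
  intro x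
  have hx := mem_closure_SL2 x
  induction hx using Subgroup.closure_induction with
  | mem y hy =>
    rcases hy with ⟨u, rfl⟩ | ⟨u, rfl⟩
    · exact hP1 u
    · exact hP2 u
  | one => rw [map_one]; exact h1
  | mul a b _ _ ha hb => rw [map_mul]; exact hm _ _ ha hb
  | inv a _ ha => rw [map_inv]; exact hi _ ha

theorem commute_of_gen {Y : Type*} [Group Y] (f g : Matrix.SpecialLinearGroup (Fin 2) K →* Y)
    (huu : ∀ u v, Commute (f (up u)) (g (up v))) (hul : ∀ u v, Commute (f (up u)) (g (lo v)))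
    (hlu : ∀ u v, Commute (f (lo u)) (g (up v))) (hll : ∀ u v, Commute (f (lo u)) (g (lo v))) :
    ∀ x y, Commute (f x) (g y) := by
  intro x y
  refine hgen (fun z => Commute z (g y)) f ?_ ?_ (fun a b ha hb => ha.mul_left hb) (fun a ha => ha.inv_left)
    (Commute.one_left _) x
  · intro u
    exact hgen (fun z => Commute (f (up u)) z) g (huu u) (hul u) (fun a b ha hb => ha.mul_right hb)
      (fun a ha => ha.inv_right) (Commute.one_right _) y
  · intro u
    exact hgen (fun z => Commute (f (lo u)) z) g (hlu u) (hll u) (fun a b ha hb => ha.mul_right hb)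
      (fun a ha => ha.inv_right) (Commute.one_right _) y

open Cfsg.Agent.ChevalleyStructure.SL2Hom in
/-- `SL₂(q) → ²F₄(q)` -/
theorem exists_sl [CharP K 2] (θ : K →+* K) {e : ℕ} (hθ : ∀ u, θ u = u ^ e) :
    ∃ ψ : Matrix.SpecialLinearGroup (Fin 2) K →* GL chevF4.Idx K,
      (∀ u, ψ (up u) = xG hF4 33 (u ^ e) * xG hF4 24 u) ∧ (∀ u, ψ (lo u) = xG hF4 14 (u ^ e) * xG hF4 23 u) := by
  obtain ⟨f, hf, hf2⟩ := Cfsg.Agent.S1030.result (F := K) chevF4 hF4 33 (by decide +kernel)
  obtain ⟨g, hg, hg2⟩ := Cfsg.Agent.S1030.result (F := K) chevF4 hF4 24 (by decide +kernel)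
  have n33 : chevF4.neg 33 = 14 := by decide +kernel
  have n24 : chevF4.neg 24 = 23 := by decide +kernel
  rw [n33] at hf hf2
  rw [n24] at hg hg2
  have fu : ∀ u : K, f (up u) = xG hF4 33 u := fun u => Units.ext ((hf2 (up u) u).1 rfl)
  have fl : ∀ u : K, f (lo u) = xG hF4 14 u := fun u => Units.ext ((hf2 (lo u) u).2 rfl)
  have gu : ∀ u : K, g (up u) = xG hF4 24 u := fun u => Units.ext ((hg2 (up u) u).1 rfl)
  have gl : ∀ u : K, g (lo u) = xG hF4 23 u := fun u => Units.ext ((hg2 (lo u) u).2 rfl)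
  have hcomm : ∀ x y, Commute (f x) (g y) := by
    apply commute_of_gen
    · intro u v; rw [fu, gu]; exact comm_of_even (r := 24) (s := 33) (by decide +kernel) v u
    · intro u v; rw [fu, gl]; exact comm_of_even (r := 23) (s := 33) (by decide +kernel) v u
    · intro u v; rw [fl, gu]; exact comm_of_even (r := 24) (s := 14) (by decide +kernel) v u
    · intro u v; rw [fl, gl]; exact comm_of_even (r := 23) (s := 14) (by decide +kernel) v u
  let ψ : Matrix.SpecialLinearGroup (Fin 2) K →* GL chevF4.Idx K :=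
    { toFun := fun x => f (Matrix.SpecialLinearGroup.map θ x) * g x
      map_one' := by rw [map_one, map_one, map_one, mul_one]
      map_mul' := fun x y => by
        rw [map_mul, map_mul, map_mul]
        have h1 := (hcomm (Matrix.SpecialLinearGroup.map θ y) x).eq
        rw [mul_assoc, ← mul_assoc (f (Matrix.SpecialLinearGroup.map θ y)), h1]
        simp only [mul_assoc] }
  have hmu : ∀ u : K, Matrix.SpecialLinearGroup.map θ (up u) = up (θ u) := by
    intro u
    apply Subtype.ext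
    change θ.mapMatrix !![1, u; 0, 1] = !![1, θ u; 0, 1]
    ext i j
    fin_cases i <;> fin_cases j <;> simp
  have hml : ∀ u : K, Matrix.SpecialLinearGroup.map θ (lo u) = lo (θ u) := by
    intro u
    apply Subtype.ext
    change θ.mapMatrix !![1, 0; u, 1] = !![1, 0; θ u, 1]
    ext i j
    fin_cases i <;> fin_cases j <;> simp
  refine ⟨ψ, ?_, ?_⟩
  · intro u
    change f (Matrix.SpecialLinearGroup.map θ (up u)) * g (up u) = _
    rw [hmu, fu, gu, hθ]
  · intro u
    change f (Matrix.SpecialLinearGroup.map θ (lo u)) * g (lo u) = _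
    rw [hml, fl, gl, hθ]

/-- `n x_s(u) = x_k(u) n` -/
noncomputable def chkv (n : List ℕ) (s k : ℕ) : Bool :=
  wordEqCheck chevF4 (opsNN 2) (0, 0) (ones n ++ [⟨s, (1, 0), 1⟩]) (⟨k, (1, 0), 1⟩ :: ones n)

theorem conj_of_chk [CharP K 2] {n : List ℕ} {s k : ℕ} (h : chkv n s k = true) (u : K) :
    pr K n * xG hF4 s u = xG hF4 k u * pr K n := by
  have h1 := wordMat_eq_of_check h (evNN (two_zero (K := K)) u 1) (evNN_zero two_zero u 1)
  have e0 : ∀ w : List ℕ, toWord (evNN (two_zero (K := K)) u 1) (ones w) = w.map fun r => (r, (1 : K)) := by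
    intro w
    unfold toWord ones
    rw [List.map_map]
    apply List.map_congr_left
    intro r _
    simp [evNN]
  have e1 : toWord (evNN (two_zero (K := K)) u 1) (ones n ++ [⟨s, (1, 0), 1⟩]) =
      (n.map fun r => (r, (1 : K))) ++ [(s, u)] := by
    rw [← e0]
    simp [toWord, evNN]
  have e2 : toWord (evNN (two_zero (K := K)) u 1) (⟨k, (1, 0), 1⟩ :: ones n) =
      (k, u) :: (n.map fun r => (r, (1 : K))) := by
    rw [← e0]
    simp [toWord, evNN]
  rw [e1, e2] at h1
  have h2 : wordG hF4 ((n.map fun r => (r, (1 : K))) ++ [(s, u)]) = wordG hF4 ((k, u) :: (n.map fun r => (r, (1 : K)))) := by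
    apply Units.ext
    rw [coe_wordG, coe_wordG]
    exact h1
  rwa [wordG_append, wordG_cons, wordG_cons, wordG_nil, mul_one] at h2

set_option maxRecDepth 100000 in
theorem ck1 : chkv n₂ 14 10 = true := by decide +kernel
set_option maxRecDepth 100000 in
theorem ck2 : chkv n₂ 23 15 = true := by decide +kernel
set_option maxRecDepth 100000 in
theorem ck3 : chkv n₂ 33 37 = true := by decide +kernel
set_option maxRecDepth 100000 in
theorem ck4 : chkv n₂ 24 32 = true := by decide +kernel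
set_option maxRecDepth 100000 in
theorem ck5 : chkv n₁ 10 9 = true := by decide +kernel
set_option maxRecDepth 100000 in
theorem ck6 : chkv n₁ 15 4 = true := by decide +kernel
set_option maxRecDepth 100000 in
theorem ck7 : chkv n₁ 37 38 = true := by decide +kernel
set_option maxRecDepth 100000 in
theorem ck8 : chkv n₁ 32 43 = true := by decide +kernel
set_option maxRecDepth 100000 in
theorem ck9 : chkv n₂ 9 8 = true := by decide +kernel
set_option maxRecDepth 100000 in
theorem ck10 : chkv n₂ 4 2 = true := by decide +kernel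
set_option maxRecDepth 100000 in
theorem ck11 : chkv n₂ 38 39 = true := by decide +kernel
set_option maxRecDepth 100000 in
theorem ck12 : chkv n₂ 43 45 = true := by decide +kernel

variable (K) in
/-- the conjugating element -/
noncomputable def gam : GL chevF4.Idx K := pr K n₂ * pr K n₁ * pr K n₂

theorem gam_conj [CharP K 2] {a b c d : ℕ} (h1 : chkv n₂ a b = true) (h2 : chkv n₁ b c = true)
    (h3 : chkv n₂ c d = true) (u : K) : gam K * xG hF4 a u = xG hF4 d u * gam K := by
  unfold gam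
  rw [mul_assoc, conj_of_chk h1, ← mul_assoc, mul_assoc (pr K n₂), conj_of_chk h2, ← mul_assoc, conj_of_chk h3]
  simp only [mul_assoc]

theorem n₂_mem [CharP K 2] {e : ℕ} (he : e ≠ 0) : pr K n₂ ∈ twistedF4 K e := by
  have e1 : n₂ = u₀ ++ (v₀ ++ (u₀ ++ (v₀ ++ u₀))) := rfl
  rw [e1, pr_append, pr_append, pr_append, pr_append]
  exact mul_mem (u₀_mem he) (mul_mem (v₀_mem he) (mul_mem (u₀_mem he) (mul_mem (v₀_mem he) (u₀_mem he))))

theorem n₁_mem [CharP K 2] {e : ℕ} : pr K n₁ ∈ twistedF4 K e := by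
  have hX : pr K [33, 24] ∈ twistedF4 K e := by
    have := X_mem (K := K) e 1
    rwa [one_pow, ← pr_two] at this
  have hY : pr K [14, 23] ∈ twistedF4 K e := by
    have := Y_mem (K := K) e 1
    rwa [one_pow, ← pr_two] at this
  have h1 := pr_eq (K := K) chk_h
  rw [h1]
  have e1 : ([33, 24] ++ ([14, 23] ++ [33, 24]) : List ℕ) = [33, 24, 14, 23, 33, 24] := rfl
  rw [← e1, pr_append, pr_append]
  exact mul_mem hX (mul_mem hY hX)

theorem gam_mem [CharP K 2] {e : ℕ} (he : e ≠ 0) : gam K ∈ twistedF4 K e :=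
  mul_mem (mul_mem (n₂_mem he) n₁_mem) (n₂_mem he)

theorem commute_pair {a b c d : GL chevF4.Idx K} (h1 : Commute a c) (h2 : Commute a d) (h3 : Commute b c)
    (h4 : Commute b d) : Commute (a * b) (c * d) :=
  (h1.mul_right h2).mul_left (h3.mul_right h4)

/-- **`SL₂(q) × SL₂(q)` in `²F₄(q)`** -/
theorem exists_pair [CharP K 2] (θ : K →+* K) {e : ℕ} (he : e ≠ 0) (hθ : ∀ u, θ u = u ^ e) :
    ∃ ψ ψ' : Matrix.SpecialLinearGroup (Fin 2) K →* ↥(twistedF4 K e),
      (∀ x y, Commute (ψ x) (ψ' y)) ∧ ψ (up 1) ≠ 1 ∧ ∃ c, ∀ x, ψ' x = c * ψ x * c⁻¹ := by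
  obtain ⟨ψ, ψu, ψl⟩ := exists_sl θ hθ
  have ψT : ∀ x, ψ x ∈ twistedF4 K e := by
    refine hgen (fun z => z ∈ twistedF4 K e) ψ ?_ ?_ (fun a b ha hb => mul_mem ha hb)
      (fun a ha => inv_mem ha) (one_mem _)
    · intro u; rw [ψu]; exact X_mem _ u
    · intro u; rw [ψl]; exact Y_mem _ u
  let φ : Matrix.SpecialLinearGroup (Fin 2) K →* GL chevF4.Idx K := (MulAut.conj (gam K)).toMonoidHom.comp ψ
  have φ_apply : ∀ x, φ x = gam K * ψ x * (gam K)⁻¹ := fun x => rfl
  have φu : ∀ u, φ (up u) = xG hF4 39 (u ^ e) * xG hF4 45 u := by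
    intro u
    rw [φ_apply, ψu, ← mul_assoc, gam_conj ck3 ck7 ck11, mul_assoc (xG hF4 39 _), gam_conj ck4 ck8 ck12,
      ← mul_assoc, mul_assoc, mul_inv_cancel, mul_one]
  have φl : ∀ u, φ (lo u) = xG hF4 8 (u ^ e) * xG hF4 2 u := by
    intro u
    rw [φ_apply, ψl, ← mul_assoc, gam_conj ck1 ck5 ck9, mul_assoc (xG hF4 8 _), gam_conj ck2 ck6 ck10,
      ← mul_assoc, mul_assoc, mul_inv_cancel, mul_one]
  have φT : ∀ x, φ x ∈ twistedF4 K e := fun x => mul_mem (mul_mem (gam_mem he) (ψT x)) (inv_mem (gam_mem he))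
  have hcomm : ∀ x y, Commute (ψ x) (φ y) := by
    apply commute_of_gen
    · intro u v
      rw [ψu, φu]
      exact commute_pair (comm_of_even (by decide +kernel) _ _) (comm_of_even (by decide +kernel) _ _)
        (comm_of_even (by decide +kernel) _ _) (comm_of_even (by decide +kernel) _ _)
    · intro u v
      rw [ψu, φl]
      exact commute_pair (comm_of_even (by decide +kernel) _ _) (comm_of_even (by decide +kernel) _ _)
        (comm_of_even (by decide +kernel) _ _) (comm_of_even (by decide +kernel) _ _)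
    · intro u v
      rw [ψl, φu]
      exact commute_pair (comm_of_even (by decide +kernel) _ _) (comm_of_even (by decide +kernel) _ _)
        (comm_of_even (by decide +kernel) _ _) (comm_of_even (by decide +kernel) _ _)
    · intro u v
      rw [ψl, φl]
      exact commute_pair (comm_of_even (by decide +kernel) _ _) (comm_of_even (by decide +kernel) _ _)
        (comm_of_even (by decide +kernel) _ _) (comm_of_even (by decide +kernel) _ _)
  have hne : ψ (up 1) ≠ 1 := by
    intro h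
    rw [ψu, one_pow] at h
    have h3 : xG hF4 33 (1 : K) = xG hF4 24 1 := by
      rw [mul_eq_one_iff_eq_inv] at h
      rw [h]
      exact inv_eq_of_mul_eq_one_left (sq_one hF4 24 1)
    exact ne_of_terms hF4 (s := 3) (k := 7) (by decide +kernel) (by decide +kernel) h3
  refine ⟨ψ.codRestrict _ ψT, φ.codRestrict _ φT, ?_, ?_, ⟨gam K, gam_mem he⟩, ?_⟩
  · intro x y
    exact Subtype.ext (hcomm x y)
  · intro h
    exact hne (congrArg Subtype.val h)
  · intro x
    exact Subtype.ext (φ_apply x)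

/-- the centre of `SL₂` in characteristic two is trivial -/
theorem center_sl_two [CharP K 2] : center (Matrix.SpecialLinearGroup (Fin 2) K) = ⊥ := by
  rw [eq_bot_iff]
  intro x hx
  rw [Matrix.SpecialLinearGroup.mem_center_iff] at hx
  obtain ⟨r, hr, hx⟩ := hx
  rw [Fintype.card_fin] at hr
  have h1 : r = 1 := by
    have h2 : (r - 1) ^ 2 = 0 := by
      rw [sub_sq, hr, one_pow, mul_one, show (2 : K) = 0 from CharTwo.two_eq_zero, zero_mul, sub_zero,
        ← two_mul, show (2 : K) = 0 from CharTwo.two_eq_zero, zero_mul]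
    exact sub_eq_zero.1 (pow_eq_zero_iff (two_ne_zero)|>.1 h2)
  rw [h1] at hx
  rw [Subgroup.mem_bot]
  apply Subtype.ext
  rw [← hx, map_one]
  rfl

/-- **Abelian 3-subgroups of `²F₄(q)`.** -/
theorem hasAb {K : Type} [Field K] [Fintype K] {m : ℕ} (hm : 1 ≤ m) (hK : Fintype.card K = 2 ^ (2 * m + 1))
    (hc : Nat.card ↥(twistedF4 K (2 ^ m)) = (2 ^ (2 * m + 1)) ^ 12 * (2 ^ (2 * m + 1) - 1) *
      ((2 ^ (2 * m + 1)) ^ 3 + 1) * ((2 ^ (2 * m + 1)) ^ 4 - 1) * ((2 ^ (2 * m + 1)) ^ 6 + 1)) :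
    HasAb 3 ↥(twistedF4 K (2 ^ m)) 3 := by
  classical
  have hf3 : Fact (Nat.Prime 3) := ⟨Nat.prime_three⟩
  have : CharP K 2 := ChevalleyStructure.F4Fixed.charP_two hK
  have he : 2 ^ m ≠ 0 := pow_ne_zero m two_ne_zero
  have hcard : 4 ≤ Nat.card K := by
    rw [Nat.card_eq_fintype_card, hK]
    calc 4 ≤ 2 ^ 3 := by norm_num
      _ ≤ _ := Nat.pow_le_pow_right (by norm_num) (by omega)
  obtain ⟨ψ, ψ', hcomm, hne, c, hψ'⟩ := exists_pair (ChevalleyStructure.F4Fixed.theta hK) he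
    (ChevalleyStructure.F4Fixed.theta_apply hK)
  have hinj : Function.Injective ψ := by
    rw [← MonoidHom.ker_eq_bot_iff]
    rcases Lib.ComponentSolvable.quasisimple_normal_cases (SignalizersComponents.SLQuasisimple.isQuasisimple_two hcard)
      (N := ψ.ker) inferInstance with h | h
    · exfalso
      apply hne
      have : up (1 : K) ∈ ψ.ker := by rw [h]; trivial
      exact this
    · rw [center_sl_two] at h
      exact le_bot_iff.1 h
  have hinj' : Function.Injective ψ' := by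
    intro x y h
    rw [hψ', hψ'] at h
    exact hinj (mul_left_cancel (mul_right_cancel h))
  -- the abelian subgroup of `SL₂`
  have h3K : ((3 : ℕ) : K) ≠ 0 := by
    intro h
    have h1 : (2 : ℕ) ∣ 3 := (CharP.cast_eq_zero_iff K 2 3).1 h
    norm_num at h1
  have hfinS : Finite (Matrix.SpecialLinearGroup (Fin 2) K) := inferInstance
  let μ : Matrix.SpecialLinearGroup (Fin 2) K →* Matrix (Fin 2) (Fin 2) K :=
    { toFun := fun x => x.1
      map_one' := rfl
      map_mul' := fun _ _ => rfl }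
  obtain ⟨B, hB, hBc, hBS⟩ := hasAb_mat (p := 3) (μ := μ) h3K Subtype.val_injective (MonoidHom.id _)
    Function.surjective_id (N := 2) (Fintype.card_fin 2)
  -- the abelian subgroup of the product
  let Ψ : Matrix.SpecialLinearGroup (Fin 2) K × Matrix.SpecialLinearGroup (Fin 2) K →* ↥(twistedF4 K (2 ^ m)) :=
    MonoidHom.noncommCoprod ψ ψ' hcomm
  have hΨ : ∀ x, Ψ x = ψ x.1 * ψ' x.2 := fun x => rfl
  have hΨi : Function.Injective Ψ := by
    rw [← MonoidHom.ker_eq_bot_iff, eq_bot_iff]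
    rintro ⟨x, y⟩ hxy
    rw [MonoidHom.mem_ker, hΨ] at hxy
    change ψ x * ψ' y = 1 at hxy
    -- `x` is central
    have h1 : x ∈ center (Matrix.SpecialLinearGroup (Fin 2) K) := by
      rw [mem_center_iff]
      intro z
      apply hinj
      rw [map_mul, map_mul]
      have h2 : ψ x = (ψ' y)⁻¹ := eq_inv_of_mul_eq_one_left hxy
      rw [h2]
      exact ((hcomm z y).inv_right).eq
    rw [center_sl_two, Subgroup.mem_bot] at h1
    subst h1
    rw [map_one, one_mul] at hxy
    have h3 : y = 1 := hinj' (hxy.trans (map_one _).symm)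
    subst h3
    rfl
  have hBB : IsPGroup 3 ↥(B.prod B) := by
    rintro ⟨⟨x, y⟩, hx, hy⟩
    obtain ⟨k, hk⟩ := hB ⟨x, hx⟩
    obtain ⟨l, hl⟩ := hB ⟨y, hy⟩
    have hk' : x ^ 3 ^ k = 1 := congrArg Subtype.val hk
    have hl' : y ^ 3 ^ l = 1 := congrArg Subtype.val hl
    refine ⟨k + l, Subtype.ext (Prod.ext ?_ ?_)⟩
    · change x ^ 3 ^ (k + l) = 1
      rw [pow_add, pow_mul, hk', one_pow]
    · change y ^ 3 ^ (k + l) = 1
      rw [pow_add, mul_comm, pow_mul, hl', one_pow]
  refine ⟨(B.prod B).map Ψ, hBB.map _, ?_, ?_⟩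
  · rintro _ ⟨⟨a, b⟩, ⟨ha, hb⟩, rfl⟩ _ ⟨⟨a', b'⟩, ⟨ha', hb'⟩, rfl⟩
    rw [← map_mul, ← map_mul]
    exact congrArg Ψ (Prod.ext (hBc a ha a' ha') (hBc b hb b' hb'))
  · intro S
    have hcardB : Nat.card ↥((B.prod B).map Ψ) = Nat.card ↥B * Nat.card ↥B := by
      rw [Subgroup.card_map_of_injective hΨi, Nat.card_congr (Subgroup.prodEquiv B B).toEquiv, Nat.card_prod]
    rw [hcardB]
    obtain ⟨s, hs⟩ := IsPGroup.iff_card.1 S.isPGroup'
    obtain ⟨b, hb⟩ := IsPGroup.iff_card.1 hB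
    have hSd : 3 ^ s ∣ Nat.card ↥(twistedF4 K (2 ^ m)) := by
      rw [← hs]
      exact Subgroup.card_subgroup_dvd_card _
    rw [hc] at hSd
    set q := 2 ^ (2 * m + 1) with hq
    have hq3 : q % 3 = 2 := by
      rw [hq]
      clear * -
      induction m with
      | zero => rfl
      | succ m ih => rw [show 2 * (m + 1) + 1 = 2 * m + 1 + 2 by ring, pow_add, Nat.mul_mod, ih]; norm_num
    -- `3 ^ s ∣ 3 * (q + 1) ^ 2`
    obtain ⟨t, ht⟩ : ∃ t, q = 3 * t + 2 := ⟨q / 3, by omega⟩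
    have e3 : q ^ 3 + 1 = 3 * ((q + 1) * (3 * t ^ 2 + 3 * t + 1)) := by rw [ht]; ring
    have e4 : q ^ 4 - 1 = (q + 1) * ((q - 1) * (q ^ 2 + 1)) := by
      have h1 : 1 ≤ q := by omega
      obtain ⟨w, hw⟩ : ∃ w, q = w + 1 := ⟨q - 1, by omega⟩
      rw [hw, Nat.add_sub_cancel]
      have h2 : (w + 1) ^ 4 = (w + 1 + 1) * (w * ((w + 1) ^ 2 + 1)) + 1 := by ring
      rw [h2, Nat.add_sub_cancel]
    have e5 : q ^ 12 * (q - 1) * (q ^ 3 + 1) * (q ^ 4 - 1) * (q ^ 6 + 1) =
        (3 * (q + 1) ^ 2) * (q ^ 12 * (q - 1) * (3 * t ^ 2 + 3 * t + 1) * (q - 1) * (q ^ 2 + 1) * (q ^ 6 + 1)) := by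
      rw [e3, e4]; ring
    rw [e5] at hSd
    have hcop : (3 ^ s).Coprime (q ^ 12 * (q - 1) * (3 * t ^ 2 + 3 * t + 1) * (q - 1) * (q ^ 2 + 1) * (q ^ 6 + 1)) := by
      apply Nat.Coprime.pow_left
      rw [Nat.Prime.coprime_iff_not_dvd Nat.prime_three]
      have hp := Nat.prime_three
      rw [hp.dvd_mul, hp.dvd_mul, hp.dvd_mul, hp.dvd_mul, hp.dvd_mul]
      have h2 : q ^ 2 % 3 = 1 := by rw [Nat.pow_mod, hq3]
      have h6 : q ^ 6 % 3 = 1 := by rw [Nat.pow_mod, hq3]
      have h12 : q ^ 12 % 3 = 1 := by rw [Nat.pow_mod, hq3]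
      omega
    have h3s : 3 ^ s ∣ 3 * (q + 1) ^ 2 := hcop.dvd_of_dvd_mul_right hSd
    obtain ⟨a, r, hr, har⟩ := Nat.exists_eq_pow_mul_and_not_dvd (n := q + 1) (by omega) 3 (by norm_num)
    have hsa : s ≤ 2 * a + 1 := by
      rw [har, show 3 * (3 ^ a * r) ^ 2 = 3 ^ (2 * a + 1) * r ^ 2 by ring] at h3s
      have hcr : (3 ^ s).Coprime (r ^ 2) := by
        apply Nat.Coprime.pow_left
        apply Nat.Coprime.pow_right
        exact (Nat.Prime.coprime_iff_not_dvd Nat.prime_three).2 hr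
      exact (Nat.pow_dvd_pow_iff_le_right (by norm_num)).1 (hcr.dvd_of_dvd_mul_right h3s)
    -- `3 ^ a ∣ |B|`
    have hab : a ≤ b := by
      obtain ⟨P⟩ : Nonempty (Sylow 3 (Matrix.SpecialLinearGroup (Fin 2) K)) := inferInstance
      have h1 : 3 ^ a ∣ Nat.card (Matrix.SpecialLinearGroup (Fin 2) K) := by
        rw [ClassicalGeometry.PSL2Basic.card_SL2, hK]
        refine Dvd.dvd.mul_left ?_ _
        have h2 : q ^ 2 - 1 = (q + 1) * (q - 1) := by
          have := Nat.sq_sub_sq q 1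
          rwa [one_pow] at this
        rw [h2, har, mul_assoc]
        exact Dvd.intro _ rfl
      have h2 : 3 ^ a ∣ Nat.card P := P.pow_dvd_card_of_pow_dvd_card h1
      have h3 := h2.trans (hBS P)
      rw [hb] at h3
      have h4 : (3 ^ a).Coprime (Nat.factorial 2) := by
        apply Nat.Coprime.pow_left
        decide
      exact (Nat.pow_dvd_pow_iff_le_right (by norm_num)).1 (h4.dvd_of_dvd_mul_right h3)
    rw [hs, hb]
    calc 3 ^ s ∣ 3 ^ (2 * b + 1) := pow_dvd_pow 3 (by omega)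
      _ ∣ 3 ^ b * 3 ^ b * Nat.factorial 3 := ⟨2, by simp only [Nat.factorial]; ring⟩

end

end Cfsg.Agent.H128.TwF4Ab
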