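import Mathlib

/-!
# S4793, LOC2: norm one elements of a finite local principal ideal algebra with involution (helper128, task 3831)
-/

set_option autoImplicit false
set_option linter.unusedSectionVars false

namespace Cfsg.Agent.H128.CCLoc

open Module

section Chain

variable {A : Type*} [CommRing A]

theorem exists_pi [Finite A] [IsLocalRing A] [IsPrincipalIdealRing A] :
    ∃ (π : A) (e : ℕ), π ^ e = 0 ∧ (∀ i < e, π ^ i ≠ 0) ∧ ∀ a : A, IsUnit a ∨ π ∣ a := by
  obtain ⟨π, hπ⟩ := (IsPrincipalIdealRing.principal (IsLocalRing.maximalIdeal A)).principal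
  have hm : ∀ a : A, π ∣ a ↔ ¬ IsUnit a := by
    intro a
    rw [← Ideal.mem_span_singleton]
    have h1 : a ∈ IsLocalRing.maximalIdeal A ↔ a ∈ Ideal.span {π} := by rw [hπ]
    rw [← h1, IsLocalRing.mem_maximalIdeal, mem_nonunits_iff]
  have hπu : ¬ IsUnit π := (hm π).1 dvd_rfl
  have hnil : ∃ n : ℕ, π ^ n = 0 := by
    obtain ⟨i, j, hij, h⟩ := Finite.exists_ne_map_eq_of_infinite (fun n : ℕ => π ^ n)
    wlog hlt : i < j generalizing i j
    · exact this j i hij.symm h.symm (by omega)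
    change π ^ i = π ^ j at h
    refine ⟨i, ?_⟩
    have h1 : π ^ i * (1 - π ^ (j - i)) = 0 := by
      rw [mul_sub, mul_one, ← pow_add, Nat.add_sub_cancel' hlt.le, h, sub_self]
    have h2 : IsUnit (1 - π ^ (j - i)) := by
      by_contra h3
      have h4 : π ∣ 1 - π ^ (j - i) := (hm _).2 h3
      have h5 : π ∣ π ^ (j - i) := dvd_pow_self π (by omega)
      have h6 : π ∣ 1 := by
        have := dvd_add h4 h5
        rwa [sub_add_cancel] at this
      exact hπu (isUnit_of_dvd_one h6)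
    exact (h2.mul_left_eq_zero).1 h1
  classical
  refine ⟨π, Nat.find hnil, Nat.find_spec hnil, fun i hi => Nat.find_min hnil hi, fun a => ?_⟩
  rw [hm]
  exact em _

variable {π : A} {e : ℕ} (h0 : π ^ e = 0) (hne : ∀ i < e, π ^ i ≠ 0) (hu : ∀ a : A, IsUnit a ∨ π ∣ a)

include h0 hne hu

theorem exists_unit_mul {a : A} (ha : a ≠ 0) : ∃ j < e, ∃ u : A, IsUnit u ∧ a = u * π ^ j := by
  classical
  have hex : ∃ j : ℕ, ¬ π ^ (j + 1) ∣ a := by
    refine ⟨e, fun h => ha ?_⟩
    rw [pow_succ, h0, zero_mul] at h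
    exact zero_dvd_iff.1 h
  have h1 := Nat.find_spec hex
  have h2 : π ^ Nat.find hex ∣ a := by
    rcases Nat.eq_zero_or_eq_succ_pred (Nat.find hex) with h | h
    · rw [h, pow_zero]; exact one_dvd _
    · rw [h]
      by_contra h3
      exact Nat.find_min hex (by omega) h3
  obtain ⟨c, hc⟩ := h2
  refine ⟨Nat.find hex, ?_, c, ?_, by rw [mul_comm, ← hc]⟩
  · by_contra h3
    push Not at h3
    apply ha
    rw [hc, ← Nat.add_sub_cancel' h3, pow_add, h0, zero_mul, zero_mul]
  · rcases hu c with h3 | h3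
    · exact h3
    · exfalso
      apply h1
      rw [pow_succ]
      obtain ⟨d, hd⟩ := h3
      exact ⟨d, by rw [mul_assoc, ← hd]; exact hc⟩

theorem pow_mul_eq_zero {i : ℕ} (hi : i ≤ e) (c : A) : π ^ i * c = 0 ↔ π ^ (e - i) ∣ c := by
  constructor
  · intro h
    by_cases hc : c = 0
    · rw [hc]; exact dvd_zero _
    · obtain ⟨j, hj, u, hu', rfl⟩ := exists_unit_mul h0 hne hu hc
      have h1 : u * π ^ (i + j) = 0 := by
        rw [pow_add, ← h]; ring
      have h2 : π ^ (i + j) = 0 := (hu'.mul_right_eq_zero).1 h1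
      have h3 : e ≤ i + j := by
        by_contra h4
        push Not at h4
        exact hne _ h4 h2
      exact (pow_dvd_pow π (by omega)).mul_left u
  · rintro ⟨d, rfl⟩
    rw [← mul_assoc, ← pow_add, Nat.add_sub_cancel' hi, h0, zero_mul]

/-- the ideal `(π ^ j)` -/
theorem dvd_iff {j i : ℕ} {u : A} (hu' : IsUnit u) (hi : i < e) : π ^ j ∣ u * π ^ i ↔ j ≤ i := by
  constructor
  · intro h
    by_contra h1
    push Not at h1
    obtain ⟨c, hc⟩ := h
    have h2 : π ^ (e - 1 - i) * (u * π ^ i) = 0 := by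
      rw [hc, ← mul_assoc, ← pow_add]
      have : e - 1 - i + j = e + (j - i - 1) := by omega
      rw [this, pow_add, h0, zero_mul, zero_mul]
    have h3 : u * π ^ (e - 1) = 0 := by
      rw [← h2]
      have : e - 1 = (e - 1 - i) + i := by omega
      conv_lhs => rw [this, pow_add]
      ring
    exact hne (e - 1) (by omega) ((hu'.mul_right_eq_zero).1 h3)
  · intro h
    exact (pow_dvd_pow π h).mul_left u

end Chain

section Dim

variable {F A : Type*} [Field F] [CommRing A] [Algebra F A]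

/-- the ideal `(π ^ j)` as an `F`-space -/
def II (F : Type*) {A : Type*} [Field F] [CommRing A] [Algebra F A] (π : A) (j : ℕ) : Submodule F A :=
  LinearMap.range (LinearMap.mulLeft F (π ^ j))

theorem mem_II {π : A} {j : ℕ} {a : A} : a ∈ II F π j ↔ π ^ j ∣ a := by
  constructor
  · rintro ⟨c, rfl⟩
    exact ⟨c, rfl⟩
  · rintro ⟨c, rfl⟩
    exact ⟨c, rfl⟩

variable [Finite A] {π : A} {e : ℕ} (h0 : π ^ e = 0) (hne : ∀ i < e, π ^ i ≠ 0) (hu : ∀ a : A, IsUnit a ∨ π ∣ a)

include h0 hne hu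

theorem finrank_step {j : ℕ} (hj : j < e) :
    finrank F (II F π j) = finrank F (II F π (j + 1)) + finrank F (II F π (e - 1)) := by
  have : FiniteDimensional F A := inferInstance
  have h1 := LinearMap.finrank_range_add_finrank_ker ((LinearMap.mulLeft F π).domRestrict (II F π j))
  have h2 : LinearMap.range ((LinearMap.mulLeft F π).domRestrict (II F π j)) = II F π (j + 1) := by
    ext a
    rw [mem_II]
    constructor
    · rintro ⟨⟨b, hb⟩, rfl⟩
      obtain ⟨c, rfl⟩ := mem_II.1 hb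
      exact ⟨c, by
        show π * (π ^ j * c) = _
        rw [pow_succ]; ring⟩
    · rintro ⟨c, rfl⟩
      refine ⟨⟨π ^ j * c, mem_II.2 ⟨c, rfl⟩⟩, ?_⟩
      show π * (π ^ j * c) = _
      rw [pow_succ]; ring
  have h3 : II F π (e - 1) ≤ II F π j := fun a ha => by
    rw [mem_II] at ha ⊢
    exact (pow_dvd_pow π (by omega)).trans ha
  have h4 : LinearMap.ker ((LinearMap.mulLeft F π).domRestrict (II F π j)) =
      (II F π (e - 1)).comap (II F π j).subtype := by
    ext a
    rw [LinearMap.mem_ker, Submodule.mem_comap, mem_II]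
    have h5 := pow_mul_eq_zero h0 hne hu (i := 1) (by omega) (a : A)
    rw [pow_one] at h5
    exact h5
  rw [h2, h4, (Submodule.comapSubtypeEquivOfLe h3).finrank_eq] at h1
  exact h1.symm

theorem finrank_II {j : ℕ} (hj : j ≤ e) : finrank F (II F π j) = finrank F (II F π (e - 1)) * (e - j) := by
  obtain ⟨k, hk⟩ : ∃ k, k = e - j := ⟨_, rfl⟩
  induction k generalizing j with
  | zero =>
    have h1 : j = e := by omega
    subst h1
    rw [Nat.sub_self, mul_zero]
    have h2 : II F π j = ⊥ := by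
      rw [eq_bot_iff]
      intro a ha
      rw [mem_II, h0, zero_dvd_iff] at ha
      exact ha
    rw [h2, finrank_bot]
  | succ k ih =>
    rw [finrank_step h0 hne hu (by omega), ih (j := j + 1) (by omega) (by omega)]
    have : e - j = e - (j + 1) + 1 := by omega
    rw [this]
    ring

theorem ker_mul {j : ℕ} (hj : j ≤ e) {u : A} (hu' : IsUnit u) :
    LinearMap.ker (LinearMap.mulLeft F (u * π ^ j)) = II F π (e - j) := by
  ext a
  rw [LinearMap.mem_ker, mem_II, ← pow_mul_eq_zero h0 hne hu hj a]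
  show u * π ^ j * a = 0 ↔ _
  rw [mul_assoc, hu'.mul_right_eq_zero]

end Dim

section Sum

variable {F A : Type*} [Field F] [CommRing A] [Algebra F A]

/-- the weight -/
noncomputable def ww (F : Type*) {A : Type*} [Field F] [CommRing A] [Algebra F A] (q : ℕ) (a : A) : ℂ :=
  (-(q : ℂ)) ^ finrank F (LinearMap.ker (LinearMap.mulLeft F a))

theorem ww_mul {q : ℕ} {u : A} (hu : IsUnit u) (a : A) : ww F q (a * u) = ww F q a := by
  have h : LinearMap.ker (LinearMap.mulLeft F (a * u)) = LinearMap.ker (LinearMap.mulLeft F a) := by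
    ext x
    rw [LinearMap.mem_ker, LinearMap.mem_ker]
    show a * u * x = 0 ↔ a * x = 0
    rw [mul_right_comm, hu.mul_left_eq_zero]
  unfold ww
  rw [h]

open Classical in
/-- the fixed elements of `s` in `(π ^ j)` -/
noncomputable def A0 [Fintype A] (s : A ≃+* A) (π : A) (j : ℕ) : Finset A :=
  Finset.univ.filter fun a => π ^ j ∣ a ∧ s a = a

open Classical in
theorem mem_A0 [Fintype A] {s : A ≃+* A} {π : A} {j : ℕ} {a : A} : a ∈ A0 s π j ↔ π ^ j ∣ a ∧ s a = a := by
  unfold A0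
  rw [Finset.mem_filter]
  exact ⟨fun h => h.2, fun h => ⟨Finset.mem_univ _, h⟩⟩

variable {π : A} {e : ℕ} (h0 : π ^ e = 0) (hne : ∀ i < e, π ^ i ≠ 0) (hu : ∀ a : A, IsUnit a ∨ π ∣ a)
  {s : A ≃+* A} (hs : ∀ a, s (s a) = a)

include hu hs in
theorem s_dvd {j : ℕ} {a : A} (ha : π ^ j ∣ a) : π ^ j ∣ s a := by
  obtain ⟨c, rfl⟩ := ha
  rw [map_mul, map_pow]
  rcases hu (s π) with h | h
  · have h1 : IsUnit π := by
      have := h.map s
      rwa [hs] at this
    exact (h1.pow j).dvd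
  · exact (pow_dvd_pow_of_dvd h j).mul_right _

open Classical in
include hu hs in
/-- the decomposition `b = x + τ y` -/
theorem sum_split [Fintype A] {τ δ ε : A} (h1 : s τ = τ - δ) (h2 : s δ = -δ) (h3 : ε * δ = 1) (j : ℕ) (g : A → ℂ) :
    ∑ b ∈ Finset.univ.filter (fun b : A => π ^ j ∣ b), g (b - s b) = (A0 s π j).card * ∑ y ∈ A0 s π j, g (y * δ) := by
  have h4 : s ε = -ε := by
    have h5 : s ε * s δ = 1 := by rw [← map_mul, h3, map_one]
    rw [h2] at h5
    calc s ε = s ε * (ε * δ) := by rw [h3, mul_one]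
      _ = -((s ε * -δ) * ε) := by ring
      _ = -ε := by rw [h5, one_mul]
  have h5 : (A0 s π j).card * ∑ y ∈ A0 s π j, g (y * δ) = ∑ p ∈ A0 s π j ×ˢ A0 s π j, g (p.2 * δ) := by
    rw [Finset.sum_product]
    show _ = ∑ _x ∈ A0 s π j, ∑ y ∈ A0 s π j, g (y * δ)
    rw [Finset.sum_const, nsmul_eq_mul]
  rw [h5]
  symm
  refine Finset.sum_nbij' (fun p => p.1 + τ * p.2) (fun b => (b - τ * (ε * (b - s b)), ε * (b - s b))) ?_ ?_ ?_ ?_ ?_
  · rintro ⟨x, y⟩ hp
    rw [Finset.mem_product, mem_A0, mem_A0] at hp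
    rw [Finset.mem_filter]
    exact ⟨Finset.mem_univ _, dvd_add hp.1.1 (hp.2.1.mul_left τ)⟩
  · intro b hb
    rw [Finset.mem_filter] at hb
    have hb1 : π ^ j ∣ b - s b := dvd_sub hb.2 (s_dvd hu hs hb.2)
    rw [Finset.mem_product, mem_A0, mem_A0]
    refine ⟨⟨dvd_sub hb.2 ((hb1.mul_left ε).mul_left τ), ?_⟩, hb1.mul_left ε, ?_⟩
    · show s (b - τ * (ε * (b - s b))) = b - τ * (ε * (b - s b))
      rw [map_sub, map_mul, map_mul, map_sub, hs, h1, h4]
      linear_combination (b - s b) * h3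
    · show s (ε * (b - s b)) = ε * (b - s b)
      rw [map_mul, map_sub, hs, h4]
      ring
  · rintro ⟨x, y⟩ hp
    rw [Finset.mem_product, mem_A0, mem_A0] at hp
    obtain ⟨⟨-, hx⟩, -, hy⟩ := hp
    have h6 : (x + τ * y) - s (x + τ * y) = δ * y := by
      rw [map_add, map_mul]
      rw [hx, hy, h1]
      ring
    show ((x + τ * y) - τ * (ε * ((x + τ * y) - s (x + τ * y))), ε * ((x + τ * y) - s (x + τ * y))) = (x, y)
    rw [h6]
    refine Prod.ext ?_ ?_
    · show x + τ * y - τ * (ε * (δ * y)) = x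
      linear_combination (-(τ * y)) * h3
    · show ε * (δ * y) = y
      linear_combination y * h3
  · intro b hb
    show b - τ * (ε * (b - s b)) + τ * (ε * (b - s b)) = b
    ring
  · rintro ⟨x, y⟩ hp
    rw [Finset.mem_product, mem_A0, mem_A0] at hp
    obtain ⟨⟨-, hx⟩, -, hy⟩ := hp
    show g (y * δ) = g ((x + τ * y) - s (x + τ * y))
    congr 1
    rw [map_add, map_mul]
    rw [hx, hy, h1]
    ring

end Sum

section Main

variable {F A : Type*} [Field F] [Finite F] [CommRing A] [Algebra F A] [Fintype A] {q : ℕ} (h2 : 2 ≤ q)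
  (hF : Nat.card F = q ^ 2) {s : A ≃+* A} (hs : ∀ a, s (s a) = a)
  (hsF : ∀ c : F, s (algebraMap F A c) = algebraMap F A (c ^ q))

include h2 hF in
theorem exists_theta : ∃ θ : F, θ - θ ^ q ≠ 0 := by
  by_contra hcon
  push Not at hcon
  have := Fintype.ofFinite F
  obtain ⟨g, hg⟩ := IsCyclic.exists_generator (α := Fˣ)
  have h1 : g ^ (q - 1) = 1 := by
    have h3 : g ^ q = g := by
      ext
      rw [Units.val_pow_eq_pow_val]
      exact (sub_eq_zero.1 (hcon g)).symm
    have h4 : g ^ (q - 1) * g = g := by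
      rw [← pow_succ]
      have : q - 1 + 1 = q := by omega
      rw [this, h3]
    exact mul_eq_right.mp h4
  have h4 : orderOf g = Nat.card Fˣ := orderOf_eq_card_of_forall_mem_zpowers hg
  have h5 : Nat.card Fˣ = q ^ 2 - 1 := by
    rw [Nat.card_units, hF]
  have h6 : orderOf g ≤ q - 1 := orderOf_le_of_pow_eq_one (by omega) h1
  rw [h4, h5] at h6
  have h7 : 2 * q ≤ q ^ 2 := by rw [sq]; exact Nat.mul_le_mul_right q h2
  omega

include h2 hF hs hsF in
theorem exists_tau : ∃ τ δ ε : A, s τ = τ - δ ∧ s δ = -δ ∧ ε * δ = 1 := by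
  obtain ⟨θ, hθ⟩ := exists_theta h2 hF
  have h1 : s (algebraMap F A θ) = algebraMap F A θ - algebraMap F A (θ - θ ^ q) := by
    rw [hsF, map_sub]
    ring
  refine ⟨algebraMap F A θ, algebraMap F A (θ - θ ^ q), algebraMap F A (θ - θ ^ q)⁻¹, h1, ?_, ?_⟩
  · have h3 := hs (algebraMap F A θ)
    rw [h1, map_sub, h1] at h3
    linear_combination -h3
  · rw [← map_mul, inv_mul_cancel₀ hθ, map_one]

variable {π : A} {e : ℕ} (h0 : π ^ e = 0) (hne : ∀ i < e, π ^ i ≠ 0) (hu : ∀ a : A, IsUnit a ∨ π ∣ a)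

include h2 hF hs hsF h0 hne hu in
/-- number of fixed elements of `(π ^ j)` -/
theorem card_A0 {j : ℕ} (hj : j ≤ e) : (A0 s π j).card = (q ^ finrank F (II F π (e - 1))) ^ (e - j) := by
  classical
  obtain ⟨τ, δ, ε, h3, h4, h5⟩ := exists_tau h2 hF hs hsF
  have h6 := sum_split hu hs h3 h4 h5 j (fun _ => 1)
  simp only [Finset.sum_const, nsmul_eq_mul, mul_one] at h6
  have h7 : (Finset.univ.filter (fun b : A => π ^ j ∣ b)).card = (A0 s π j).card * (A0 s π j).card := by
    exact_mod_cast h6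
  have h8 : (Finset.univ.filter (fun b : A => π ^ j ∣ b)).card = Nat.card (II F π j) := by
    rw [Nat.card_eq_fintype_card, Fintype.card_subtype]
    congr 1
    ext b
    rw [Finset.mem_filter, Finset.mem_filter, mem_II]
  rw [h8, Module.natCard_eq_pow_finrank (K := F), hF, finrank_II h0 hne hu hj, ← pow_mul, ← sq] at h7
  rw [mul_comm 2, pow_mul] at h7
  have h9 := (Nat.pow_left_injective (n := 2) (by norm_num)) h7
  rw [← h9, pow_mul]

include h0 hne hu in
/-- the weight of the elements of `(π ^ j)` outside `(π ^ (j + 1))` -/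
theorem ww_eq {j : ℕ} (hj : j ≤ e) {u : A} (hu' : IsUnit u) :
    ww F q (u * π ^ j) = ((-(q : ℂ)) ^ finrank F (II F π (e - 1))) ^ j := by
  unfold ww
  rw [ker_mul h0 hne hu hj hu', finrank_II h0 hne hu (Nat.sub_le _ _), ← pow_mul]
  congr 2
  omega

include h0 hne hu in
theorem sum_step {j : ℕ} (hj : j < e) :
    ∑ a ∈ A0 s π j, ww F q a = ∑ a ∈ A0 s π (j + 1), ww F q a +
      (((A0 s π j).card : ℂ) - (A0 s π (j + 1)).card) * ((-(q : ℂ)) ^ finrank F (II F π (e - 1))) ^ j := by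
  classical
  have hsub : A0 s π (j + 1) ⊆ A0 s π j := fun a ha => by
    rw [mem_A0] at ha ⊢
    exact ⟨(pow_dvd_pow π (by omega)).trans ha.1, ha.2⟩
  rw [← Finset.sum_sdiff hsub, add_comm]
  congr 1
  have h1 : ∀ a ∈ A0 s π j \ A0 s π (j + 1), ww F q a = ((-(q : ℂ)) ^ finrank F (II F π (e - 1))) ^ j := by
    intro a ha
    rw [Finset.mem_sdiff, mem_A0, mem_A0] at ha
    obtain ⟨⟨ha1, ha2⟩, ha3⟩ := ha
    have ha4 : ¬ π ^ (j + 1) ∣ a := fun h => ha3 ⟨h, ha2⟩
    have ha0 : a ≠ 0 := by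
      rintro rfl
      exact ha4 (dvd_zero _)
    obtain ⟨i, hi, u, hu', rfl⟩ := exists_unit_mul h0 hne hu ha0
    rw [dvd_iff h0 hne hu hu' hi] at ha1 ha4
    have hij : i = j := by omega
    subst hij
    exact ww_eq h0 hne hu hj.le hu'
  rw [Finset.sum_congr rfl h1, Finset.sum_const, nsmul_eq_mul, Finset.card_sdiff_of_subset hsub,
    Nat.cast_sub (Finset.card_le_card hsub)]

include h0 hne hu in
theorem A0_e : A0 s π e = {0} := by
  ext a
  rw [mem_A0, Finset.mem_singleton, h0, zero_dvd_iff]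
  constructor
  · exact fun h => h.1
  · rintro rfl
    exact ⟨rfl, map_zero s⟩

include h0 hne hu in
theorem finrank_eq : finrank F A = finrank F (II F π (e - 1)) * e := by
  have h1 := finrank_II (F := F) h0 hne hu (Nat.zero_le e)
  have h3 : II F π 0 = ⊤ := by
    rw [eq_top_iff]
    intro a _
    rw [mem_II, pow_zero]
    exact one_dvd a
  rw [h3, finrank_top, Nat.sub_zero] at h1
  exact h1

include h2 hF hs hsF h0 hne hu in
theorem sum_A0 (hodd : Odd (finrank F A)) {j : ℕ} (hj : j ≤ e) :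
    ∑ a ∈ A0 s π j, ww F q a =
      if Odd j then -(((q : ℂ) ^ finrank F (II F π (e - 1))) ^ e) else -(((q : ℂ) ^ finrank F (II F π (e - 1))) ^ (e - 1)) := by
  have h3 := finrank_eq (F := F) h0 hne hu
  have h4 : Odd (finrank F (II F π (e - 1))) ∧ Odd e := by
    rw [h3, Nat.odd_mul] at hodd
    exact hodd
  obtain ⟨hd, he⟩ := h4
  have hQ : (-(q : ℂ)) ^ finrank F (II F π (e - 1)) = -((q : ℂ) ^ finrank F (II F π (e - 1))) := hd.neg_pow _
  obtain ⟨k, hk⟩ : ∃ k, k = e - j := ⟨_, rfl⟩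
  induction k generalizing j with
  | zero =>
    have h5 : j = e := by omega
    subst h5
    rw [if_pos he, A0_e h0 hne hu, Finset.sum_singleton]
    have h6 := ww_eq (F := F) (q := q) h0 hne hu le_rfl isUnit_one
    rw [one_mul, h0, hQ, he.neg_pow] at h6
    exact h6
  | succ k ih =>
    have hj' : j < e := by omega
    rw [sum_step (F := F) h0 hne hu hj', ih (j := j + 1) (by omega) (by omega), card_A0 h2 hF hs hsF h0 hne hu hj,
      card_A0 h2 hF hs hsF h0 hne hu (j := j + 1) (by omega), hQ]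
    push_cast
    generalize ((q : ℂ) ^ finrank F (II F π (e - 1))) = Q
    have e1 : e = (e - j) + j := by omega
    have e2 : e - 1 = (e - (j + 1)) + j := by omega
    rcases Nat.even_or_odd j with hp | hp
    · have hp1 : Odd (j + 1) := hp.add_one
      have hp2 : ¬ Odd j := by rwa [Nat.not_odd_iff_even]
      rw [if_pos hp1, if_neg hp2, hp.neg_pow]
      conv_lhs => rw [show Q ^ e = Q ^ (e - j) * Q ^ j by rw [← pow_add, ← e1]]
      rw [e2, pow_add]
      ring
    · have hp1 : ¬ Odd (j + 1) := by rw [Nat.not_odd_iff_even]; exact hp.add_one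
      rw [if_pos hp, if_neg hp1, hp.neg_pow]
      rw [show Q ^ e = Q ^ (e - j) * Q ^ j by rw [← pow_add, ← e1]]
      rw [show Q ^ (e - 1) = Q ^ (e - (j + 1)) * Q ^ j by rw [← pow_add, ← e2]]
      ring

end Main

section Final

variable {F A : Type*} [Field F] [Finite F] [CommRing A] [Algebra F A] [Fintype A] {q : ℕ} (h2 : 2 ≤ q)
  (hF : Nat.card F = q ^ 2) {s : A ≃+* A} (hs : ∀ a, s (s a) = a)
  (hsF : ∀ c : F, s (algebraMap F A c) = algebraMap F A (c ^ q))
variable {π : A} {e : ℕ} (h0 : π ^ e = 0) (hne : ∀ i < e, π ^ i ≠ 0) (hu : ∀ a : A, IsUnit a ∨ π ∣ a)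

include h0 hne in
theorem not_isUnit (he : 0 < e) : ¬ IsUnit π := by
  intro h
  have h1 : IsUnit (π ^ e) := h.pow e
  rw [h0] at h1
  apply hne 0 he
  rw [pow_zero]
  obtain ⟨c, hc⟩ := h1.exists_right_inv
  rw [← hc, zero_mul]

open Classical in
include h2 hF hs hsF h0 hne hu in
theorem sum_units (hodd : Odd (finrank F A)) :
    ∑ b ∈ Finset.univ.filter (fun b : A => IsUnit b), ww F q (b - s b) = 0 := by
  have h3 := finrank_eq (F := F) h0 hne hu
  have h4 : Odd (finrank F (II F π (e - 1))) ∧ Odd e := by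
    rw [h3, Nat.odd_mul] at hodd
    exact hodd
  obtain ⟨hd, he⟩ := h4
  have he0 : 0 < e := he.pos
  obtain ⟨τ, δ, ε, h5, h6, h7⟩ := exists_tau h2 hF hs hsF
  have hδ : IsUnit δ := isUnit_iff_exists_inv'.2 ⟨ε, h7⟩
  have hT : ∀ j, ∑ b ∈ Finset.univ.filter (fun b : A => π ^ j ∣ b), ww F q (b - s b) =
      (A0 s π j).card * ∑ y ∈ A0 s π j, ww F q y := by
    intro j
    rw [sum_split hu hs h5 h6 h7 j (ww F q)]
    congr 1
    exact Finset.sum_congr rfl fun y _ => ww_mul hδ y
  have hsub : Finset.univ.filter (fun b : A => π ^ 1 ∣ b) ⊆ Finset.univ.filter (fun b : A => π ^ 0 ∣ b) := by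
    intro b _
    rw [Finset.mem_filter, pow_zero]
    exact ⟨Finset.mem_univ _, one_dvd _⟩
  have hU : Finset.univ.filter (fun b : A => IsUnit b) =
      Finset.univ.filter (fun b : A => π ^ 0 ∣ b) \ Finset.univ.filter (fun b : A => π ^ 1 ∣ b) := by
    ext b
    rw [Finset.mem_sdiff, Finset.mem_filter, Finset.mem_filter, Finset.mem_filter, pow_zero, pow_one]
    constructor
    · rintro ⟨-, hb⟩
      refine ⟨⟨Finset.mem_univ _, one_dvd _⟩, fun h => not_isUnit h0 hne he0 ?_⟩
      exact isUnit_of_dvd_unit h.2 hb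
    · rintro ⟨-, hb⟩
      refine ⟨Finset.mem_univ _, ?_⟩
      rcases hu b with h | h
      · exact h
      · exact absurd ⟨Finset.mem_univ _, h⟩ hb
  have h8 := Finset.sum_sdiff (f := fun b => ww F q (b - s b)) hsub
  rw [← hU, hT, hT, sum_A0 h2 hF hs hsF h0 hne hu hodd (Nat.zero_le e), sum_A0 h2 hF hs hsF h0 hne hu hodd (j := 1) he0,
    card_A0 h2 hF hs hsF h0 hne hu (Nat.zero_le e), card_A0 h2 hF hs hsF h0 hne hu (j := 1) he0, if_neg (show ¬ Odd 0 by decide),
    if_pos (show Odd 1 by decide)] at h8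
  push_cast at h8
  rw [Nat.sub_zero] at h8
  linear_combination h8

include h2 hF hs hsF h0 hne hu in
/-- Hilbert's Theorem 90 -/
theorem hilbert90 (he : 0 < e) {y : A} (hy : y * s y = 1) : ∃ b : A, IsUnit b ∧ y * s b = b := by
  obtain ⟨τ, δ, ε, h5, h6, h7⟩ := exists_tau h2 hF hs hsF
  have hδ : IsUnit δ := isUnit_iff_exists_inv'.2 ⟨ε, h7⟩
  have key : ∀ c : A, y * s (c + y * s c) = c + y * s c := by
    intro c
    rw [map_add, map_mul, hs, mul_add, ← mul_assoc, hy, one_mul, add_comm]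
  rcases hu (1 + y * s 1) with h | h
  · exact ⟨_, h, key 1⟩
  · rcases hu (τ + y * s τ) with h' | h'
    · exact ⟨_, h', key τ⟩
    · exfalso
      apply not_isUnit h0 hne he
      have h8 : π ∣ y * δ := by
        have h9 := dvd_sub (h.mul_left τ) h'
        rw [map_one, h5] at h9
        have e1 : τ * (1 + y * 1) - (τ + y * (τ - δ)) = y * δ := by ring
        rwa [e1] at h9
      have hyu : IsUnit y := IsUnit.of_mul_eq_one _ hy
      exact isUnit_of_dvd_unit h8 (hyu.mul hδ)

end Final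

/-- `A` a finite local principal ideal ring, an `F`-algebra with involution `s` inducing `c ↦ c ^ q` on the field `F` with `q²`
elements, `dim A` odd.  Norm one elements `y`, weighted with `(-q) ^ dim (annihilator of y - 1)`, sum to zero. -/
theorem loc_sum {F A : Type*} [Field F] [Finite F] [CommRing A] [Finite A] [Algebra F A] [IsLocalRing A]
    [IsPrincipalIdealRing A] {q : ℕ} (h2 : 2 ≤ q) (hF : Nat.card F = q ^ 2) (s : A ≃+* A)
    (hs : ∀ a, s (s a) = a) (hsF : ∀ c : F, s (algebraMap F A c) = algebraMap F A (c ^ q))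
    (hodd : Odd (finrank F A)) :
    ∑ᶠ y : {y : A // y * s y = 1}, (-(q : ℂ)) ^ finrank F (LinearMap.ker (LinearMap.mulLeft F ((y : A) - 1))) = 0 := by
  classical
  have := Fintype.ofFinite A
  obtain ⟨π, e, h0, hne, hu⟩ := exists_pi (A := A)
  have h3 := finrank_eq (F := F) h0 hne hu
  have h4 : Odd (finrank F (II F π (e - 1))) ∧ Odd e := by
    have := hodd
    rw [h3, Nat.odd_mul] at this
    exact this
  have he0 : 0 < e := h4.2.pos
  have h5 := sum_units h2 hF hs hsF h0 hne hu hodd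
  let φ : Aˣ →* Aˣ := MonoidHom.id Aˣ / Units.map (s : A →* A)
  have hφ : ∀ b : Aˣ, ((φ b : Aˣ) : A) * s b = b := by
    intro b
    show ((b / Units.map (s : A →* A) b : Aˣ) : A) * s b = b
    have h6 : s (b : A) = ((Units.map (s : A →* A) b : Aˣ) : A) := rfl
    rw [h6, ← Units.val_mul, div_mul_cancel]
  have h6 : ∑ b : Aˣ, ww F q (((φ b : Aˣ) : A) - 1) = 0 := by
    rw [← h5]
    refine Finset.sum_bij (fun b _ => (b : A)) (fun b _ => Finset.mem_filter.2 ⟨Finset.mem_univ _, b.isUnit⟩)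
      (fun b _ c _ h => Units.ext h) (fun b hb => ?_) (fun b _ => ?_)
    · obtain ⟨u, rfl⟩ := (Finset.mem_filter.1 hb).2
      exact ⟨u, Finset.mem_univ _, rfl⟩
    · have h7 : (b : A) - s b = (((φ b : Aˣ) : A) - 1) * s b := by
        rw [sub_mul, hφ, one_mul]
      rw [h7, ww_mul (b.isUnit.map s)]
  rw [Finset.sum_comp (fun y : Aˣ => ww F q ((y : A) - 1)) (fun b => φ b)] at h6
  have h7 : ∀ y ∈ Finset.univ.image (fun b => φ b), (Finset.univ.filter fun a => φ a = y).card =
      (Finset.univ.filter fun a => φ a = 1).card := by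
    intro y hy
    rw [Finset.mem_image] at hy
    obtain ⟨b, -, hb⟩ := hy
    exact MonoidHom.card_fiber_eq_of_mem_range φ ⟨b, hb⟩ ⟨1, map_one φ⟩
  rw [Finset.sum_congr rfl fun y hy => by rw [h7 y hy], ← Finset.smul_sum, smul_eq_zero] at h6
  have h8 : (Finset.univ.filter fun a => φ a = 1).card ≠ 0 := by
    rw [Finset.card_ne_zero]
    exact ⟨1, Finset.mem_filter.2 ⟨Finset.mem_univ _, map_one φ⟩⟩
  have h9 := h6.resolve_left h8
  rw [← h9, finsum_eq_sum_of_fintype]
  symm
  have hN : ∀ y : Aˣ, y ∈ Finset.univ.image (fun b => φ b) → (y : A) * s y = 1 := by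
    intro y hy
    rw [Finset.mem_image] at hy
    obtain ⟨b, -, rfl⟩ := hy
    have h10 := hφ b
    have h11 := congrArg s h10
    rw [map_mul, hs] at h11
    have h12 : ((φ b : Aˣ) : A) * s (φ b : Aˣ) * (b : A) = 1 * b := by
      rw [one_mul]
      calc ((φ b : Aˣ) : A) * s (φ b : Aˣ) * (b : A) = ((φ b : Aˣ) : A) * (s (φ b : Aˣ) * (b : A)) := by ring
        _ = b := by rw [h11, h10]
    exact b.isUnit.mul_right_cancel h12
  refine Finset.sum_bij (fun y hy => ⟨(y : A), hN y hy⟩) (fun y _ => Finset.mem_univ _)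
    (fun b _ c _ h => Units.ext (congrArg Subtype.val h)) (fun y _ => ?_) (fun y _ => rfl)
  obtain ⟨b, hb, hb'⟩ := hilbert90 h2 hF hs hsF h0 hne hu he0 y.2
  obtain ⟨u, rfl⟩ := hb
  refine ⟨φ u, Finset.mem_image.2 ⟨u, Finset.mem_univ _, rfl⟩, Subtype.ext ?_⟩
  have h10 := hφ u
  exact (u.isUnit.map s).mul_right_cancel (h10.trans hb'.symm)

end Cfsg.Agent.H128.CCLoc
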