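import Cfsg.Agent.H128.Cross3
import Cfsg.Agent.H55.OutGen
import Cfsg.Agent.S2601
import Cfsg.Agent.S2603
import Cfsg.Agent.S2606

/-!
# Classical groups in characteristic three (helper128)

`Hyp3 L`: `Hyp L` and, if `3 ^ 13` does not divide `|L|`, then `3 ∣ |Out L|`. A classical simple group with this
property is `PΩ₈⁺(3)` (`classical`).
-/

set_option autoImplicit false

namespace Cfsg.Agent.H128.Char3

open Cfsg H341.ThreeList Cross3

universe u

structure Hyp3 (L : Type u) [Group L] : Prop extends Hyp L where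
  hout : ¬ 3 ^ 13 ∣ Nat.card L → 3 ∣ Nat.card (Cfsg.Out L)

theorem Hyp3.congr {L : Type u} [Group L] {M : Type*} [Group M] (h : Hyp3 L) (e : L ≃* M) : Hyp3 M where
  toHyp := h.toHyp.congr e
  hout := by
    rw [← Nat.card_congr e.toEquiv, ← H55.OutGen.card_out_congr e]
    exact h.hout

theorem Hyp.card_le {L : Type u} [Group L] (h : Hyp L) {A : Type*} [CommGroup A] (hA : IsPGroup 3 A) (g : A →* L)
    (hg : Function.Injective g) : Nat.card A ≤ 3 ^ 7 := by
  have h1 : Nat.card A = Nat.card g.range := Nat.card_congr (MonoidHom.ofInjective hg).toEquiv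
  rw [h1]
  apply h.hab
  · have h2 : IsPGroup 3 (⊤ : Subgroup A) := by
      intro x
      obtain ⟨k, hk⟩ := hA x
      exact ⟨k, Subtype.ext hk⟩
    rw [MonoidHom.range_eq_map]
    exact h2.map g
  · rintro _ ⟨a, rfl⟩ _ ⟨b, rfl⟩
    rw [← map_mul, ← map_mul, mul_comm]

/-! ### arithmetic -/

theorem not_dvd_sub_one {q k : ℕ} (hq : 3 ∣ q) (hq1 : 1 ≤ q) (hk : k ≠ 0) : ¬ 3 ∣ q ^ k - 1 := by
  intro h
  have h1 : 3 ∣ q ^ k := hq.trans (dvd_pow_self q hk)
  have h2 : 1 ≤ q ^ k := Nat.one_le_pow _ _ hq1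
  omega

theorem not_dvd_add_one {q k : ℕ} (hq : 3 ∣ q) (hk : k ≠ 0) : ¬ 3 ∣ q ^ k + 1 := by
  intro h
  have h1 : 3 ∣ q ^ k := hq.trans (dvd_pow_self q hk)
  omega

theorem not_dvd_prod {ι : Type*} (s : Finset ι) (f : ι → ℕ) (h : ∀ i ∈ s, ¬ 3 ∣ f i) : ¬ 3 ∣ ∏ i ∈ s, f i := by
  intro hd
  obtain ⟨i, hi, hdi⟩ := (Prime.dvd_finset_prod_iff Nat.prime_three.prime f).1 hd
  exact h i hi hdi

/-- the exponent of `3` -/
theorem pow_dvd_iff {d c r q N f k : ℕ} (hd : ¬ 3 ∣ d) (hr : ¬ 3 ∣ r) (hq : q = 3 ^ f) (h : d * c = q ^ N * r) :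
    3 ^ k ∣ c ↔ k ≤ f * N := by
  have hcd : Nat.Coprime 3 d := (Nat.Prime.coprime_iff_not_dvd Nat.prime_three).2 hd
  have hcr : Nat.Coprime 3 r := (Nat.Prime.coprime_iff_not_dvd Nat.prime_three).2 hr
  have h1 : 3 ^ k ∣ c ↔ 3 ^ k ∣ d * c :=
    ⟨fun h => h.mul_left d, fun h => (hcd.pow_left k).dvd_of_dvd_mul_left h⟩
  have h2 : 3 ^ k ∣ q ^ N * r ↔ 3 ^ k ∣ q ^ N :=
    ⟨fun h => (hcr.pow_left k).dvd_of_dvd_mul_right h, fun h => h.mul_right r⟩
  rw [h1, h, h2, hq, ← pow_mul]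
  exact Nat.pow_dvd_pow_iff_le_right (by norm_num)

theorem Hyp.bounds {L : Type u} [Group L] (h : Hyp L) {d r q N f : ℕ} (hd : ¬ 3 ∣ d) (hr : ¬ 3 ∣ r) (hq : q = 3 ^ f)
    (hc : d * Nat.card L = q ^ N * r) : f * N = 12 ∨ f * N = 13 := by
  have h1 := (pow_dvd_iff hd hr hq hc).1 h.h12
  have h2 : ¬ 14 ≤ f * N := fun h' => h.h14 ((pow_dvd_iff hd hr hq hc).2 h')
  omega

theorem Hyp3.out_dvd {L : Type u} [Group L] (h : Hyp3 L) {d r q N f : ℕ} (hd : ¬ 3 ∣ d) (hr : ¬ 3 ∣ r) (hq : q = 3 ^ f)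
    (hc : d * Nat.card L = q ^ N * r) (h12 : f * N = 12) : 3 ∣ Nat.card (Cfsg.Out L) := by
  apply h.hout
  rw [pow_dvd_iff hd hr hq hc]
  omega

variable {F : Type} [Field F] [Fintype F]

theorem char_three (h : 3 ∣ Fintype.card F) : ∃ f : ℕ, 1 ≤ f ∧ Fintype.card F = 3 ^ f ∧ CharP F 3 := by
  obtain ⟨p, hp⟩ := CharP.exists F
  obtain ⟨n, hpp, hn⟩ := FiniteField.card F p
  have h1 : 3 = p := (Nat.prime_dvd_prime_iff_eq Nat.prime_three hpp).1 (by
    rw [hn] at h
    exact Nat.prime_three.dvd_of_dvd_pow h)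
  subst h1
  exact ⟨n, n.2, hn, hp⟩

theorem three_pGroup_mult [CharP F 3] {n : ℕ} : IsPGroup 3 (Multiplicative (Fin n → F)) := by
  intro x
  refine ⟨1, ?_⟩
  apply Multiplicative.toAdd.injective
  rw [toAdd_pow, toAdd_one, pow_one]
  funext i
  rw [Pi.smul_apply, nsmul_eq_mul]
  have : ((3 : ℕ) : F) = 0 := CharP.cast_eq_zero F 3
  rw [this, zero_mul]
  rfl

theorem card_mult (n : ℕ) : Nat.card (Multiplicative (Fin n → F)) = Fintype.card F ^ n := by
  have h1 : Nat.card (Multiplicative (Fin n → F)) = Nat.card (Fin n → F) := rfl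
  rw [h1, Nat.card_eq_fintype_card, Fintype.card_fun, Fintype.card_fin]

/-- an injective homomorphism from a `3`-group stays injective modulo a centre of order prime to `3` -/
theorem comp_injective {A X : Type*} [CommGroup A] [Group X] (hA : IsPGroup 3 A) (g : A →* X)
    (hg : Function.Injective g) (hc : ∀ x ∈ Subgroup.center X, x ^ 3 = 1 → x = 1) :
    Function.Injective ((QuotientGroup.mk' (Subgroup.center X)).comp g) := by
  rw [← MonoidHom.ker_eq_bot_iff, Subgroup.eq_bot_iff_forall]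
  intro a ha
  by_contra ha1
  have h1 : g a ∈ Subgroup.center X := (QuotientGroup.eq_one_iff _).1 ha
  obtain ⟨k, hk⟩ := hA a
  have hex : ∃ k, a ^ 3 ^ k = 1 := ⟨k, hk⟩
  classical
  set m := Nat.find hex with hm
  have hm1 : a ^ 3 ^ m = 1 := Nat.find_spec hex
  have hm0 : m ≠ 0 := by
    intro h0
    rw [h0, pow_zero, pow_one] at hm1
    exact ha1 hm1
  have h2 : a ^ 3 ^ (m - 1) ≠ 1 := Nat.find_min hex (by omega)
  apply h2
  apply hg
  rw [map_one]
  apply hc
  · rw [map_pow]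
    exact Subgroup.pow_mem _ h1 _
  · rw [← map_pow, ← pow_mul, ← pow_succ, Nat.sub_add_cancel (by omega), hm1, map_one]

/-! ### linear groups -/

theorem cube_eq_one [CharP F 3] {r : F} (h : r ^ 3 = 1) : r = 1 := by
  have : Fact (Nat.Prime 3) := ⟨Nat.prime_three⟩
  have h1 : (r - 1) ^ 3 = 0 := by
    rw [sub_pow_char, h, one_pow, sub_self]
  exact sub_eq_zero.1 (pow_eq_zero_iff (by norm_num) |>.1 h1)

theorem center_sl [CharP F 3] {n : ℕ} (hn : 0 < n) : ∀ x ∈ Subgroup.center (Matrix.SpecialLinearGroup (Fin n) F),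
    x ^ 3 = 1 → x = 1 := by
  intro x hx h3
  rw [Matrix.SpecialLinearGroup.mem_center_iff] at hx
  obtain ⟨r, -, hr⟩ := hx
  have h1 : r ^ 3 = 1 := by
    have h2 := congrArg (fun y : Matrix.SpecialLinearGroup (Fin n) F => (y : Matrix (Fin n) (Fin n) F)) h3
    simp only [Matrix.SpecialLinearGroup.coe_pow, Matrix.SpecialLinearGroup.coe_one] at h2
    rw [← hr, ← map_pow] at h2
    have h4 := congrFun (congrFun h2 ⟨0, hn⟩) ⟨0, hn⟩
    simpa using h4
  apply Subtype.ext
  rw [← hr, cube_eq_one h1, map_one]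
  rfl

/-- unipotent subgroup of `SL₂` -/
def u2 : Multiplicative (Fin 1 → F) →* Matrix.SpecialLinearGroup (Fin 2) F where
  toFun x := ⟨!![1, x.toAdd 0; 0, 1], by simp [Matrix.det_fin_two]⟩
  map_one' := by
    apply Subtype.ext
    ext i j
    fin_cases i <;> fin_cases j <;> simp
  map_mul' x y := by
    apply Subtype.ext
    change !![1, x.toAdd 0 + y.toAdd 0; 0, 1] = !![1, x.toAdd 0; 0, 1] * !![1, y.toAdd 0; 0, 1]
    ext i j
    fin_cases i <;> fin_cases j <;> simp [Matrix.mul_apply, Fin.sum_univ_succ, add_comm]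

theorem u2_injective : Function.Injective (u2 (F := F)) := by
  intro x y h
  have h1 := congrArg (fun z : Matrix.SpecialLinearGroup (Fin 2) F => (z : Matrix (Fin 2) (Fin 2) F) 0 1) h
  apply Multiplicative.toAdd.injective
  funext i
  fin_cases i
  exact h1

theorem psl_three {n : ℕ} (hn : 2 ≤ n) (hF : 3 ∣ Fintype.card F)
    (h : Hyp3 (Matrix.ProjectiveSpecialLinearGroup (Fin n) F)) : False := by
  obtain ⟨f, hf, hcard, hchar⟩ := char_three hF
  have : Fact (Nat.Prime 3) := ⟨Nat.prime_three⟩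
  have hc := card_psl (F := F) hn
  have hq1 : 1 ≤ Fintype.card F := Fintype.card_pos
  have hd : ¬ 3 ∣ Nat.gcd n (Fintype.card F - 1) := fun h' => by
    have := h'.trans (Nat.gcd_dvd_right _ _)
    omega
  have hr : ¬ 3 ∣ ∏ j ∈ Finset.range (n - 1), (Fintype.card F ^ (j + 2) - 1) :=
    not_dvd_prod _ _ fun j _ => not_dvd_sub_one hF hq1 (by omega)
  have hb := Hyp.bounds h.toHyp hd hr hcard hc
  have hN : n * (n - 1) / 2 ≤ 13 := by
    rcases hb with hb | hb <;> nlinarith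
  have hn6 : n ≤ 5 := by
    by_contra hcon
    have h1 : 6 * 5 ≤ n * (n - 1) := Nat.mul_le_mul (by omega) (by omega)
    omega
  interval_cases n
  · -- `PSL₂`
    have h1 := Hyp.card_le h.toHyp (three_pGroup_mult (F := F) (n := 1)) _
      (comp_injective three_pGroup_mult u2 u2_injective (center_sl (by norm_num)))
    rw [card_mult, hcard, pow_one] at h1
    have h2 := (Nat.pow_le_pow_iff_right (by norm_num)).1 h1
    omega
  · -- `PSL₃(81)`
    have hf4 : f = 4 := by omega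
    subst hf4
    have h1 := h.out_dvd hd hr hcard hc (by norm_num)
    obtain ⟨φ, hφ, -, hk⟩ := S2601.result (F := F) (p := 3) (f := 4) (n := 3) (by norm_num) hcard (by norm_num)
    have h2 := Subgroup.card_mul_index φ.ker
    rw [Subgroup.index_ker, MonoidHom.range_eq_top.2 hφ, Subgroup.card_top, hk] at h2
    rw [← h2] at h1
    revert h1
    have h3 : Nat.card (Multiplicative (ZMod 4 × ZMod 2)) = 8 := by
      change Nat.card (ZMod 4 × ZMod 2) = 8
      rw [Nat.card_prod, Nat.card_zmod, Nat.card_zmod]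
    rw [h3]
    norm_num
  · -- `PSL₄(9)`
    have hf4 : f = 2 := by omega
    subst hf4
    have h1 := h.out_dvd hd hr hcard hc (by norm_num)
    obtain ⟨φ, hφ, -, hk⟩ := S2601.result (F := F) (p := 3) (f := 2) (n := 4) (by norm_num) hcard (by norm_num)
    have h2 := Subgroup.card_mul_index φ.ker
    rw [Subgroup.index_ker, MonoidHom.range_eq_top.2 hφ, Subgroup.card_top, hk] at h2
    rw [← h2] at h1
    revert h1
    have h3 : Nat.card (Multiplicative (ZMod 2 × ZMod 2)) = 4 := by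
      change Nat.card (ZMod 2 × ZMod 2) = 4
      rw [Nat.card_prod, Nat.card_zmod]
    rw [h3]
    norm_num
  · omega

/-! ### unitary groups -/

theorem psu_three {n q : ℕ} (hF : Fintype.card F = q ^ 2) (hn : 3 ≤ n) (hq : 3 ∣ q) (h : Hyp3 (PSU n F q)) :
    False := by
  have : Fact (Nat.Prime 3) := ⟨Nat.prime_three⟩
  have hF3 : 3 ∣ Fintype.card F := by
    rw [hF]
    exact hq.trans (dvd_pow_self q (by norm_num))
  obtain ⟨g, hg, hcard, hchar⟩ := char_three hF3
  obtain ⟨f, -, hqf⟩ : ∃ l ≤ g, q = 3 ^ l := (Nat.dvd_prime_pow Nat.prime_three).1 (by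
    rw [← hcard, hF]
    exact Dvd.intro_left q (by ring))
  have hf1 : 1 ≤ f := by
    by_contra hcon
    rw [show f = 0 by omega, pow_zero] at hqf
    rw [hqf] at hq
    omega
  have hc := card_psu (F := F) hF (show 2 ≤ n by omega)
  have hq1 : 1 ≤ q := by
    rw [hqf]
    exact Nat.one_le_pow _ _ (by norm_num)
  have hd : ¬ 3 ∣ Nat.gcd n (q + 1) := fun h' => by
    have := h'.trans (Nat.gcd_dvd_right _ _)
    omega
  have hr : ¬ 3 ∣ ∏ j ∈ Finset.range (n - 1), (if Even j then q ^ (j + 2) - 1 else q ^ (j + 2) + 1) :=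
    not_dvd_prod _ _ fun j _ => by
      split_ifs
      · exact not_dvd_sub_one hq hq1 (by omega)
      · exact not_dvd_add_one hq (by omega)
  have hb := Hyp.bounds h.toHyp hd hr hqf hc
  have hN : n * (n - 1) / 2 ≤ 13 := by
    rcases hb with hb | hb <;> nlinarith
  have hn6 : n ≤ 5 := by
    by_contra hcon
    have h1 : 6 * 5 ≤ n * (n - 1) := Nat.mul_le_mul (by omega) (by omega)
    omega
  interval_cases n
  · have hf4 : f = 4 := by omega
    subst hf4
    have h1 := h.out_dvd hd hr hqf hc (by norm_num)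
    obtain ⟨φ, hφ, -, hk⟩ := S2603.result (K := F) (p := 3) (f := 4) (n := 3) (by norm_num) hqf hF (by norm_num)
      (by rintro ⟨-, h2⟩; rw [hqf] at h2; norm_num at h2)
    have h2 := Subgroup.card_mul_index φ.ker
    rw [Subgroup.index_ker, MonoidHom.range_eq_top.2 hφ, Subgroup.card_top, hk] at h2
    rw [← h2, hqf] at h1
    revert h1
    have h3 : Nat.card (Multiplicative (ZMod (2 * 4))) = 8 := by
      change Nat.card (ZMod (2 * 4)) = 8
      rw [Nat.card_zmod]
    rw [h3]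
    norm_num
  · have hf4 : f = 2 := by omega
    subst hf4
    have h1 := h.out_dvd hd hr hqf hc (by norm_num)
    obtain ⟨φ, hφ, -, hk⟩ := S2603.result (K := F) (p := 3) (f := 2) (n := 4) (by norm_num) hqf hF (by norm_num)
      (by rintro ⟨h2, -⟩; norm_num at h2)
    have h2 := Subgroup.card_mul_index φ.ker
    rw [Subgroup.index_ker, MonoidHom.range_eq_top.2 hφ, Subgroup.card_top, hk] at h2
    rw [← h2, hqf] at h1
    revert h1
    have h3 : Nat.card (Multiplicative (ZMod (2 * 2))) = 4 := by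
      change Nat.card (ZMod (2 * 2)) = 4
      rw [Nat.card_zmod]
    rw [h3]
    norm_num
  · omega

/-! ### symplectic groups -/

/-- unipotent subgroup of `Sp₄` -/
def u4 : Multiplicative (Fin 3 → F) →* Matrix.symplecticGroup (Fin 2) F where
  toFun x := ⟨Matrix.fromBlocks 1 !![x.toAdd 0, x.toAdd 1; x.toAdd 1, x.toAdd 2] 0 1, by
    rw [SymplecticGroup.mem_iff]
    simp only [Matrix.J, Matrix.fromBlocks_multiply, Matrix.fromBlocks_transpose]
    have h1 : (!![x.toAdd 0, x.toAdd 1; x.toAdd 1, x.toAdd 2] : Matrix (Fin 2) (Fin 2) F).transpose =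
        !![x.toAdd 0, x.toAdd 1; x.toAdd 1, x.toAdd 2] := by
      ext i j
      fin_cases i <;> fin_cases j <;> rfl
    rw [h1]
    have h2 : (!![(0 : F), 0; 0, 0] : Matrix (Fin 2) (Fin 2) F) = 0 := by
      ext i j
      fin_cases i <;> fin_cases j <;> rfl
    simp [h2]⟩
  map_one' := by
    apply Subtype.ext
    change Matrix.fromBlocks 1 !![(0 : F), 0; 0, 0] 0 1 = 1
    have h1 : (!![(0 : F), 0; 0, 0] : Matrix (Fin 2) (Fin 2) F) = 0 := by
      ext i j
      fin_cases i <;> fin_cases j <;> rfl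
    rw [h1, Matrix.fromBlocks_one]
  map_mul' x y := by
    apply Subtype.ext
    change Matrix.fromBlocks 1 _ 0 1 = Matrix.fromBlocks 1 _ 0 1 * Matrix.fromBlocks 1 _ 0 1
    rw [Matrix.fromBlocks_multiply]
    congr 1
    · simp
    · ext i j
      fin_cases i <;> fin_cases j <;> simp [add_comm]
    · simp
    · simp

theorem u4_injective : Function.Injective (u4 (F := F)) := by
  intro x y h
  have h0 := congrArg (fun z : Matrix.symplecticGroup (Fin 2) F => (z : Matrix (Fin 2 ⊕ Fin 2) (Fin 2 ⊕ Fin 2) F)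
    (.inl 0) (.inr 0)) h
  have h1 := congrArg (fun z : Matrix.symplecticGroup (Fin 2) F => (z : Matrix (Fin 2 ⊕ Fin 2) (Fin 2 ⊕ Fin 2) F)
    (.inl 0) (.inr 1)) h
  have h2 := congrArg (fun z : Matrix.symplecticGroup (Fin 2) F => (z : Matrix (Fin 2 ⊕ Fin 2) (Fin 2 ⊕ Fin 2) F)
    (.inl 1) (.inr 1)) h
  apply Multiplicative.toAdd.injective
  funext i
  fin_cases i
  · exact h0
  · exact h1
  · exact h2

theorem center_sp [CharP F 3] : ∀ x ∈ Subgroup.center (Matrix.symplecticGroup (Fin 2) F), x ^ 3 = 1 → x = 1 := by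
  intro x hx h3
  have : Finite (Matrix.symplecticGroup (Fin 2) F) :=
    Finite.of_injective (fun x => (x : Matrix (Fin 2 ⊕ Fin 2) (Fin 2 ⊕ Fin 2) F)) Subtype.val_injective
  have hc := S0246.result (F := F) rfl 2 (by norm_num)
  have h4 : x ^ (Nat.gcd 2 (Fintype.card F - 1)) = 1 := by
    have h5 : (⟨x, hx⟩ : Subgroup.center (Matrix.symplecticGroup (Fin 2) F)) ^ Nat.card
        (Subgroup.center (Matrix.symplecticGroup (Fin 2) F)) = 1 := pow_card_eq_one'
    rw [hc] at h5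
    exact congrArg Subtype.val h5
  have h5 : x ^ 2 = 1 := by
    obtain ⟨k, hk⟩ := Nat.gcd_dvd_left 2 (Fintype.card F - 1)
    have h6 : x ^ (Nat.gcd 2 (Fintype.card F - 1) * k) = 1 := by rw [pow_mul, h4, one_pow]
    exact (congrArg (fun n => x ^ n) hk).trans h6
  rw [pow_succ, h5, one_mul] at h3
  exact h3

theorem psp_three {m : ℕ} (hm : 2 ≤ m) (hF : 3 ∣ Fintype.card F) (h : Hyp3 (PSp m F)) : False := by
  obtain ⟨f, hf, hcard, hchar⟩ := char_three hF
  have hc := card_psp (F := F) (m := m) (by omega)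
  have hq1 : 1 ≤ Fintype.card F := Fintype.card_pos
  have hr : ¬ 3 ∣ ∏ i ∈ Finset.range m, (Fintype.card F ^ (2 * (i + 1)) - 1) :=
    not_dvd_prod _ _ fun j _ => not_dvd_sub_one hF hq1 (by omega)
  have hb := Hyp.bounds h.toHyp not_dvd_gcd_two hr hcard hc
  have hm3 : m ≤ 3 := by
    by_contra hcon
    have h1 : 4 * 4 ≤ m ^ 2 := by nlinarith
    rcases hb with hb | hb <;> nlinarith
  interval_cases m
  · have h1 := Hyp.card_le h.toHyp (three_pGroup_mult (F := F) (n := 3)) _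
      (comp_injective three_pGroup_mult u4 u4_injective center_sp)
    rw [card_mult, hcard, ← pow_mul] at h1
    have h2 := (Nat.pow_le_pow_iff_right (by norm_num)).1 h1
    omega
  · omega

/-! ### orthogonal groups -/

theorem oodd_three {m : ℕ} (hm : 3 ≤ m) (ho : Odd (Fintype.card F)) (hF : 3 ∣ Fintype.card F)
    (h : Hyp3 (POmega F (quadFormOdd m F))) : False := by
  obtain ⟨f, hf, hcard, hchar⟩ := char_three hF
  have hc := S0292.result (F := F) rfl ho m hm
  have hq1 : 1 ≤ Fintype.card F := Fintype.card_pos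
  have hr : ¬ 3 ∣ ∏ i ∈ Finset.range m, (Fintype.card F ^ (2 * (i + 1)) - 1) :=
    not_dvd_prod _ _ fun j _ => not_dvd_sub_one hF hq1 (by omega)
  have hb := Hyp.bounds h.toHyp (by norm_num) hr hcard hc
  have hm3 : m ≤ 3 := by
    by_contra hcon
    have h1 : 4 * 4 ≤ m ^ 2 := by nlinarith
    rcases hb with hb | hb <;> nlinarith
  interval_cases m
  omega

theorem three_mul {m : ℕ} (hm : 4 ≤ m) {f : ℕ} (hf : 1 ≤ f) (hb : f * (m * (m - 1)) = 12 ∨ f * (m * (m - 1)) = 13) :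
    m = 4 ∧ f = 1 := by
  have hm3 : m ≤ 4 := by
    by_contra hcon
    have h1 : 5 * 4 ≤ m * (m - 1) := Nat.mul_le_mul (by omega) (by omega)
    rcases hb with hb | hb <;> nlinarith
  obtain rfl : m = 4 := by omega
  refine ⟨rfl, ?_⟩
  omega

theorem not_dvd_mul {a b : ℕ} (ha : ¬ 3 ∣ a) (hb : ¬ 3 ∣ b) : ¬ 3 ∣ a * b := fun h =>
  (Nat.prime_three.dvd_mul.1 h).elim ha hb

theorem oplus_three {m : ℕ} (hm : 4 ≤ m) (hF : 3 ∣ Fintype.card F)
    (h : Hyp3 (POmega F (quadFormPlus m F))) : m = 4 ∧ Fintype.card F = 3 := by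
  obtain ⟨f, hf, hcard, hchar⟩ := char_three hF
  have hc := S0293.result (F := F) rfl m hm
  have hq1 : 1 ≤ Fintype.card F := Fintype.card_pos
  have hr : ¬ 3 ∣ (Fintype.card F ^ m - 1) * ∏ i ∈ Finset.range (m - 1), (Fintype.card F ^ (2 * (i + 1)) - 1) :=
    not_dvd_mul (not_dvd_sub_one hF hq1 (by omega)) (not_dvd_prod _ _ fun j _ => not_dvd_sub_one hF hq1 (by omega))
  rw [mul_assoc] at hc
  have hb := Hyp.bounds h.toHyp not_dvd_gcd_four hr hcard hc
  obtain ⟨h1, h2⟩ := three_mul hm hf hb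
  exact ⟨h1, by rw [hcard, h2, pow_one]⟩

theorem ominus_three {m : ℕ} (hm : 4 ≤ m) {a b : F}
    (hab : ∀ z₁ z₂ : F, z₁ ^ 2 + a * z₁ * z₂ + b * z₂ ^ 2 = 0 → z₁ = 0 ∧ z₂ = 0) (hF : 3 ∣ Fintype.card F)
    (h : Hyp3 (POmega F (quadFormMinus (m - 1) F a b))) : False := by
  have : Fact (Nat.Prime 3) := ⟨Nat.prime_three⟩
  obtain ⟨f, hf, hcard, hchar⟩ := char_three hF
  have hc := S0294.result (F := F) rfl m hm a b hab
  have hq1 : 1 ≤ Fintype.card F := Fintype.card_pos
  have hr : ¬ 3 ∣ (Fintype.card F ^ m + 1) * ∏ i ∈ Finset.range (m - 1), (Fintype.card F ^ (2 * (i + 1)) - 1) :=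
    not_dvd_mul (not_dvd_add_one hF (by omega)) (not_dvd_prod _ _ fun j _ => not_dvd_sub_one hF hq1 (by omega))
  rw [mul_assoc] at hc
  have hb := Hyp.bounds h.toHyp not_dvd_gcd_four hr hcard hc
  obtain ⟨rfl, rfl⟩ := three_mul hm hf hb
  have h1 := h.out_dvd not_dvd_gcd_four hr hcard hc (by norm_num)
  have h2 := S2606.result (F := F) (p := 3) (f := 1) (m := 4) le_rfl hcard (by norm_num) le_rfl a b hab
  rw [if_neg (by
    rintro ⟨-, h3⟩
    exact absurd h3 (by decide))] at h2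
  obtain ⟨e⟩ := h2
  rw [Nat.card_congr e.toEquiv] at h1
  revert h1
  have h3 : Nat.card (Multiplicative (ZMod 2 × ZMod (2 * 1))) = 4 := by
    change Nat.card (ZMod 2 × ZMod (2 * 1)) = 4
    rw [Nat.card_prod, Nat.card_zmod]
  rw [h3]
  norm_num

end Cfsg.Agent.H128.Char3
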