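import Cfsg.Agent.H128.AbelianClassical

/-!
# Large abelian `p`-subgroups of the classical simple groups in cross characteristic: the families (helper128)

`HasAb p G N`: the group `G` has an abelian `p`-subgroup `B` such that `|G|_p` divides `|B| * N!`.
`hasAb_psl`, `hasAb_psl_half`, `hasAb_psu`, `hasAb_psu_half`, `hasAb_psp`, `hasAb_oodd`, `hasAb_oplus`, `hasAb_ominus`.
-/

set_option autoImplicit false

namespace Cfsg.Agent.H128.ClassicalAb

open Cfsg Module Weights AbelianClassical
open scoped Matrix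

variable {F : Type} [Field F] [Fintype F]

/-! ### linear groups -/

theorem slToMat_injective (n : ℕ) : Function.Injective (slToMat n F) := by
  intro x y h
  apply Subtype.ext
  exact h

theorem finite_sl (n : ℕ) : Finite (Matrix.SpecialLinearGroup (Fin n) F) :=
  Finite.of_injective (fun x => (x : Matrix (Fin n) (Fin n) F)) Subtype.val_injective

theorem hasAb_psl {p : ℕ} [Fact p.Prime] (hp : (p : F) ≠ 0) (n : ℕ) :
    HasAb p (Matrix.ProjectiveSpecialLinearGroup (Fin n) F) n := by
  have := finite_sl (F := F) n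
  exact hasAb_mat hp (slToMat_injective n) (QuotientGroup.mk' _) (QuotientGroup.mk'_surjective _) (Fintype.card_fin n)

theorem hasAb_psl_half {p : ℕ} [Fact p.Prime] (hp2 : p ≠ 2) (hp : (p : F) ≠ 0) (hq : p ∣ Fintype.card F + 1) (n : ℕ) :
    HasAb p (Matrix.ProjectiveSpecialLinearGroup (Fin n) F) (n / 2) := by
  have := finite_sl (F := F) n
  exact hasAb_frob hp2 hp (slToMat_injective n) (QuotientGroup.mk' _) (QuotientGroup.mk'_surjective _) hq
    (by rw [Fintype.card_fin])

/-! ### unitary groups -/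

theorem hasAb_psu {p : ℕ} [Fact p.Prime] (hp : (p : F) ≠ 0) (n q : ℕ) : HasAb p (PSU n F q) n := by
  have := finite_sl (F := F) n
  exact hasAb_mat (μ := (slToMat n F).comp (SU n F q).subtype) hp
    ((slToMat_injective n).comp Subtype.val_injective) (QuotientGroup.mk' _)
    (QuotientGroup.mk'_surjective _) (Fintype.card_fin n)

theorem hasAb_psu_half {p : ℕ} [Fact p.Prime] (hp2 : p ≠ 2) (hp : (p : F) ≠ 0) {q : ℕ} (hF : Fintype.card F = q ^ 2)
    (hq : (p : ℤ) ∣ (q : ℤ) - 1) (n : ℕ) : HasAb p (PSU n F q) (n / 2) := by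
  have := finite_sl (F := F) n
  refine hasAb_unitary (μ := (slToMat n F).comp (SU n F q).subtype) hp2 hp
    ((slToMat_injective n).comp Subtype.val_injective) (QuotientGroup.mk' _)
    (QuotientGroup.mk'_surjective _) hF hq ?_ (by rw [Fintype.card_fin])
  intro x u v
  exact x.2 u v

/-! ### symplectic groups -/

theorem hasAb_psp {p : ℕ} [Fact p.Prime] (hp2 : p ≠ 2) (hp : (p : F) ≠ 0) (m : ℕ) : HasAb p (PSp m F) m := by
  have : Finite (Matrix.symplecticGroup (Fin m) F) :=
    Finite.of_injective (fun x => (x : Matrix (Fin m ⊕ Fin m) (Fin m ⊕ Fin m) F)) Subtype.val_injective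
  refine hasAb_form (μ := (Matrix.symplecticGroup (Fin m) F).subtype) hp2 hp Subtype.val_injective
    (QuotientGroup.mk' _) (QuotientGroup.mk'_surjective _) (Matrix.J (Fin m) F) (Matrix.isUnit_det_J (Fin m) F) ?_ ?_
  · intro x
    exact SymplecticGroup.mem_iff'.1 x.2
  · rw [Fintype.card_sum, Fintype.card_fin]
    omega

/-! ### orthogonal groups -/

section Quad

variable {ι : Type} [Fintype ι] [DecidableEq ι]

theorem hasAb_quad {p : ℕ} [Fact p.Prime] (hp2 : p ≠ 2) (hp : (p : F) ≠ 0) (Q : (ι → F) → F)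
    (B : (ι → F) →ₗ[F] (ι → F) →ₗ[F] F) (hB : ∀ u v, Q (u + v) = Q u + Q v + B u v)
    (hnd : ∀ w, (∀ v, B v w = 0) → w = 0) {N : ℕ} (hN : Fintype.card ι / 2 = N) : HasAb p (POmega F Q) N := by
  have hfin : Finite (Matrix.GeneralLinearGroup ι F) := inferInstance
  let μ : Omega F Q →* Matrix ι ι F := ((Units.coeHom (Matrix ι ι F)).comp (isometryGroup F Q).subtype).comp
    (Omega F Q).subtype
  have hμ : Function.Injective μ := by
    intro x y h
    apply Subtype.ext
    apply Subtype.ext
    exact Units.ext h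
  let J : Matrix ι ι F := LinearMap.toMatrix₂' F B
  have hJ : ∀ u v, u ⬝ᵥ (J *ᵥ v) = B u v := by
    intro u v
    rw [← Matrix.toLinearMap₂'_apply', Matrix.toLinearMap₂'_toMatrix']
  refine hasAb_form (μ := μ) hp2 hp hμ (QuotientGroup.mk' _) (QuotientGroup.mk'_surjective _) J ?_ ?_ hN
  · rw [← Matrix.isUnit_iff_isUnit_det, ← Matrix.mulVec_injective_iff_isUnit]
    intro w w' h
    rw [← sub_eq_zero]
    apply hnd
    intro v
    rw [← hJ, Matrix.mulVec_sub]
    change v ⬝ᵥ (J *ᵥ w - J *ᵥ w') = 0
    have h' : J *ᵥ w = J *ᵥ w' := h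
    rw [h', sub_self, dotProduct_zero]
  · intro x
    have hx : ∀ u, Q (μ x *ᵥ u) = Q u := fun u => x.1.2 u u
    have h1 : ∀ u v, B (μ x *ᵥ u) (μ x *ᵥ v) = B u v := by
      intro u v
      have h2 := hB (μ x *ᵥ u) (μ x *ᵥ v)
      rw [← Matrix.mulVec_add, hx, hx, hx, hB u v] at h2
      exact (add_left_cancel h2).symm
    ext i j
    have h3 := h1 (Pi.single i 1) (Pi.single j 1)
    rw [← hJ, ← hJ, Matrix.mulVec_mulVec, ← Matrix.vecMul_transpose, ← Matrix.dotProduct_mulVec,
      Matrix.mulVec_mulVec, ← mul_assoc] at h3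
    rw [single_dotProduct, single_dotProduct, one_mul, one_mul, Matrix.mulVec_single_one,
      Matrix.mulVec_single_one] at h3
    exact h3

end Quad

theorem hasAb_oplus {p : ℕ} [Fact p.Prime] (hp2 : p ≠ 2) (hp : (p : F) ≠ 0) (m : ℕ) :
    HasAb p (POmega F (quadFormPlus m F)) m := by
  let B : (Fin m ⊕ Fin m → F) →ₗ[F] (Fin m ⊕ Fin m → F) →ₗ[F] F :=
    LinearMap.mk₂ F (fun u v => ∑ i, (u (.inl i) * v (.inr i) + v (.inl i) * u (.inr i)))
      (fun u u' v => by
        rw [← Finset.sum_add_distrib]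
        exact Finset.sum_congr rfl fun i _ => by simp only [Pi.add_apply]; ring)
      (fun c u v => by
        rw [smul_eq_mul, Finset.mul_sum]
        exact Finset.sum_congr rfl fun i _ => by simp only [Pi.smul_apply, smul_eq_mul]; ring)
      (fun u v v' => by
        rw [← Finset.sum_add_distrib]
        exact Finset.sum_congr rfl fun i _ => by simp only [Pi.add_apply]; ring)
      (fun c u v => by
        rw [smul_eq_mul, Finset.mul_sum]
        exact Finset.sum_congr rfl fun i _ => by simp only [Pi.smul_apply, smul_eq_mul]; ring)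
  have hBe : ∀ u v, B u v = ∑ i, (u (.inl i) * v (.inr i) + v (.inl i) * u (.inr i)) := fun u v => rfl
  refine hasAb_quad hp2 hp (quadFormPlus m F) B ?_ ?_ ?_
  · intro u v
    rw [hBe]
    simp only [quadFormPlus]
    rw [← Finset.sum_add_distrib, ← Finset.sum_add_distrib]
    exact Finset.sum_congr rfl fun i _ => by simp only [Pi.add_apply]; ring
  · intro w h
    funext j
    rcases j with j | j
    · have h1 := h (Pi.single (.inr j) 1)
      rw [hBe] at h1
      simpa [Pi.single_apply] using h1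
    · have h1 := h (Pi.single (.inl j) 1)
      rw [hBe] at h1
      simpa [Pi.single_apply] using h1
  · rw [Fintype.card_sum, Fintype.card_fin]
    omega

theorem hasAb_oodd {p : ℕ} [Fact p.Prime] (hp2 : p ≠ 2) (hp : (p : F) ≠ 0) (hodd : Odd (Fintype.card F)) (m : ℕ) :
    HasAb p (POmega F (quadFormOdd m F)) m := by
  have h2 : (2 : F) ≠ 0 := by
    intro h
    have h1 : ringChar F = 2 := by
      have := ringChar.dvd (R := F) (x := 2) (by exact_mod_cast h)
      exact ((Nat.dvd_prime Nat.prime_two).1 this).resolve_left (CharP.ringChar_ne_one)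
    have h3 := FiniteField.even_card_of_char_two h1
    rw [Nat.odd_iff] at hodd
    omega
  let B : (Unit ⊕ (Fin m ⊕ Fin m) → F) →ₗ[F] (Unit ⊕ (Fin m ⊕ Fin m) → F) →ₗ[F] F :=
    LinearMap.mk₂ F (fun u v => 2 * u (.inl ()) * v (.inl ()) +
      ∑ i, (u (.inr (.inl i)) * v (.inr (.inr i)) + v (.inr (.inl i)) * u (.inr (.inr i))))
      (fun u u' v => by
        rw [add_add_add_comm, ← Finset.sum_add_distrib]
        refine congrArg₂ _ ?_ (Finset.sum_congr rfl fun i _ => ?_) <;> (simp only [Pi.add_apply]; ring))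
      (fun c u v => by
        rw [smul_eq_mul, mul_add, Finset.mul_sum]
        refine congrArg₂ _ ?_ (Finset.sum_congr rfl fun i _ => ?_) <;> (simp only [Pi.smul_apply, smul_eq_mul]; ring))
      (fun u v v' => by
        rw [add_add_add_comm, ← Finset.sum_add_distrib]
        refine congrArg₂ _ ?_ (Finset.sum_congr rfl fun i _ => ?_) <;> (simp only [Pi.add_apply]; ring))
      (fun c u v => by
        rw [smul_eq_mul, mul_add, Finset.mul_sum]
        refine congrArg₂ _ ?_ (Finset.sum_congr rfl fun i _ => ?_) <;> (simp only [Pi.smul_apply, smul_eq_mul]; ring))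
  have hBe : ∀ u v, B u v = 2 * u (.inl ()) * v (.inl ()) +
      ∑ i, (u (.inr (.inl i)) * v (.inr (.inr i)) + v (.inr (.inl i)) * u (.inr (.inr i))) := fun u v => rfl
  refine hasAb_quad hp2 hp (quadFormOdd m F) B ?_ ?_ ?_
  · intro u v
    rw [hBe]
    simp only [quadFormOdd]
    have h3 : ∀ a b c d e f : F, a + b + (c + d) + (e + f) = (a + c + e) + (b + d + f) := by intros; ring
    rw [h3, ← Finset.sum_add_distrib, ← Finset.sum_add_distrib]
    refine congrArg₂ _ ?_ (Finset.sum_congr rfl fun i _ => ?_) <;> (simp only [Pi.add_apply]; ring)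
  · intro w h
    funext j
    rcases j with j | j | j
    · have h1 := h (Pi.single (.inl ()) 1)
      rw [hBe] at h1
      have h3 : 2 * w (.inl ()) = 0 := by simpa [Pi.single_apply] using h1
      exact (mul_eq_zero.1 h3).resolve_left h2
    · have h1 := h (Pi.single (.inr (.inr j)) 1)
      rw [hBe] at h1
      simpa [Pi.single_apply] using h1
    · have h1 := h (Pi.single (.inr (.inl j)) 1)
      rw [hBe] at h1
      simpa [Pi.single_apply] using h1
  · rw [Fintype.card_sum, Fintype.card_sum, Fintype.card_fin, Fintype.card_unit]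
    omega

theorem hasAb_ominus {p : ℕ} [Fact p.Prime] (hp2 : p ≠ 2) (hp : (p : F) ≠ 0) (m : ℕ) (a b : F)
    (han : ∀ z₁ z₂ : F, z₁ ^ 2 + a * z₁ * z₂ + b * z₂ ^ 2 = 0 → z₁ = 0 ∧ z₂ = 0) :
    HasAb p (POmega F (quadFormMinus m F a b)) (m + 1) := by
  let B : ((Fin m ⊕ Fin m) ⊕ Fin 2 → F) →ₗ[F] ((Fin m ⊕ Fin m) ⊕ Fin 2 → F) →ₗ[F] F :=
    LinearMap.mk₂ F (fun u v =>
      (∑ i, (u (.inl (.inl i)) * v (.inl (.inr i)) + v (.inl (.inl i)) * u (.inl (.inr i)))) +
      (2 * u (.inr 0) * v (.inr 0) + a * (u (.inr 0) * v (.inr 1) + v (.inr 0) * u (.inr 1)) +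
        2 * b * u (.inr 1) * v (.inr 1)))
      (fun u u' v => by
        rw [add_add_add_comm, ← Finset.sum_add_distrib]
        refine congrArg₂ _ (Finset.sum_congr rfl fun i _ => ?_) ?_ <;> (simp only [Pi.add_apply]; ring))
      (fun c u v => by
        rw [smul_eq_mul, mul_add c, Finset.mul_sum]
        refine congrArg₂ _ (Finset.sum_congr rfl fun i _ => ?_) ?_ <;> (simp only [Pi.smul_apply, smul_eq_mul]; ring))
      (fun u v v' => by
        rw [add_add_add_comm, ← Finset.sum_add_distrib]
        refine congrArg₂ _ (Finset.sum_congr rfl fun i _ => ?_) ?_ <;> (simp only [Pi.add_apply]; ring))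
      (fun c u v => by
        rw [smul_eq_mul, mul_add c, Finset.mul_sum]
        refine congrArg₂ _ (Finset.sum_congr rfl fun i _ => ?_) ?_ <;> (simp only [Pi.smul_apply, smul_eq_mul]; ring))
  have hBe : ∀ u v, B u v =
      (∑ i, (u (.inl (.inl i)) * v (.inl (.inr i)) + v (.inl (.inl i)) * u (.inl (.inr i)))) +
      (2 * u (.inr 0) * v (.inr 0) + a * (u (.inr 0) * v (.inr 1) + v (.inr 0) * u (.inr 1)) +
        2 * b * u (.inr 1) * v (.inr 1)) := fun u v => rfl
  refine hasAb_quad hp2 hp (quadFormMinus m F a b) B ?_ ?_ ?_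
  · intro u v
    rw [hBe]
    simp only [quadFormMinus]
    have h3 : ∀ a b c d e f : F, a + b + (c + d) + (e + f) = (a + c + e) + (b + d + f) := by intros; ring
    rw [h3, ← Finset.sum_add_distrib, ← Finset.sum_add_distrib]
    refine congrArg₂ _ (Finset.sum_congr rfl fun i _ => ?_) ?_ <;> (simp only [Pi.add_apply]; ring)
  · intro w h
    have h0 := h (Pi.single (.inr 0) 1)
    have h1 := h (Pi.single (.inr 1) 1)
    rw [hBe] at h0 h1
    have h0' : 2 * w (.inr 0) + a * w (.inr 1) = 0 := by simpa [Pi.single_apply] using h0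
    have h1' : a * w (.inr 0) + 2 * b * w (.inr 1) = 0 := by simpa [Pi.single_apply] using h1
    have h3 : w (.inr 0) = 0 ∧ w (.inr 1) = 0 := by
      by_cases h2 : (2 : F) = 0
      · -- characteristic two
        rw [h2, zero_mul, zero_add] at h0'
        rw [h2, zero_mul, zero_mul, add_zero] at h1'
        have ha : a ≠ 0 := by
          intro ha
          -- `z ↦ z ^ 2` is onto
          have hchar : CharP F 2 := CharTwo.of_one_ne_zero_of_two_eq_zero one_ne_zero h2
          obtain ⟨z, hz⟩ : ∃ z : F, z ^ 2 = b := by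
            have := (frobenius_inj F 2)
            obtain ⟨z, hz⟩ := (Finite.injective_iff_surjective.1 this) b
            exact ⟨z, hz⟩
          have h4 := han z 1 (by
            rw [ha, hz, zero_mul, zero_mul, one_pow, mul_one, add_zero, ← two_mul, h2, zero_mul])
          exact one_ne_zero h4.2
        exact ⟨(mul_eq_zero.1 h1').resolve_left ha, (mul_eq_zero.1 h0').resolve_left ha⟩
      · refine han _ _ ?_
        have h4 : 2 * (w (.inr 0) ^ 2 + a * w (.inr 0) * w (.inr 1) + b * w (.inr 1) ^ 2) = 0 := by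
          linear_combination w (.inr 0) * h0' + w (.inr 1) * h1'
        exact (mul_eq_zero.1 h4).resolve_left h2
    funext j
    rcases j with (j | j) | j
    · have h4 := h (Pi.single (.inl (.inr j)) 1)
      rw [hBe] at h4
      simpa [Pi.single_apply] using h4
    · have h4 := h (Pi.single (.inl (.inl j)) 1)
      rw [hBe] at h4
      simpa [Pi.single_apply] using h4
    · fin_cases j
      · exact h3.1
      · exact h3.2
  · rw [Fintype.card_sum, Fintype.card_sum, Fintype.card_fin, Fintype.card_fin]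
    omega

end Cfsg.Agent.H128.ClassicalAb
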