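import Cfsg.Agent.H128.ClassicalAb
import Cfsg.Agent.H341.ThreeList

/-!
# Classical groups in cross characteristic and small 3-rank (helper128)

`cross_false`: a classical simple group `L` in characteristic different from 3, with `3 ^ 12 ∣ |L|`, `¬ 3 ^ 14 ∣ |L|`, has an
abelian 3-subgroup of order at least `3 ^ 8`.
-/

set_option autoImplicit false

namespace Cfsg.Agent.H128.Cross3

open Cfsg AbelianClassical ClassicalAb H341.ThreeList

universe u

/-- the three hypotheses on the group -/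
structure Hyp (L : Type u) [Group L] : Prop where
  h12 : 3 ^ 12 ∣ Nat.card L
  h14 : ¬ 3 ^ 14 ∣ Nat.card L
  hab : ∀ A : Subgroup L, IsPGroup 3 A → (∀ a ∈ A, ∀ b ∈ A, a * b = b * a) → Nat.card A ≤ 3 ^ 7

theorem Hyp.congr {L : Type u} [Group L] {M : Type*} [Group M] (h : Hyp L) (e : L ≃* M) : Hyp M where
  h12 := by rw [← Nat.card_congr e.toEquiv]; exact h.h12
  h14 := by rw [← Nat.card_congr e.toEquiv]; exact h.h14
  hab := by
    intro A hA hc
    have h1 := h.hab (A.map e.symm.toMonoidHom) (hA.map _) (by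
      rintro _ ⟨a, ha, rfl⟩ _ ⟨b, hb, rfl⟩
      rw [← map_mul, ← map_mul, hc a ha b hb])
    rwa [Subgroup.card_map_of_injective e.symm.injective] at h1

theorem Hyp.le {G : Type*} [Group G] [Finite G] (h : Hyp G) {N : ℕ} (hN : HasAb 3 G N) : 12 ≤ N := by
  have : Fact (Nat.Prime 3) := ⟨Nat.prime_three⟩
  obtain ⟨B, hB, hc, hd⟩ := hN
  have h1 := h.hab B hB hc
  obtain ⟨b, hb⟩ := IsPGroup.iff_card.1 hB
  rw [hb] at h1
  have h2 : b ≤ 7 := (Nat.pow_le_pow_iff_right (by norm_num)).1 h1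
  obtain ⟨S⟩ : Nonempty (Sylow 3 G) := inferInstance
  have h3 : 3 ^ 12 ∣ Nat.card S := S.pow_dvd_card_of_pow_dvd_card h.h12
  have h4 := h3.trans (hd S)
  rw [hb, show 12 = b + (12 - b) by omega, pow_add] at h4
  have h5 := Nat.dvd_of_mul_dvd_mul_left (by positivity) h4
  have h6 : 3 ^ 5 ∣ N.factorial := (pow_dvd_pow 3 (by omega)).trans h5
  by_contra hcon
  have h7 : 3 ^ 5 ∣ Nat.factorial 11 := h6.trans (Nat.factorial_dvd_factorial (by omega))
  revert h7
  decide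

/-! ### divisibility -/

theorem int_dvd {t : ℤ} (h : (3 : ℤ) ∣ t - 1) (k u : ℕ) : (3 : ℤ) ^ (k + 1) ∣ t ^ (3 ^ k * u) - 1 := by
  have h1 : ((3 : ℕ) : ℤ) ∣ t - 1 := h
  have h2 := dvd_sub_pow_of_dvd_sub h1 k
  rw [one_pow] at h2
  have h3 : t ^ (3 ^ k) - 1 ∣ t ^ (3 ^ k * u) - 1 := by
    rw [pow_mul]
    exact sub_one_dvd_pow_sub_one _ _ 
  exact h2.trans h3

theorem nat_dvd {q : ℕ} (hq : 1 ≤ q) (h : 3 ∣ q - 1) (k u : ℕ) : 3 ^ (k + 1) ∣ q ^ (3 ^ k * u) - 1 := by
  have h1 : (3 : ℤ) ∣ (q : ℤ) - 1 := by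
    have h1 := Int.natCast_dvd_natCast.2 h
    rw [Nat.cast_sub hq] at h1
    exact h1
  have h2 := int_dvd h1 k u
  have h3 : ((q ^ (3 ^ k * u) - 1 : ℕ) : ℤ) = (q : ℤ) ^ (3 ^ k * u) - 1 := by
    rw [Nat.cast_sub (Nat.one_le_pow _ _ hq), Nat.cast_pow, Nat.cast_one]
  rw [← h3] at h2
  exact_mod_cast h2

/-- `∏_{k ≤ m} (q^{2k} - 1)`, `m ≥ 11` -/
theorem prod_b {q m : ℕ} (hq : ¬ 3 ∣ q) (hm : 11 ≤ m) :
    3 ^ 14 ∣ ∏ i ∈ Finset.range m, (q ^ (2 * (i + 1)) - 1) := by
  have h1 : ∏ i ∈ Finset.range 11, (q ^ (2 * (i + 1)) - 1) ∣ ∏ i ∈ Finset.range m, (q ^ (2 * (i + 1)) - 1) :=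
    Finset.prod_dvd_prod_of_subset _ _ _ (Finset.range_subset_range.2 hm)
  refine dvd_trans ?_ h1
  have hq1 : 1 ≤ q := by
    by_contra h
    exact hq (by simp [show q = 0 by omega])
  have h2 := three_sq hq
  have h3 : ∀ k u : ℕ, 3 ^ (k + 1) ∣ q ^ (2 * (3 ^ k * u)) - 1 := by
    intro k u
    rw [pow_mul]
    exact nat_dvd (Nat.one_le_pow _ _ hq1) h2 k u
  have h4 : ∏ i ∈ Finset.range 11, (if i = 2 ∨ i = 5 then 9 else if i = 8 then 27 else 3) ∣
      ∏ i ∈ Finset.range 11, (q ^ (2 * (i + 1)) - 1) := by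
    apply Finset.prod_dvd_prod_of_dvd
    intro i hi
    rw [Finset.mem_range] at hi
    by_cases h5 : i = 2 ∨ i = 5
    · rw [if_pos h5]
      rcases h5 with rfl | rfl
      · exact h3 1 1
      · exact h3 1 2
    · rw [if_neg h5]
      by_cases h6 : i = 8
      · rw [if_pos h6, h6]
        exact h3 2 1
      · rw [if_neg h6]
        have := h3 0 (i + 1)
        rwa [pow_zero, one_mul, zero_add, pow_one] at this
  refine dvd_trans ?_ h4
  decide

/-- `∏_{3 ≤ i ≤ 12} (q^i - 1)`, `q ≡ 1 mod 3` -/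
theorem prod_a {q n : ℕ} (hq : q % 3 = 1) (hn : 11 ≤ n) :
    (q ^ 2 - 1) * 3 ^ 14 ∣ ∏ j ∈ Finset.range n, (q ^ (j + 2) - 1) := by
  have h1 : ∏ i ∈ Finset.range 11, (q ^ (i + 2) - 1) ∣ ∏ i ∈ Finset.range n, (q ^ (i + 2) - 1) :=
    Finset.prod_dvd_prod_of_subset _ _ _ (Finset.range_subset_range.2 hn)
  refine dvd_trans ?_ h1
  have hq1 : 1 ≤ q := by omega
  have h3 : ∀ k u : ℕ, 3 ^ (k + 1) ∣ q ^ (3 ^ k * u) - 1 := nat_dvd hq1 (by omega)
  rw [Finset.prod_range_succ', mul_comm]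
  refine mul_dvd_mul ?_ dvd_rfl
  have h4 : ∏ i ∈ Finset.range 10, (if i = 0 ∨ i = 3 ∨ i = 9 then 9 else if i = 6 then 27 else 3) ∣
      ∏ i ∈ Finset.range 10, (q ^ (i + 1 + 2) - 1) := by
    apply Finset.prod_dvd_prod_of_dvd
    intro i hi
    rw [Finset.mem_range] at hi
    by_cases h5 : i = 0 ∨ i = 3 ∨ i = 9
    · rw [if_pos h5]
      rcases h5 with rfl | rfl | rfl
      · exact h3 1 1
      · exact h3 1 2
      · exact h3 1 4
    · rw [if_neg h5]
      by_cases h6 : i = 6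
      · rw [if_pos h6, h6]
        exact h3 2 1
      · rw [if_neg h6]
        have := h3 0 (i + 1 + 2)
        rwa [pow_zero, one_mul, zero_add, pow_one] at this
  refine dvd_trans ?_ h4
  decide

/-- `q ≡ -1 mod 3` -/
theorem nat_dvd_neg {q : ℕ} (hq : q % 3 = 2) (k u : ℕ) :
    3 ^ (k + 1) ∣ (if Even (3 ^ k * u) then q ^ (3 ^ k * u) - 1 else q ^ (3 ^ k * u) + 1) := by
  have hq1 : 1 ≤ q := by omega
  have h1 : (3 : ℤ) ∣ (-(q : ℤ)) - 1 := by omega
  have h2 := int_dvd h1 k u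
  by_cases h : Even (3 ^ k * u)
  · rw [if_pos h]
    rw [h.neg_pow] at h2
    have h3 : ((q ^ (3 ^ k * u) - 1 : ℕ) : ℤ) = (q : ℤ) ^ (3 ^ k * u) - 1 := by
      rw [Nat.cast_sub (Nat.one_le_pow _ _ hq1), Nat.cast_pow, Nat.cast_one]
    rw [← h3] at h2
    exact_mod_cast h2
  · rw [if_neg h]
    rw [(Nat.not_even_iff_odd.1 h).neg_pow, ← dvd_neg] at h2
    have h3 : ((q ^ (3 ^ k * u) + 1 : ℕ) : ℤ) = -(-(q : ℤ) ^ (3 ^ k * u) - 1) := by
      push_cast
      ring
    rw [← h3] at h2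
    exact_mod_cast h2

theorem prod_u {q n : ℕ} (hq : q % 3 = 2) (hn : 11 ≤ n) :
    (q ^ 2 - 1) * 3 ^ 14 ∣ ∏ j ∈ Finset.range n, (if Even j then q ^ (j + 2) - 1 else q ^ (j + 2) + 1) := by
  have h1 : ∏ i ∈ Finset.range 11, (if Even i then q ^ (i + 2) - 1 else q ^ (i + 2) + 1) ∣
      ∏ i ∈ Finset.range n, (if Even i then q ^ (i + 2) - 1 else q ^ (i + 2) + 1) :=
    Finset.prod_dvd_prod_of_subset _ _ _ (Finset.range_subset_range.2 hn)
  refine dvd_trans ?_ h1
  have hq1 : 1 ≤ q := by omega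
  have hev : ∀ i : ℕ, (if Even i then q ^ (i + 2) - 1 else q ^ (i + 2) + 1) =
      (if Even (i + 2) then q ^ (i + 2) - 1 else q ^ (i + 2) + 1) := by
    intro i
    have : Even (i + 2) ↔ Even i := by
      rw [Nat.even_add]
      simp
    simp only [this]
  simp only [hev]
  have h3 := nat_dvd_neg hq
  rw [Finset.prod_range_succ', mul_comm]
  refine mul_dvd_mul ?_ (by simp)
  have h4 : ∏ i ∈ Finset.range 10, (if i = 0 ∨ i = 3 ∨ i = 9 then 9 else if i = 6 then 27 else 3) ∣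
      ∏ i ∈ Finset.range 10, (if Even (i + 1 + 2) then q ^ (i + 1 + 2) - 1 else q ^ (i + 1 + 2) + 1) := by
    apply Finset.prod_dvd_prod_of_dvd
    intro i hi
    rw [Finset.mem_range] at hi
    by_cases h5 : i = 0 ∨ i = 3 ∨ i = 9
    · rw [if_pos h5]
      rcases h5 with rfl | rfl | rfl
      · exact h3 1 1
      · exact h3 1 2
      · exact h3 1 4
    · rw [if_neg h5]
      by_cases h6 : i = 6
      · rw [if_pos h6, h6]
        exact h3 2 1
      · rw [if_neg h6]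
        have := h3 0 (i + 1 + 2)
        rwa [pow_zero, one_mul, zero_add, pow_one] at this
  refine dvd_trans ?_ h4
  decide

/-- cancel a factor prime to `3` -/
theorem of_mul' {d c n k : ℕ} (hd : ¬ 3 ∣ d) (h : d * c = n) (hn : 3 ^ k ∣ n) : 3 ^ k ∣ c := by
  rw [← h] at hn
  exact (((Nat.Prime.coprime_iff_not_dvd Nat.prime_three).2 hd).pow_left k).dvd_of_dvd_mul_left hn

/-! ### the families -/

variable {F : Type} [Field F] [Fintype F]

theorem three_ne_zero' (hq : ¬ 3 ∣ Fintype.card F) : ((3 : ℕ) : F) ≠ 0 := by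
  intro h
  apply hq
  have h1 : ringChar F ∣ 3 := ringChar.dvd h
  have h2 : ringChar F = 3 := ((Nat.dvd_prime Nat.prime_three).1 h1).resolve_left CharP.ringChar_ne_one
  obtain ⟨n, -, hn⟩ := FiniteField.card F (ringChar F)
  rw [hn, h2]
  exact dvd_pow_self 3 n.2.ne'

theorem psl_false {n : ℕ} (hn : 2 ≤ n) (hq : ¬ 3 ∣ Fintype.card F)
    (h : Hyp (Matrix.ProjectiveSpecialLinearGroup (Fin n) F)) : False := by
  have : Fact (Nat.Prime 3) := ⟨Nat.prime_three⟩
  have hfin : Finite (Matrix.SpecialLinearGroup (Fin n) F) := finite_sl n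
  have hc := card_psl (F := F) hn
  set q := Fintype.card F with hqd
  have hq1 : 1 < q := Fintype.one_lt_card
  have hq12 : q % 3 = 1 ∨ q % 3 = 2 := by omega
  rcases hq12 with hq12 | hq12
  · have hN := h.le (hasAb_psl (three_ne_zero' hq) n)
    apply h.h14
    have hg : Nat.gcd n (q - 1) ∣ q ^ 2 - 1 := (Nat.gcd_dvd_right _ _).trans (by
      have := Nat.sub_dvd_pow_sub_pow q 1 2
      simpa using this)
    have hpos : 0 < Nat.gcd n (q - 1) := Nat.gcd_pos_of_pos_left _ (by omega)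
    have h1 : Nat.gcd n (q - 1) * 3 ^ 14 ∣ Nat.gcd n (q - 1) *
        Nat.card (Matrix.ProjectiveSpecialLinearGroup (Fin n) F) := by
      rw [hc]
      exact (mul_dvd_mul hg dvd_rfl).trans ((prod_a hq12 (by omega)).mul_left _)
    exact Nat.dvd_of_mul_dvd_mul_left hpos h1
  · have hN := h.le (hasAb_psl_half (by norm_num) (three_ne_zero' hq) (by omega) n)
    apply h.h14
    have hg : ¬ 3 ∣ Nat.gcd n (q - 1) := by
      intro h'
      have := h'.trans (Nat.gcd_dvd_right _ _)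
      omega
    refine of_mul' hg hc (Dvd.dvd.mul_left ?_ _)
    refine (prod_b hq (le_refl 11)).trans ?_
    -- `q^{2(i+1)} - 1`, `i < 11`, inside `q^{j+2} - 1`, `j < n - 1`
    have h1 : ∏ i ∈ Finset.range 11, (q ^ (2 * (i + 1)) - 1) =
        ∏ j ∈ (Finset.range 11).image (fun i => 2 * i), (q ^ (j + 2) - 1) := by
      rw [Finset.prod_image (fun a _ b _ hab => by
        have : 2 * a = 2 * b := hab
        omega)]
      exact Finset.prod_congr rfl fun i _ => by rw [show 2 * i + 2 = 2 * (i + 1) by ring]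
    rw [h1]
    apply Finset.prod_dvd_prod_of_subset
    intro j hj
    rw [Finset.mem_image] at hj
    obtain ⟨i, hi, rfl⟩ := hj
    rw [Finset.mem_range] at hi ⊢
    omega

theorem psu_false {n q : ℕ} (hF : Fintype.card F = q ^ 2) (hn : 2 ≤ n) (hq : ¬ 3 ∣ q)
    (h : Hyp (PSU n F q)) : False := by
  have : Fact (Nat.Prime 3) := ⟨Nat.prime_three⟩
  have hfin : Finite (Matrix.SpecialLinearGroup (Fin n) F) := finite_sl n
  have hc := card_psu (F := F) hF hn
  have hF3 : ¬ 3 ∣ Fintype.card F := by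
    rw [hF]
    exact fun h => hq (Nat.prime_three.dvd_of_dvd_pow h)
  have hq1 : 1 < q := by
    have h1 : 1 < Fintype.card F := Fintype.one_lt_card
    rw [hF] at h1
    by_contra h
    have h' : q ≤ 1 := by omega
    have := Nat.pow_le_pow_left h' 2
    omega
  have hq12 : q % 3 = 1 ∨ q % 3 = 2 := by omega
  rcases hq12 with hq12 | hq12
  · have hN := h.le (hasAb_psu_half (by norm_num) (three_ne_zero' hF3) hF (by omega) n)
    apply h.h14
    have hg : ¬ 3 ∣ Nat.gcd n (q + 1) := by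
      intro h'
      have := h'.trans (Nat.gcd_dvd_right _ _)
      omega
    refine of_mul' hg hc (Dvd.dvd.mul_left ?_ _)
    refine (prod_b hq (le_refl 11)).trans ?_
    have h1 : ∏ i ∈ Finset.range 11, (q ^ (2 * (i + 1)) - 1) =
        ∏ j ∈ (Finset.range 11).image (fun i => 2 * i), (if Even j then q ^ (j + 2) - 1 else q ^ (j + 2) + 1) := by
      rw [Finset.prod_image (fun a _ b _ hab => by
        have : 2 * a = 2 * b := hab
        omega)]
      exact Finset.prod_congr rfl fun i _ => by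
        rw [if_pos (even_two_mul i), show 2 * i + 2 = 2 * (i + 1) by ring]
    rw [h1]
    apply Finset.prod_dvd_prod_of_subset
    intro j hj
    rw [Finset.mem_image] at hj
    obtain ⟨i, hi, rfl⟩ := hj
    rw [Finset.mem_range] at hi ⊢
    omega
  · have hN := h.le (hasAb_psu (three_ne_zero' hF3) n q)
    apply h.h14
    have hg : Nat.gcd n (q + 1) ∣ q ^ 2 - 1 := (Nat.gcd_dvd_right _ _).trans (by
      have := Nat.sq_sub_sq q 1
      rw [one_pow] at this
      rw [this]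
      exact Dvd.intro _ rfl)
    have hpos : 0 < Nat.gcd n (q + 1) := Nat.gcd_pos_of_pos_left _ (by omega)
    have h1 : Nat.gcd n (q + 1) * 3 ^ 14 ∣ Nat.gcd n (q + 1) * Nat.card (PSU n F q) := by
      rw [hc]
      exact (mul_dvd_mul hg dvd_rfl).trans ((prod_u hq12 (by omega)).mul_left _)
    exact Nat.dvd_of_mul_dvd_mul_left hpos h1

theorem psp_false {m : ℕ} (hm : 1 ≤ m) (hq : ¬ 3 ∣ Fintype.card F) (h : Hyp (PSp m F)) : False := by
  have : Fact (Nat.Prime 3) := ⟨Nat.prime_three⟩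
  have hfin : Finite (Matrix.symplecticGroup (Fin m) F) :=
    Finite.of_injective (fun x => (x : Matrix (Fin m ⊕ Fin m) (Fin m ⊕ Fin m) F)) Subtype.val_injective
  have hN := h.le (hasAb_psp (by norm_num) (three_ne_zero' hq) m)
  apply h.h14
  exact of_mul' not_dvd_gcd_two (card_psp hm) (Dvd.dvd.mul_left (prod_b hq (by omega)) _)

theorem finite_pomega {ι : Type} [Fintype ι] [DecidableEq ι] (Q : (ι → F) → F) : Finite (POmega F Q) := by
  have : Finite (Matrix.GeneralLinearGroup ι F) := inferInstance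
  infer_instance

theorem oodd_false {m : ℕ} (hm : 3 ≤ m) (ho : Odd (Fintype.card F)) (hq : ¬ 3 ∣ Fintype.card F)
    (h : Hyp (POmega F (quadFormOdd m F))) : False := by
  have : Fact (Nat.Prime 3) := ⟨Nat.prime_three⟩
  have hfin := finite_pomega (quadFormOdd m F)
  have hN := h.le (hasAb_oodd (by norm_num) (three_ne_zero' hq) ho m)
  apply h.h14
  exact of_mul' (by norm_num) (S0292.result (F := F) rfl ho m hm) (Dvd.dvd.mul_left (prod_b hq (by omega)) _)

theorem oplus_false {m : ℕ} (hm : 4 ≤ m) (hq : ¬ 3 ∣ Fintype.card F)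
    (h : Hyp (POmega F (quadFormPlus m F))) : False := by
  have : Fact (Nat.Prime 3) := ⟨Nat.prime_three⟩
  have hfin := finite_pomega (quadFormPlus m F)
  have hN := h.le (hasAb_oplus (by norm_num) (three_ne_zero' hq) m)
  apply h.h14
  exact of_mul' not_dvd_gcd_four (S0293.result (F := F) rfl m hm) (Dvd.dvd.mul_left (prod_b hq (by omega)) _)

theorem ominus_false {m : ℕ} (hm : 4 ≤ m) {a b : F}
    (hab : ∀ z₁ z₂ : F, z₁ ^ 2 + a * z₁ * z₂ + b * z₂ ^ 2 = 0 → z₁ = 0 ∧ z₂ = 0) (hq : ¬ 3 ∣ Fintype.card F)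
    (h : Hyp (POmega F (quadFormMinus (m - 1) F a b))) : False := by
  have : Fact (Nat.Prime 3) := ⟨Nat.prime_three⟩
  have hfin := finite_pomega (quadFormMinus (m - 1) F a b)
  have hN := h.le (hasAb_ominus (by norm_num) (three_ne_zero' hq) (m - 1) a b hab)
  apply h.h14
  exact of_mul' not_dvd_gcd_four (S0294.result (F := F) rfl m hm a b hab) (Dvd.dvd.mul_left (prod_b hq (by omega)) _)

end Cfsg.Agent.H128.Cross3
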