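import Cfsg.Agent.H277.EM.Univ
import Cfsg.Agent.H504.SzOut
import Cfsg.Agent.S2177
import Cfsg.Agent.S2183
import Cfsg.Agent.S2184
import Cfsg.Agent.S2100
import Cfsg.Agent.S2102
import Cfsg.Agent.S2110
import Cfsg.Agent.S2114
import Cfsg.Agent.S2115
import Cfsg.Prelude.Def_LieTwisted
import Cfsg.Prelude.Def_LieChev

/-!
# S2243: the small exceptional groups in characteristic two (helper128, task 2603)

`G₂(q)`, `³D₄(q)`, `²F₄(q)`, the Tits group, `Sz(q)`: at most two classes of involutions.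
-/

set_option autoImplicit false

namespace Cfsg.Agent.H128.EMExc

open Cfsg.Agent.H277.MI

universe u

/-- two classes from the class count -/
theorem two_of_ncard {G : Type u} [Group G] (h : (ConjClasses.mk '' {g : G | orderOf g = 2}).ncard = 2) :
    ∃ a b : G, ∀ t : G, orderOf t = 2 → IsConj t a ∨ IsConj t b := by
  obtain ⟨A, B, -, hAB⟩ := Set.ncard_eq_two.1 h
  obtain ⟨a, rfl⟩ := ConjClasses.mk_surjective A
  obtain ⟨b, rfl⟩ := ConjClasses.mk_surjective B
  refine ⟨a, b, fun t ht => ?_⟩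
  have h1 : ConjClasses.mk t ∈ ({ConjClasses.mk a, ConjClasses.mk b} : Set (ConjClasses G)) := by
    rw [← hAB]; exact ⟨t, ht, rfl⟩
  rcases h1 with h1 | h1
  · exact Or.inl (ConjClasses.mk_eq_mk_iff_isConj.1 h1)
  · exact Or.inr (ConjClasses.mk_eq_mk_iff_isConj.1 h1)

theorem two_of_em {G : Type u} [Group G] (h : (ConjClasses.mk '' {g : G | orderOf g = 2}).ncard = 2) {n : ℕ}
    [Finite G] (hm : Cfsg.HasCyclicSchurMultiplier G n) (hn : ¬ 4 ∣ n) : CRow G := by
  obtain ⟨a, b, hab⟩ := two_of_ncard h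
  exact CRow.of_two_classes a b hab (expTwo_of_cyclic hm hn)

theorem crow_3d4_even {L : Type u} [Group L] {K : Type*} [Field K] [Fintype K] {q : ℕ}
    (hK : Fintype.card K = q ^ 3) (he : Even q) (e : L ≃* Cfsg.Lie.twistedD4 K q) : CRow L := by
  have hq : IsPrimePow q := by
    obtain ⟨p, hp⟩ := CharP.exists K
    have hpp : p.Prime := CharP.char_is_prime K p
    obtain ⟨n, -, hn⟩ := FiniteField.card K p
    have h1 : q ∣ p ^ (n : ℕ) := by rw [← hn, hK]; exact dvd_pow_self q (by norm_num)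
    obtain ⟨k, -, hk⟩ := (Nat.dvd_prime_pow hpp).1 h1
    refine ⟨p, k, Nat.prime_iff.1 hpp, ?_, hk.symm⟩
    rcases Nat.eq_zero_or_pos k with h0 | h0
    · exfalso
      rw [h0, pow_zero] at hk
      rw [hk] at he
      exact absurd he (by decide)
    · exact h0
  have h2 : CharP K 2 := by
    obtain ⟨p, hp⟩ := CharP.exists K
    have h1 : p ∣ Fintype.card K := by
      have h3 : ((Fintype.card K : ℕ) : K) = 0 := by
        have := Nat.cast_card_eq_zero K
        exact this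
      exact (CharP.cast_eq_zero_iff K p _).1 h3
    have hpp : p.Prime := CharP.char_is_prime K p
    obtain ⟨r, n, hr, hn, hrn⟩ := hq
    have hrp : r.Prime := Nat.prime_iff.2 hr
    have h4 : 2 ∣ r := by
      have : 2 ∣ r ^ n := by rw [hrn]; exact even_iff_two_dvd.1 he
      exact Nat.prime_two.dvd_of_dvd_pow this
    have h5 : r = 2 := ((Nat.prime_dvd_prime_iff_eq Nat.prime_two hrp).1 h4).symm
    have h6 : p ∣ r := by
      rw [hK, ← hrn] at h1
      exact hpp.dvd_of_dvd_pow (hpp.dvd_of_dvd_pow h1)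
    have h7 : p = 2 := by
      rw [h5] at h6
      exact (Nat.prime_dvd_prime_iff_eq hpp Nat.prime_two).1 h6
    rw [← h7]
    exact hp
  have hf : Finite (Cfsg.Lie.twistedD4 K q) := inferInstance
  exact (two_of_em (Cfsg.Agent.S2183.result q hK) (Cfsg.Agent.S2110.result hq hK) (by norm_num)).congr e

theorem crow_2f4 {L : Type u} [Group L] (h : Cfsg.Lie.Iso2F4 L) : CRow L := by
  obtain ⟨K, _, _, m, hm, hK, ⟨e⟩⟩ := h
  have hf : Finite (Cfsg.Lie.twistedF4 K (2 ^ m)) := inferInstance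
  exact (two_of_em (Cfsg.Agent.S2184.result m hK).1 (Cfsg.Agent.S2114.result hm hK) (by norm_num)).congr e

theorem crow_tits {L : Type u} [Group L] (h : Cfsg.Lie.IsoTits L) : CRow L := by
  obtain ⟨e⟩ := h
  have hf : Finite Cfsg.Lie.TitsGroup := inferInstance
  have hc : Fintype.card (ZMod 2) = 2 ^ (2 * 0 + 1) := ZMod.card 2
  have h2 := (Cfsg.Agent.S2184.result (K := ZMod 2) 0 hc).2
  have h3 : CRow Cfsg.Lie.TitsGroup := two_of_em h2 Cfsg.Agent.S2115.result (by norm_num)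
  have h4 := @CRow.congr L Cfsg.Lie.TitsGroup _ _ e
  exact h4 h3

theorem crow_sz {L : Type u} [Group L] [Finite L] (h : Cfsg.Lie.IsoSuzuki L) : CRow L := by
  refine CRow.of_one_class fun x y hx hy => ?_
  exact Cfsg.Agent.H504.SzOut.isConj_of_isoSuzuki h (ne_one_of_orderOf hx) (sq_of_orderOf hx) (ne_one_of_orderOf hy)
    (sq_of_orderOf hy)

theorem crow_g2_even {L : Type u} [Group L] {F : Type*} [Field F] [Fintype F] (h2 : Even (Fintype.card F))
    (h3 : 3 ≤ Fintype.card F) (e : L ≃* Cfsg.Lie.chevG2.group F) : CRow L := by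
  have hchar : CharP F 2 := by
    obtain ⟨p, hp⟩ := CharP.exists F
    have hpp : p.Prime := CharP.char_is_prime F p
    obtain ⟨n, -, hn⟩ := FiniteField.card F p
    have h4 : 2 ∣ p := by
      have : 2 ∣ p ^ (n : ℕ) := by rw [← hn]; exact even_iff_two_dvd.1 h2
      exact Nat.prime_two.dvd_of_dvd_pow this
    have h5 : p = 2 := ((Nat.prime_dvd_prime_iff_eq Nat.prime_two hpp).1 h4).symm
    rw [← h5]
    exact hp
  have h4 : 4 ≤ Fintype.card F := by
    obtain ⟨k, hk⟩ := h2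
    omega
  have hf : Finite (Cfsg.Lie.chevG2.group F) := inferInstance
  refine CRow.congr e ?_
  obtain ⟨hA, hB, -⟩ := Cfsg.Agent.S2177.result (F := F) h4
  have hexp : ExpTwo (Cfsg.Lie.chevG2.group F) := by
    rcases Nat.lt_or_ge (Fintype.card F) 5 with h5 | h5
    · exact expTwo_of_cyclic (Cfsg.Agent.S2102.result (F := F) (by omega)) (by norm_num)
    · exact expTwo_of_cyclic (Cfsg.Agent.S2100.result (F := F) h5) (by norm_num)
  -- representatives
  have hx : ∀ g : Cfsg.Lie.chevG2.group F, orderOf g = 2 → ∃ y : Cfsg.Lie.chevG2.group F,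
      ((y : GL Cfsg.Lie.chevG2.Idx F) : Matrix Cfsg.Lie.chevG2.Idx Cfsg.Lie.chevG2.Idx F) ∈
        [Cfsg.Lie.chevG2.x F 11 1, Cfsg.Lie.chevG2.x F 9 1] ∧ IsConj g y := by
    intro g hg
    obtain ⟨y, hy, hy2, h, hh, hc⟩ := hB g.1 g.2 (by rw [Subgroup.orderOf_coe]; exact hg)
    refine ⟨⟨y, hy⟩, hy2, isConj_iff.2 ⟨⟨h, hh⟩, Subtype.ext hc⟩⟩
  by_cases hone : ∃ a b : Cfsg.Lie.chevG2.group F, ∀ t : Cfsg.Lie.chevG2.group F, orderOf t = 2 → IsConj t a ∨ IsConj t b
  · obtain ⟨a, b, hab⟩ := hone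
    exact CRow.of_two_classes a b hab hexp
  · exfalso
    apply hone
    classical
    let P : Matrix Cfsg.Lie.chevG2.Idx Cfsg.Lie.chevG2.Idx F → Cfsg.Lie.chevG2.group F := fun M =>
      if h : ∃ y : Cfsg.Lie.chevG2.group F,
        ((y : GL Cfsg.Lie.chevG2.Idx F) : Matrix Cfsg.Lie.chevG2.Idx Cfsg.Lie.chevG2.Idx F) = M then h.choose else 1
    have hP : ∀ y : Cfsg.Lie.chevG2.group F,
        P ((y : GL Cfsg.Lie.chevG2.Idx F) : Matrix Cfsg.Lie.chevG2.Idx Cfsg.Lie.chevG2.Idx F) = y := by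
      intro y
      have h : ∃ y' : Cfsg.Lie.chevG2.group F,
        ((y' : GL Cfsg.Lie.chevG2.Idx F) : Matrix Cfsg.Lie.chevG2.Idx Cfsg.Lie.chevG2.Idx F) =
          ((y : GL Cfsg.Lie.chevG2.Idx F) : Matrix Cfsg.Lie.chevG2.Idx Cfsg.Lie.chevG2.Idx F) := ⟨y, rfl⟩
      show (if h : ∃ y' : Cfsg.Lie.chevG2.group F,
        ((y' : GL Cfsg.Lie.chevG2.Idx F) : Matrix Cfsg.Lie.chevG2.Idx Cfsg.Lie.chevG2.Idx F) =
          ((y : GL Cfsg.Lie.chevG2.Idx F) : Matrix Cfsg.Lie.chevG2.Idx Cfsg.Lie.chevG2.Idx F) then h.choose else 1) = y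
      rw [dif_pos h]
      exact Subtype.ext (Units.ext h.choose_spec)
    refine ⟨P (Cfsg.Lie.chevG2.x F 11 1), P (Cfsg.Lie.chevG2.x F 9 1), fun t ht => ?_⟩
    obtain ⟨y, hy, hc⟩ := hx t ht
    have hy' : ((y : GL Cfsg.Lie.chevG2.Idx F) : Matrix Cfsg.Lie.chevG2.Idx Cfsg.Lie.chevG2.Idx F) = Cfsg.Lie.chevG2.x F 11 1 ∨
        ((y : GL Cfsg.Lie.chevG2.Idx F) : Matrix Cfsg.Lie.chevG2.Idx Cfsg.Lie.chevG2.Idx F) = Cfsg.Lie.chevG2.x F 9 1 := by
      simpa using hy
    rcases hy' with h | h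
    · left; rw [← h, hP]; exact hc
    · right; rw [← h, hP]; exact hc

end Cfsg.Agent.H128.EMExc
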