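import Cfsg.Agent.H698.FinePR

/-!
# Projective representations: change of universe, restriction to sections (helper128)
-/

set_option autoImplicit false

namespace Cfsg.Agent.H128.FineSec

open Cfsg.Agent.H698 Subgroup
open scoped commutatorElement

universe u u' v w

/-- change of universe -/
theorem rep_down {p m : ℕ} {T : Type u} [Group T] {T₀ : Type v} [Group T₀] (h : Rep.{u, w} p m T)
    (e : T ≃* T₀) : Rep.{v, 0} p m T₀ := by
  obtain ⟨F, _, _, _, P, _, _, π, ρ, h1, h2, h3, h4, h5⟩ := h
  let eP : Shrink.{0} P ≃* P := Shrink.mulEquiv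
  let eF' : Shrink.{0} F ≃+* F := (equivShrink.{0} F).symm.ringEquiv
  let eF : F ≃+* Shrink.{0} F := eF'.symm
  have hfP : Finite (Shrink.{0} P) := Finite.of_equiv P eP.symm.toEquiv
  have hfF : Finite (Shrink.{0} F) := Finite.of_equiv F eF.toEquiv
  have hch : CharP (Shrink.{0} F) p := by
    refine ⟨fun x => ?_⟩
    rw [← CharP.cast_eq_zero_iff F p x]
    constructor
    · intro hx
      apply eF.injective
      rw [map_natCast, map_zero]
      exact hx
    · intro hx
      have := congrArg eF hx
      rwa [map_natCast, map_zero] at this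
  refine ⟨Shrink.{0} F, inferInstance, hfF, hch, Shrink.{0} P, inferInstance, hfP,
    (e.toMonoidHom.comp π).comp eP.toMonoidHom,
    ((Matrix.GeneralLinearGroup.map (n := Fin m) (eF : F →+* Shrink.{0} F)).comp ρ).comp eP.toMonoidHom, ?_, ?_, ?_, ?_, ?_⟩
  · exact (e.surjective.comp h1).comp eP.surjective
  · intro x hx
    rw [MonoidHom.mem_ker] at hx
    have h6 : π (eP x) = 1 := e.injective (by rw [map_one]; exact hx)
    have h7 := h2 (MonoidHom.mem_ker.2 h6)
    rw [Subgroup.mem_center_iff] at h7 ⊢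
    intro y
    apply eP.injective
    rw [map_mul, map_mul]
    exact h7 (eP y)
  · have h6 : (commutator (Shrink.{0} P)).map eP.toMonoidHom = ⊤ := by
      rw [_root_.commutator_def, Subgroup.map_commutator, ← MonoidHom.range_eq_map,
        MonoidHom.range_eq_top.2 eP.surjective, ← _root_.commutator_def, h3]
    rw [eq_top_iff]
    intro x _
    have h7 : eP x ∈ (commutator (Shrink.{0} P)).map eP.toMonoidHom := by rw [h6]; trivial
    obtain ⟨y, hy, hyx⟩ := h7
    rwa [← eP.injective hyx]
  · intro a b hab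
    apply eP.injective
    apply h4
    apply Units.ext
    ext i j
    have h6 := congrArg (fun x : Matrix.GeneralLinearGroup (Fin m) (Shrink.{0} F) =>
      (x : Matrix (Fin m) (Fin m) (Shrink.{0} F)) i j) hab
    exact eF.injective h6
  · rw [Nat.card_congr eP.toEquiv]
    exact h5

/-- a perfect subgroup mapping onto a perfect group -/
theorem exists_perfect {Q S : Type*} [Group Q] [Finite Q] [Group S] (φ : Q →* S) (hφ : Function.Surjective φ)
    (hS : commutator S = ⊤) : ∃ D : Subgroup Q, D.map φ = ⊤ ∧ ⁅D, D⁆ = D := by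
  classical
  let s : Set (Subgroup Q) := {D | D.map φ = ⊤}
  have hs : s.Nonempty := ⟨⊤, by
    show (⊤ : Subgroup Q).map φ = ⊤
    rw [← MonoidHom.range_eq_map]
    exact MonoidHom.range_eq_top.2 hφ⟩
  obtain ⟨D, hD, hmin⟩ := WellFounded.has_min (wellFounded_lt : WellFounded ((· < ·) : Subgroup Q → Subgroup Q → Prop)) s hs
  refine ⟨D, hD, ?_⟩
  have h1 : ⁅D, D⁆ ∈ s := by
    show (⁅D, D⁆).map φ = ⊤
    rw [Subgroup.map_commutator, show D.map φ = ⊤ from hD, ← _root_.commutator_def]
    exact hS
  have h2 : ⁅D, D⁆ ≤ D := commutator_le_self D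
  rcases h2.lt_or_eq with h3 | h3
  · exact absurd h3 (hmin _ h1)
  · exact h3

theorem commutator_top {S : Type*} [Group S] [IsSimpleGroup S] (hS : ¬ IsMulCommutative S) : commutator S = ⊤ := by
  rcases (inferInstance : (commutator S).Normal).eq_bot_or_eq_top with h6 | h6
  · exfalso
    apply hS
    refine ⟨⟨fun a b => ?_⟩⟩
    have h7 : ⁅a, b⁆ ∈ commutator S := Subgroup.commutator_mem_commutator (Subgroup.mem_top _) (Subgroup.mem_top _)
    rw [h6, Subgroup.mem_bot, commutatorElement_eq_one_iff_mul_comm] at h7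
    exact h7
  · exact h6

/-- **Restriction to a section.** -/
theorem rep_section {p m : ℕ} {T : Type u} [Group T] (h : Rep.{u, w} p m T) {K : Subgroup T} {S : Type v}
    [Group S] [IsSimpleGroup S] (hS : ¬ IsMulCommutative S) (φ : K →* S) (hφ : Function.Surjective φ)
    (hc : φ.ker ≤ center K) : Rep.{v, w} p m S := by
  obtain ⟨F, _, _, _, P, _, _, π, ρ, h1, h2, h3, h4, h5⟩ := h
  let Q : Subgroup P := K.comap π
  let πQ : Q →* K := (π.comp Q.subtype).codRestrict K (fun x => x.2)
  let ψ : Q →* S := φ.comp πQ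
  have hπQ : Function.Surjective πQ := by
    intro k
    obtain ⟨x, hx⟩ := h1 k.1
    exact ⟨⟨x, by change π x ∈ K; rw [hx]; exact k.2⟩, Subtype.ext hx⟩
  have hψ : Function.Surjective ψ := hφ.comp hπQ
  obtain ⟨D, hD, hDD⟩ := exists_perfect ψ hψ (commutator_top hS)
  -- the elements of `D` in the kernel are central in `D`
  have hcen : ∀ x ∈ D, ψ x = 1 → ∀ y ∈ D, x * y = y * x := by
    intro x hx hx1 y hy
    have hk : πQ x ∈ center K := hc hx1
    have hz : ∀ y : Q, ((⁅x, y⁆ : Q) : P) ∈ center P := by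
      intro y
      apply h2
      rw [MonoidHom.mem_ker]
      have h6 : πQ ⁅x, y⁆ = 1 := by
        rw [map_commutatorElement, commutatorElement_eq_one_iff_mul_comm]
        exact (mem_center_iff.1 hk (πQ y)).symm
      exact congrArg Subtype.val h6
    -- the homomorphism `y ↦ [x, y]`
    let f : Q →* center P :=
      { toFun := fun y => ⟨((⁅x, y⁆ : Q) : P), hz y⟩
        map_one' := by
          apply Subtype.ext
          change ((⁅x, (1 : Q)⁆ : Q) : P) = 1
          rw [commutatorElement_one_right]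
          rfl
        map_mul' := by
          intro a b
          apply Subtype.ext
          change ((⁅x, a * b⁆ : Q) : P) = ((⁅x, a⁆ : Q) : P) * ((⁅x, b⁆ : Q) : P)
          have h7 := mem_center_iff.1 (hz b) (a : P)
          have h8 : ((⁅x, a * b⁆ : Q) : P) = ((⁅x, a⁆ : Q) : P) * ((a : P) * ((⁅x, b⁆ : Q) : P) * (a : P)⁻¹) := by
            simp only [commutatorElement_def, Subgroup.coe_mul, InvMemClass.coe_inv]
            group
          rw [h8, h7, mul_inv_cancel_right] }
    have h9 : D ≤ f.ker := by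
      rw [← hDD, Subgroup.commutator_le]
      intro a _ b _
      rw [MonoidHom.mem_ker, map_commutatorElement, commutatorElement_eq_one_iff_mul_comm]
      exact Subtype.ext (mem_center_iff.1 (f b).2 _)
    have h10 : f y = 1 := h9 hy
    have h11 : ((⁅x, y⁆ : Q) : P) = 1 := congrArg Subtype.val h10
    exact commutatorElement_eq_one_iff_mul_comm.1 (Subtype.ext h11)
  refine ⟨F, inferInstance, inferInstance, inferInstance, D, inferInstance, inferInstance, ψ.comp D.subtype,
    (ρ.comp Q.subtype).comp D.subtype, ?_, ?_, ?_, ?_, ?_⟩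
  · intro s
    have h6 : s ∈ D.map ψ := by rw [hD]; trivial
    obtain ⟨d, hd, rfl⟩ := h6
    exact ⟨⟨d, hd⟩, rfl⟩
  · intro x hx
    rw [Subgroup.mem_center_iff]
    intro y
    exact Subtype.ext (hcen x x.2 hx y y.2).symm
  · rw [_root_.commutator_def, eq_top_iff]
    intro x _
    have h7 : (x : Q) ∈ ⁅D, D⁆ := by rw [hDD]; exact x.2
    have h8 : (⁅(⊤ : Subgroup D), (⊤ : Subgroup D)⁆).map D.subtype = ⁅D, D⁆ := by
      rw [Subgroup.map_commutator, ← MonoidHom.range_eq_map, Subgroup.range_subtype]
    rw [← h8] at h7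
    obtain ⟨y, hy, hyx⟩ := h7
    rwa [← Subtype.ext (show (y : Q) = x from hyx)]
  · intro a b hab
    exact Subtype.ext (Subtype.ext (h4 hab))
  · intro h6
    exact h5 ((h6.trans (Subgroup.card_subgroup_dvd_card D)).trans (Subgroup.card_subgroup_dvd_card Q))

/-- The form with a homomorphism `f : H → T` and a homomorphism `φ : H → S` with central kernels. -/
theorem rep_of_hom {p m : ℕ} {T : Type u} [Group T] (h : Rep.{u, w} p m T) {H : Type u'} [Group H] (f : H →* T)
    (hf : f.ker ≤ center H) {S : Type v}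
    [Group S] [IsSimpleGroup S] (hS : ¬ IsMulCommutative S) (φ : H →* S) (hφ : Function.Surjective φ)
    (hc : φ.ker ≤ center H) : Rep.{v, w} p m S := by
  have hcS : center S = ⊥ := by
    rcases (inferInstance : (center S).Normal).eq_bot_or_eq_top with h6 | h6
    · exact h6
    · exact absurd ⟨⟨fun a b => (mem_center_iff.1 (by rw [h6]; trivial : a ∈ center S) b).symm⟩⟩ hS
  have hle : f.ker ≤ φ.ker := by
    intro x hx
    rw [MonoidHom.mem_ker]
    have h1 : φ x ∈ center S := by
      rw [mem_center_iff]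
      intro s
      obtain ⟨y, rfl⟩ := hφ s
      rw [← map_mul, ← map_mul, mem_center_iff.1 (hf hx) y]
    rwa [hcS, mem_bot] at h1
  have hle' : f.rangeRestrict.ker ≤ φ.ker := by
    rw [MonoidHom.ker_rangeRestrict]
    exact hle
  let g : f.range →* S := MonoidHom.liftOfSurjective f.rangeRestrict f.rangeRestrict_surjective ⟨φ, hle'⟩
  have hg : ∀ x, g (f.rangeRestrict x) = φ x := fun x =>
    MonoidHom.liftOfRightInverse_comp_apply f.rangeRestrict _ _ ⟨φ, hle'⟩ x
  refine rep_section h hS g ?_ ?_
  · intro s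
    obtain ⟨x, rfl⟩ := hφ s
    exact ⟨f.rangeRestrict x, hg x⟩
  · intro y hy
    obtain ⟨x, rfl⟩ := f.rangeRestrict_surjective y
    rw [MonoidHom.mem_ker, hg] at hy
    have h1 := hc hy
    rw [mem_center_iff] at h1 ⊢
    intro z
    obtain ⟨t, rfl⟩ := f.rangeRestrict_surjective z
    rw [← map_mul, ← map_mul, h1]

/-- The conclusion from a lower bound. -/
theorem fine_of {T : Type u} [Group T] [Finite T] [IsSimpleGroup T] (hna : ¬ IsMulCommutative T) {N d : ℕ}
    (hN : Nat.card T = N) (hN7 : 3263442 < N)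
    (hidx : (MulAut.conj : T →* MulAut T).range.index ≤ 2) (hd1 : 2 ≤ d) (hd : 2 * N ≤ 17 ^ (d - 1))
    (hm : ∀ p m : ℕ, p.Prime → 11 ≤ p → ¬ p ∣ Nat.card T → Rep.{u, u} p m T → d ≤ m) : Fine.{u, u} T := by
  have hcT : center T = ⊥ := by
    rcases (inferInstance : (center T).Normal).eq_bot_or_eq_top with h6 | h6
    · exact h6
    · exact absurd ⟨⟨fun a b => (mem_center_iff.1 (by rw [h6]; trivial : a ∈ center T) b).symm⟩⟩ hna
  have hA : Nat.card (MulAut T) ≤ 2 * N := by
    have h1 := Subgroup.card_mul_index (MulAut.conj : T →* MulAut T).range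
    have h2 : Nat.card ↥(MulAut.conj : T →* MulAut T).range ≤ N := by
      rw [← hN]
      exact Nat.card_le_card_of_surjective _ (MonoidHom.rangeRestrict_surjective (MulAut.conj : T →* MulAut T))
    rw [← h1, mul_comm 2]
    exact Nat.mul_le_mul h2 hidx
  refine Fine.of_lt7 hcT (by rw [hN]; exact hN7) fun p m hp h11 hpT _ hR => ?_
  have hdm := hm p m hp h11 hpT hR
  rcases lt_or_ge p 17 with h17 | h17
  · have hp13 : p ≤ 13 := by
      by_contra hcon
      have : p = 14 ∨ p = 15 ∨ p = 16 := by omega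
      rcases this with rfl | rfl | rfl
      · exact absurd hp (by norm_num)
      · exact absurd hp (by norm_num)
      · exact absurd hp (by norm_num)
    rw [Nat.sub_eq_zero_of_le hp13, zero_mul, zero_add]
    exact Nat.one_lt_pow (by omega) hp.one_lt
  · have h1 : 17 ^ (d - 1) ≤ p ^ (d - 1) := Nat.pow_le_pow_left h17 _
    have h2 : p * p ^ (d - 1) ≤ p ^ m := by
      rw [← pow_succ']
      exact Nat.pow_le_pow_right hp.pos (by omega)
    have h3 : (p - 13) * Nat.card (MulAut T) ≤ (p - 13) * p ^ (d - 1) :=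
      Nat.mul_le_mul_left _ (hA.trans (hd.trans h1))
    have h4 : (p - 13) * p ^ (d - 1) + 13 * p ^ (d - 1) = p * p ^ (d - 1) := by
      rw [← add_mul]
      congr 1
      omega
    have h5 : 0 < p ^ (d - 1) := Nat.pow_pos hp.pos
    omega

end Cfsg.Agent.H128.FineSec
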