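import Cfsg.Agent.H128.FineSec
import Cfsg.Agent.H912.BdSL
import Cfsg.Agent.H912.BdOrth2
import Cfsg.Agent.H175.BdSU
import Cfsg.Agent.H792.Sp.ConwayFive
import Cfsg.Agent.H843.FullFiD
import Cfsg.Agent.H812.SuzFive
import Cfsg.Agent.NotCT.Orders
import Cfsg.Agent.H498.SporOut
import Cfsg.Agent.CpAut.Fix
import Cfsg.Agent.H14.KnownSimple
import Cfsg.Agent.H47.MeetAb
import Cfsg.Agent.S0283
import Cfsg.Agent.S0302
import Cfsg.Agent.S1624
import Cfsg.Agent.S1686
import Cfsg.Agent.S1708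
import Cfsg.Agent.S2048
import Cfsg.Agent.S2086
import Cfsg.Agent.S2089
import Cfsg.Agent.S2097

/-!
# The condition `Fine` for the sporadic groups, second part (helper128)
-/

set_option autoImplicit false

namespace Cfsg.Agent.H128.FineSpor

open Cfsg Cfsg.Agent.H698 Cfsg.Agent.H912.Bd Cfsg.Agent.H128.FineSec Subgroup

universe u v

/-- the bounds `Bd`, for `p ≠ r` -/
theorem le_of_Bd' {p m r d : ℕ} {T : Type} [Group T] (hp : p.Prime) (hr : r.Prime) (hne : r ≠ p)
    (h : Rep.{0, 0} p m T) {A : Type v} [CommGroup A] (hM : Cfsg.HasSchurMultiplier T A)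
    (hA : (Nat.card A).Coprime r) (hB : ∀ (F : Type) [Field F], (r : F) ≠ 0 → Bd F r d T) : d ≤ m := by
  obtain ⟨F, _, _, _, hPR⟩ := h.exists_PR hM hA
  refine hB F ?_ m hPR
  rw [Ne, CharP.cast_eq_zero_iff F p]
  intro h6
  rw [Nat.prime_dvd_prime_iff_eq hp hr] at h6
  exact hne h6.symm

/-! ### `PSU₃(3)`, `PSU₃(5)` -/

theorem le_psu {p m q : ℕ} (hp : p.Prime) (hq : q.Prime) (hq2 : q ≠ 2) (hne : q ≠ p) {F : Type} [Field F] [Fintype F]
    (hF : Fintype.card F = q ^ 2) (hg : (Nat.gcd 3 (q + 1)).Coprime q) (h : Rep.{0, 0} p m (PSU 3 F q)) :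
    (q - 1) * q ^ (3 - 2) ≤ m := by
  have hqF : Fact q.Prime := ⟨hq⟩
  have : CharP F q := by
    obtain ⟨r, hr⟩ := CharP.exists F
    have hr' : r.Prime := CharP.char_is_prime F r
    have : Fact r.Prime := ⟨hr'⟩
    obtain ⟨n, hn, hc⟩ := FiniteField.card F r
    rw [hF] at hc
    have h1 : r ∣ q ^ 2 := by rw [hc]; exact dvd_pow_self r n.pos.ne'
    have h2 := (Nat.prime_dvd_prime_iff_eq hr' hq).1 (hr'.dvd_of_dvd_pow h1)
    rw [← h2]; exact hr
  have hM := Cfsg.Agent.S2089.result (F := F) 3 q hF le_rfl (fun h => hq2 h.2) (by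
    simp only [Set.mem_insert_iff, Set.mem_singleton_iff, Prod.mk.injEq]
    omega)
  refine le_of_Bd' hp hq hne h hM ?_ fun F' _ hF' => ?_
  · rw [Nat.card_congr Multiplicative.toAdd, Nat.card_zmod]
    exact hg
  · exact Cfsg.Agent.H175.BdSU.bd_psu hq hF le_rfl hF' (MulEquiv.refl _)

theorem rep_psu_five {p m : ℕ} {F : Type} [Field F] [Fintype F] (hF : Fintype.card F = 25) {T : Type u} [Group T]
    (h : Rep.{u, 0} p m T) (f : PSU 3 F 5 →* T) (hf : f.ker ≤ center _) : Rep.{0, 0} p m (PSU 3 F 5) := by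
  have hs : IsSimpleGroup (PSU 3 F 5) := Cfsg.Agent.S0283.result (by rw [hF]; norm_num) 3 le_rfl (by omega)
  have hna : ¬ IsMulCommutative (PSU 3 F 5) := Cfsg.Agent.CpAut.Fix.not_comm_quot (H := ↥(Cfsg.SU 3 F 5)) (hs := hs)
  exact rep_of_hom h f hf hna (MonoidHom.id _) Function.surjective_id (by
    intro x hx
    rw [MonoidHom.mem_ker] at hx
    change x = 1 at hx
    rw [hx]
    exact one_mem _)

theorem le_five {p m : ℕ} (hp : p.Prime) (h11 : 11 ≤ p) {F : Type} [Field F] [Fintype F] (hF : Fintype.card F = 25)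
    (h : Rep.{0, 0} p m (PSU 3 F 5)) : 20 ≤ m :=
  le_psu hp (by norm_num) (by norm_num) (by omega) (by rw [hF]; norm_num) (by norm_num) h

/-! ### the general pattern -/

theorem fine_sp {T : Type u} [Group T] [Finite T] (hsp : IsSporadicGroup T) {N d : ℕ}
    (hN : Nat.card T = N) (hN7 : 3263442 < N) (hd1 : 2 ≤ d) (hd : 2 * N ≤ 17 ^ (d - 1))
    (hm : ∀ p m : ℕ, p.Prime → 11 ≤ p → Rep.{u, u} p m T → d ≤ m) : Fine.{u, u} T := by
  have hs : IsSimpleGroup T := H14.KnownSimple.sporadic hsp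
  exact fine_of (H47.MeetS.not_comm_spor hsp) hN hN7 (H498.SporOut.index_le_two hsp) hd1 hd
    fun p m hp h11 _ h => hm p m hp h11 h

/-! ### `HS`, `McL`, `Co₁` -/

section

open Cfsg.Agent.H792.SpU35

theorem hs_twenty {T : Type u} [Group T] (hT : Spor.IsoHS T) {p m : ℕ} (hp : p.Prime) (h11 : 11 ≤ p)
    (h : Rep.{u, u} p m T) : 20 ≤ m := by
  obtain ⟨e⟩ := hT
  obtain ⟨F, _, _, hF⟩ := exists_field
  obtain ⟨x, Tr⟩ := exists_tri sq_V hs_pair.1 hs_pair.2
  obtain ⟨e1⟩ := Tr.exists_hom hF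
  let W := MulAction.stabilizer Co0 Spor.leechV ⊓ MulAction.stabilizer Co0 (-(Spor.leechV + Spor.leechU')) ⊓
      MulAction.stabilizer Co0 x
  let f : W →* Spor.HS := (Co0.subtype.comp W.subtype).codRestrict Spor.HS fun g => mem_HS g.2.1.1 g.2.1.2
  have hf : Function.Injective f := by
    intro a b h
    have h1 := congrArg Subtype.val h
    exact Subtype.ext (Subtype.ext h1)
  have hinj : Function.Injective (f.comp e1.toMonoidHom) := by
    rw [MonoidHom.coe_comp]
    exact hf.comp e1.injective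
  refine le_five hp h11 hF (rep_psu_five hF (rep_down h e) (f.comp e1.toMonoidHom) ?_)
  rw [(MonoidHom.ker_eq_bot_iff _).2 hinj]
  exact bot_le

theorem mcl_twenty {T : Type u} [Group T] (hT : Spor.IsoMcL T) {p m : ℕ} (hp : p.Prime) (h11 : 11 ≤ p)
    (h : Rep.{u, u} p m T) : 20 ≤ m := by
  obtain ⟨e⟩ := hT
  obtain ⟨F, _, _, hF⟩ := exists_field
  obtain ⟨x, Tr⟩ := exists_tri_mcl
  obtain ⟨e1⟩ := Tr.exists_hom hF
  let W := MulAction.stabilizer Co0 x ⊓ MulAction.stabilizer Co0 Spor.leechV ⊓ MulAction.stabilizer Co0 Spor.leechU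
  let f : W →* Spor.McL := (Co0.subtype.comp W.subtype).codRestrict Spor.McL fun g => ⟨⟨g.1.2, g.2.1.2⟩, g.2.2⟩
  have hf : Function.Injective f := by
    intro a b h
    have h1 := congrArg Subtype.val h
    exact Subtype.ext (Subtype.ext h1)
  have hinj : Function.Injective (f.comp e1.toMonoidHom) := by
    rw [MonoidHom.coe_comp]
    exact hf.comp e1.injective
  refine le_five hp h11 hF (rep_psu_five hF (rep_down h e) (f.comp e1.toMonoidHom) ?_)
  rw [(MonoidHom.ker_eq_bot_iff _).2 hinj]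
  exact bot_le

theorem co1_twenty {T : Type u} [Group T] (hT : Spor.IsoCo1 T) {p m : ℕ} (hp : p.Prime) (h11 : 11 ≤ p)
    (h : Rep.{u, u} p m T) : 20 ≤ m := by
  obtain ⟨e⟩ := hT
  obtain ⟨F, _, _, hF⟩ := exists_field
  obtain ⟨x, Tr⟩ := exists_tri_mcl
  obtain ⟨e1⟩ := Tr.exists_hom hF
  let W := MulAction.stabilizer Co0 x ⊓ MulAction.stabilizer Co0 Spor.leechV ⊓ MulAction.stabilizer Co0 Spor.leechU
  let f : W →* Spor.Co1 := (QuotientGroup.mk' (center Co0)).comp W.subtype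
  refine le_five hp h11 hF (rep_psu_five hF (rep_down h e) (f.comp e1.toMonoidHom) ?_)
  intro y hy
  have h1 : ((e1 y : W) : Co0) ∈ center Co0 := by
    have h2 : (QuotientGroup.mk' (center Co0)) ((e1 y : W) : Co0) = 1 := hy
    rwa [QuotientGroup.mk'_apply, QuotientGroup.eq_one_iff] at h2
  rw [mem_center_iff]
  intro z
  apply e1.injective
  rw [map_mul, map_mul]
  exact Subtype.ext (mem_center_iff.1 h1 ((e1 z : W) : Co0))

end

theorem fine_hs {T : Type u} [Group T] [Finite T] (hsp : IsSporadicGroup T) (h : Spor.IsoHS T) : Fine.{u, u} T :=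
  fine_sp hsp (NotCT.Orders.hs h) (d := 20) (by norm_num) (by norm_num) (by norm_num)
    fun _ _ hp h11 hR => hs_twenty h hp h11 hR

theorem fine_mcl {T : Type u} [Group T] [Finite T] (hsp : IsSporadicGroup T) (h : Spor.IsoMcL T) : Fine.{u, u} T :=
  fine_sp hsp (NotCT.Orders.mcl h) (d := 20) (by norm_num) (by norm_num) (by norm_num)
    fun _ _ hp h11 hR => mcl_twenty h hp h11 hR

theorem fine_co1 {T : Type u} [Group T] [Finite T] (hsp : IsSporadicGroup T) (h : Spor.IsoCo1 T) : Fine.{u, u} T :=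
  fine_sp hsp (NotCT.Orders.co1 h) (d := 20) (by norm_num) (by norm_num) (by norm_num)
    fun _ _ hp h11 hR => co1_twenty h hp h11 hR

end Cfsg.Agent.H128.FineSpor
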