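import Cfsg.Agent.H128.FineSpor

/-!
# The condition `Fine` for `J₂`, `Suz`, `HN`, `Fi₂₂`, `Fi₂₃`, `Fi₂₄'` (helper128)
-/

set_option autoImplicit false

namespace Cfsg.Agent.H128.FineSpor

open Cfsg Cfsg.Agent.H698 Cfsg.Agent.H912.Bd Cfsg.Agent.H128.FineSec Subgroup

universe u v

/-! ### `J₂` -/

theorem j2_six {T : Type u} [Group T] (hT : Spor.IsoJ2 T) {p m : ℕ} (hp : p.Prime) (h11 : 11 ≤ p)
    (h : Rep.{u, u} p m T) : 6 ≤ m := by
  obtain ⟨e⟩ := hT
  obtain ⟨H, -, ⟨F, _, _, hF, ⟨e1⟩⟩, -⟩ := S1624.result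
  have hs : IsSimpleGroup (PSU 3 F 3) := Cfsg.Agent.S0283.result (by rw [hF]; norm_num) 3 le_rfl (by omega)
  have hna : ¬ IsMulCommutative (PSU 3 F 3) := Cfsg.Agent.CpAut.Fix.not_comm_quot (H := ↥(Cfsg.SU 3 F 3)) (hs := hs)
  have h1 : Rep.{0, 0} p m (PSU 3 F 3) := rep_section (rep_down h e) hna e1.toMonoidHom e1.surjective (by
    rw [(MonoidHom.ker_eq_bot_iff _).2 e1.injective]
    exact bot_le)
  exact le_psu hp (by norm_num) (by norm_num) (by omega) (by rw [hF]; norm_num) (by norm_num) h1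

theorem fine_j2 {T : Type u} [Group T] [Finite T] (hsp : IsSporadicGroup T) (h : Spor.IsoJ2 T) : Fine.{u, u} T := by
  have hs : IsSimpleGroup T := H14.KnownSimple.sporadic hsp
  have hna := H47.MeetS.not_comm_spor hsp
  have hN := NotCT.Orders.j2 h
  have hidx := H498.SporOut.index_le_two hsp
  have hcT : center T = ⊥ := by
    rcases (inferInstance : (center T).Normal).eq_bot_or_eq_top with h6 | h6
    · exact h6
    · exact absurd ⟨⟨fun a b => (mem_center_iff.1 (by rw [h6]; trivial : a ∈ center T) b).symm⟩⟩ hna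
  have hA : Nat.card (MulAut T) ≤ 1209600 := by
    have h1 := Subgroup.card_mul_index (MulAut.conj : T →* MulAut T).range
    have h2 : Nat.card ↥(MulAut.conj : T →* MulAut T).range ≤ 604800 := by
      rw [← hN]
      exact Nat.card_le_card_of_surjective _ (MonoidHom.rangeRestrict_surjective (MulAut.conj : T →* MulAut T))
    rw [← h1]
    exact Nat.mul_le_mul h2 hidx
  refine Fine.of_lt6 hcT (by rw [hN]; norm_num) fun p m hp h11 hpT _ hR => ?_
  have hdm := j2_six h hp h11 hR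
  rcases lt_or_ge p 17 with h17 | h17
  · have hp13 : p = 11 ∨ p = 13 := by
      have : p = 11 ∨ p = 12 ∨ p = 13 ∨ p = 14 ∨ p = 15 ∨ p = 16 := by omega
      rcases this with rfl | rfl | rfl | rfl | rfl | rfl
      · exact Or.inl rfl
      · exact absurd hp (by norm_num)
      · exact Or.inr rfl
      · exact absurd hp (by norm_num)
      · exact absurd hp (by norm_num)
      · exact absurd hp (by norm_num)
    rcases hp13 with rfl | rfl
    · rw [Nat.sub_self, zero_mul, zero_add]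
      exact Nat.one_lt_pow (by omega) hp.one_lt
    · have h1 : 13 ^ 6 ≤ 13 ^ m := Nat.pow_le_pow_right (by norm_num) hdm
      have h2 : (13 - 11) * Nat.card (MulAut T) ≤ 2 * 1209600 := Nat.mul_le_mul_left _ hA
      have h3 : (13 : ℕ) ^ 6 = 4826809 := by norm_num
      omega
  · have h1 : 17 ^ 5 ≤ p ^ 5 := Nat.pow_le_pow_left h17 _
    have h2 : p * p ^ 5 ≤ p ^ m := by
      rw [← pow_succ']
      exact Nat.pow_le_pow_right hp.pos (by omega)
    have h3 : (p - 11) * Nat.card (MulAut T) ≤ (p - 11) * p ^ 5 :=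
      Nat.mul_le_mul_left _ (hA.trans ((by norm_num : 1209600 ≤ 17 ^ 5).trans h1))
    have h4 : (p - 11) * p ^ 5 + 11 * p ^ 5 = p * p ^ 5 := by
      rw [← add_mul]
      congr 1
      omega
    have h5 : 0 < p ^ 5 := Nat.pow_pos hp.pos
    omega

/-! ### `HN` -/

theorem rep_of_cover {p m : ℕ} {T : Type u} [Group T] (h : Rep.{u, 0} p m T) {K : Type*} [Group K] (i : K →* T)
    (hi : Function.Injective i) {X : Type*} [Group X] (g : K →* X) (hg : Function.Surjective g)
    (hgc : g.ker ≤ center K) {S : Type} [Group S] [IsSimpleGroup S] (hS : ¬ IsMulCommutative S) (f : S →* X)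
    (hf : Function.Injective f) : Rep.{0, 0} p m S := by
  let H : Subgroup K := f.range.comap g
  let e := MonoidHom.ofInjective hf
  let φ : H →* S := e.symm.toMonoidHom.comp ((g.comp H.subtype).codRestrict f.range (fun x => x.2))
  have hφ' : ∀ x : H, f (φ x) = g x := by
    intro x
    change f (e.symm _) = _
    rw [← MonoidHom.ofInjective_apply hf]
    exact congrArg Subtype.val (e.apply_symm_apply _)
  refine rep_of_hom h (i.comp H.subtype) ?_ hS φ ?_ ?_
  · rw [(MonoidHom.ker_eq_bot_iff (i.comp H.subtype)).2 (by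
      rw [MonoidHom.coe_comp]
      exact hi.comp H.subtype_injective)]
    exact bot_le
  · intro s
    obtain ⟨k, hk⟩ := hg (f s)
    exact ⟨⟨k, ⟨s, hk.symm⟩⟩, hf (by rw [hφ']; exact hk)⟩
  · intro x hx
    rw [MonoidHom.mem_ker] at hx
    have h1 : g x = 1 := by rw [← hφ', hx, map_one]
    have h2 := hgc (MonoidHom.mem_ker.2 h1)
    rw [mem_center_iff] at h2 ⊢
    intro y
    exact Subtype.ext (h2 y)

theorem hn_twenty {T : Type u} [Group T] (hT : Spor.IsoHN T) {p m : ℕ} (hp : p.Prime) (h11 : 11 ≤ p)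
    (h : Rep.{u, u} p m T) : 20 ≤ m := by
  obtain ⟨e⟩ := hT
  obtain ⟨K, _, -, -, ⟨e2⟩, -⟩ := S1708.result
  obtain ⟨F, _, _, hF⟩ := H792.SpU35.exists_field
  have hs : IsSimpleGroup (PSU 3 F 5) := Cfsg.Agent.S0283.result (by rw [hF]; norm_num) 3 le_rfl (by omega)
  have hna : ¬ IsMulCommutative (PSU 3 F 5) := Cfsg.Agent.CpAut.Fix.not_comm_quot (H := ↥(Cfsg.SU 3 F 5)) (hs := hs)
  -- the embedding in `HS`
  obtain ⟨x, Tr⟩ := H792.SpU35.exists_tri H792.SpU35.sq_V H792.SpU35.hs_pair.1 H792.SpU35.hs_pair.2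
  obtain ⟨e1⟩ := Tr.exists_hom hF
  let W := MulAction.stabilizer Co0 Spor.leechV ⊓ MulAction.stabilizer Co0 (-(Spor.leechV + Spor.leechU')) ⊓
      MulAction.stabilizer Co0 x
  let f : W →* Spor.HS := (Co0.subtype.comp W.subtype).codRestrict Spor.HS fun g => H792.SpU35.mem_HS g.2.1.1 g.2.1.2
  have hf : Function.Injective f := by
    intro a b h
    have h1 := congrArg Subtype.val h
    exact Subtype.ext (Subtype.ext h1)
  have hinj : Function.Injective (f.comp e1.toMonoidHom) := by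
    rw [MonoidHom.coe_comp]
    exact hf.comp e1.injective
  refine le_five hp h11 hF ?_
  refine rep_of_cover (rep_down h e) ((Subgroup.subtype _).comp K.subtype) ?_
    (e2.toMonoidHom.comp (QuotientGroup.mk' (center ↥K))) ?_ ?_ hna (f.comp e1.toMonoidHom) hinj
  · rw [MonoidHom.coe_comp]
    exact (Subgroup.subtype_injective _).comp K.subtype_injective
  · rw [MonoidHom.coe_comp]
    exact e2.surjective.comp (QuotientGroup.mk'_surjective _)
  · intro y hy
    have h1 : e2 (QuotientGroup.mk' (center ↥K) y) = 1 := hy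
    rw [MulEquiv.map_eq_one_iff, QuotientGroup.mk'_apply, QuotientGroup.eq_one_iff] at h1
    exact h1

theorem fine_hn {T : Type u} [Group T] [Finite T] (hsp : IsSporadicGroup T) (h : Spor.IsoHN T) : Fine.{u, u} T :=
  fine_sp hsp (NotCT.Orders.hn h) (d := 20) (by norm_num) (by norm_num) (by norm_num)
    fun _ _ hp h11 hR => hn_twenty h hp h11 hR

/-! ### `Fi₂₂` -/

instance fact3 : Fact (Nat.Prime 3) := ⟨Nat.prime_three⟩

theorem fi22_26 {T : Type u} [Group T] (hT : Spor.IsoFi22 T) {p m : ℕ} (hp : p.Prime) (h11 : 11 ≤ p)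
    (h : Rep.{u, u} p m T) : 26 ≤ m := by
  obtain ⟨e⟩ := hT
  obtain ⟨e1⟩ := S1686.result
  obtain ⟨f, hf⟩ := exists_odd (K := ZMod 3) (le_refl 3)
  obtain ⟨e2⟩ := Cfsg.Agent.S0302.result (F := ZMod 3)
  have hs : IsSimpleGroup (Matrix.ProjectiveSpecialLinearGroup (Fin 4) (ZMod 3)) :=
    S0249.result 4 (by norm_num)
  have hna : ¬ IsMulCommutative (Matrix.ProjectiveSpecialLinearGroup (Fin 4) (ZMod 3)) :=
    Cfsg.Agent.CpAut.Fix.not_comm_quot (H := Matrix.SpecialLinearGroup (Fin 4) (ZMod 3)) (hs := hs)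
  have hfk : ((Subgroup.subtype _).comp (e1.symm.toMonoidHom.comp f)).ker ≤ center _ := by
    intro x hx
    apply hf
    rw [MonoidHom.mem_ker] at hx ⊢
    have h1 : e1.symm (f x) = 1 := Subtype.ext hx
    rwa [MulEquiv.map_eq_one_iff] at h1
  have h1 : Rep.{0, 0} p m (Matrix.ProjectiveSpecialLinearGroup (Fin 4) (ZMod 3)) := by
    refine rep_of_hom (rep_down h e) _ hfk hna
      (e2.toMonoidHom.comp (QuotientGroup.mk' (center (Omega (ZMod 3) (quadFormPlus 3 (ZMod 3)))))) ?_ ?_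
    · rw [MonoidHom.coe_comp]
      exact e2.surjective.comp (QuotientGroup.mk'_surjective _)
    · intro y hy
      have h1 : e2 (QuotientGroup.mk' _ y) = 1 := hy
      rw [MulEquiv.map_eq_one_iff, QuotientGroup.mk'_apply, QuotientGroup.eq_one_iff] at h1
      exact h1
  have hM := Cfsg.Agent.S2086.result (F := ZMod 3) (q := 3) (by rw [ZMod.card]) 4 (by norm_num) (by omega) (by
    simp only [Set.mem_insert_iff, Set.mem_singleton_iff, Prod.mk.injEq]
    omega)
  have h2 := le_of_Bd' hp Nat.prime_three (by omega) h1 hM (r := 3) (d := 26) (by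
      rw [Nat.card_congr Multiplicative.toAdd, Nat.card_zmod]
      norm_num) fun F' _ hF' => by
    have h3 := bd_psl (F := F') (r := 3) Nat.prime_three hF' (m := 4) (by norm_num) (K := ZMod 3) inferInstance
    rwa [ZMod.card] at h3
  exact h2

theorem fine_fi22 {T : Type u} [Group T] [Finite T] (hsp : IsSporadicGroup T) (h : Spor.IsoFi22 T) : Fine.{u, u} T :=
  fine_sp hsp (NotCT.Orders.fi22 h) (d := 26) (by norm_num) (by norm_num) (by norm_num)
    fun _ _ hp h11 hR => fi22_26 h hp h11 hR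

/-! ### `Fi₂₃`, `Fi₂₄'` -/

theorem le_PO {p m : ℕ} (hp : p.Prime) (h11 : 11 ≤ p) (h : Rep.{0, 0} p m H840.M499.PO) : 26 ≤ m := by
  have hM := Cfsg.Agent.S2097.result (F := ZMod 3) (q := 3) (by rw [ZMod.card]) 4 le_rfl (by decide) (by omega)
  refine le_of_Bd' hp Nat.prime_three (by omega) h hM (r := 3) (d := 26) ?_ fun F' _ hF' => ?_
  · rw [Nat.card_congr Multiplicative.toAdd, Nat.card_prod, Nat.card_zmod]
    norm_num
  · have h3 := bd_pomega_plus_cube (F := F') (r := 3) (K := ZMod 3) Nat.prime_three hF' inferInstance (m := 4)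
      (by norm_num)
    rwa [ZMod.card] at h3

theorem fi23_26 {T : Type u} [Group T] (hT : Spor.IsoFi23 T) {p m : ℕ} (hp : p.Prime) (h11 : 11 ≤ p)
    (h : Rep.{u, u} p m T) : 26 ≤ m := by
  obtain ⟨e⟩ := hT
  obtain ⟨e1⟩ := H843.FullFiD.EE_equiv
  have hs : IsSimpleGroup H840.M499.PO := S0296.result 4 le_rfl
  refine le_PO hp h11 (rep_section (rep_down h e) H840.M499.not_comm_PO e1.toMonoidHom e1.surjective ?_)
  rw [(MonoidHom.ker_eq_bot_iff _).2 e1.injective]
  exact bot_le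

theorem fi24_26 {T : Type u} [Group T] (hT : Spor.IsoFi24' T) {p m : ℕ} (hp : p.Prime) (h11 : 11 ≤ p)
    (h : Rep.{u, u} p m T) : 26 ≤ m := by
  obtain ⟨e⟩ := hT
  obtain ⟨e1⟩ := H843.FullFiD.EE_equiv
  have hs : IsSimpleGroup H840.M499.PO := S0296.result 4 le_rfl
  let f : Spor.Fi23 →* Spor.Fi24' := H843.FullFiD.ph.codRestrict (commutator Spor.Fi24)
    fun x => (H843.FullFiD.mem_range.1 ⟨x, rfl⟩).2
  have hf : Function.Injective f := by
    intro a b hab
    exact H843.FullFiD.ph_injective (congrArg Subtype.val hab)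
  have hinj : Function.Injective (f.comp (H843.FullFiD.EE.subtype.comp e1.symm.toMonoidHom)) := by
    rw [MonoidHom.coe_comp, MonoidHom.coe_comp]
    exact hf.comp (H843.FullFiD.EE.subtype_injective.comp e1.symm.injective)
  refine le_PO hp h11 (rep_of_hom (rep_down h e) (f.comp (H843.FullFiD.EE.subtype.comp e1.symm.toMonoidHom)) ?_
    H840.M499.not_comm_PO (MonoidHom.id _) Function.surjective_id ?_)
  · rw [(MonoidHom.ker_eq_bot_iff _).2 hinj]
    exact bot_le
  · intro x hx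
    have hx' : x = 1 := hx
    rw [hx']
    exact one_mem _

theorem fine_fi23 {T : Type u} [Group T] [Finite T] (hsp : IsSporadicGroup T) (h : Spor.IsoFi23 T) : Fine.{u, u} T :=
  fine_sp hsp (NotCT.Orders.fi23 h) (d := 26) (by norm_num) (by norm_num) (by norm_num)
    fun _ _ hp h11 hR => fi23_26 h hp h11 hR

theorem fine_fi24 {T : Type u} [Group T] [Finite T] (hsp : IsSporadicGroup T) (h : Spor.IsoFi24' T) : Fine.{u, u} T :=
  fine_sp hsp (NotCT.Orders.fi24 h) (d := 26) (by norm_num) (by norm_num) (by norm_num)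
    fun _ _ hp h11 hR => fi24_26 h hp h11 hR

/-! ### `Suz` -/

section

open Cfsg.Agent.H812.SuzFive Cfsg.Agent.H812 Cfsg.Agent.H812.FiveBasis Cfsg.Agent.H812.FiveMain
open Cfsg.Agent.J2Type.SylowFive

/-- the pair of order twelve -/
def p0 : T43 := (⟨2, 3, by decide, by decide⟩, finRotate 3)

theorem act_p0 : ∀ i : Fin 12, i ≠ 0 → ∀ u : V2, act (p0 ^ i.val) u = u → u = 0 := by
  decide +kernel

theorem bd_suz {T : Type u} [Group T] [Finite T] (hT : Spor.IsoSuz T) {F : Type v} [Field F] (h5F : ((5 : ℕ) : F) ≠ 0) :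
    Bd F 5 12 T := by
  obtain ⟨e⟩ := hT
  have h5 : Fact (Nat.Prime 5) := ⟨by norm_num⟩
  obtain ⟨P⟩ : Nonempty (Sylow 5 T) := inferInstance
  have hcard : Nat.card T = 448345497600 := NotCT.Orders.suz ⟨e⟩
  have hP25 : Nat.card (P : Subgroup T) = 25 := by
    have := J2Type.SylowSeven.card_sylow P 2 17933819904 (by rw [hcard]; norm_num) (by norm_num)
    rw [this]; norm_num
  have hG : Nat.card T = 200 * 2241727488 := by rw [hcard]
  have hm : 2241727488 % 5 = 3 := by norm_num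
  have hg0 : Good (e.symm SuzLoc.x5) := good_map e.symm good_x5
  obtain ⟨g, hg⟩ := exists_conj_mem_sylow P (y := e.symm SuzLoc.x5) (n := 1) (by rw [hg0.1]; norm_num)
  have hg1 := hg0.conj g
  have hsq : IsConj (g * e.symm SuzLoc.x5 * g⁻¹) ((g * e.symm SuzLoc.x5 * g⁻¹) ^ 2) := by
    obtain ⟨c, hc⟩ := isConj_iff.1 conj_sq
    have h1 : e.symm c * e.symm SuzLoc.x5 * (e.symm c)⁻¹ = (e.symm SuzLoc.x5) ^ 2 := by
      rw [← map_inv, ← map_mul, ← map_mul, hc, map_pow]
    refine isConj_iff.2 ⟨g * e.symm c * g⁻¹, ?_⟩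
    rw [conj_pow, ← h1]
    group
  obtain ⟨b, H, -⟩ := FiveMain.exists_nrm hP25 hG hm hg1 hsq hg
  obtain ⟨n, hn⟩ := H.surjective p0
  have hrel : ∀ i : ℕ, ∀ u : V2, (n : T) ^ i * c b u * ((n : T) ^ i)⁻¹ = c b (act (p0 ^ i) u) := by
    intro i u
    have h1 := H.hom_spec (n ^ i)
    rw [map_pow, hn] at h1
    have h2 := rel_c H.bas h1 u
    rwa [Subgroup.coe_pow] at h2
  have hPn : ∀ y ∈ (P : Subgroup T), (n : T) * y * (n : T)⁻¹ ∈ (P : Subgroup T) := fun y hy =>
    (mem_normalizer_iff.1 n.2 y).1 hy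
  refine bd_of_frob (by norm_num) h5F (P : Subgroup T) H.comm P.isPGroup' ?_ 12 hPn ?_
  · intro h
    rw [h, card_bot] at hP25
    norm_num at hP25
  · intro i hi hi12 y hy hc
    obtain ⟨w, rfl⟩ := H.surjP y hy
    have h1 : (n : T) ^ i * c b w * ((n : T) ^ i)⁻¹ = c b w := by rw [hc, mul_inv_cancel_right]
    rw [hrel] at h1
    have h2 := c_inj H.bas h1
    have h3 := act_p0 ⟨i, hi12⟩ (by
      intro h
      have := congrArg Fin.val h
      simp only [Fin.val_zero] at this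
      omega) w h2
    rw [h3, c_zero]

end

theorem suz_12 {T : Type u} [Group T] (hT : Spor.IsoSuz T) {p m : ℕ} (hp : p.Prime) (h11 : 11 ≤ p)
    (h : Rep.{u, u} p m T) : 12 ≤ m := by
  obtain ⟨e⟩ := hT
  have hfin : Finite Spor.Suz := Nat.finite_of_card_ne_zero (by
    rw [NotCT.Orders.suz (K := Spor.Suz) ⟨MulEquiv.refl _⟩]; norm_num)
  refine le_of_Bd' hp (r := 5) (by norm_num) (by omega) (rep_down h e) S2048.result ?_ fun F' _ hF' => ?_
  · rw [Nat.card_congr Multiplicative.toAdd, Nat.card_zmod]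
    norm_num
  · exact bd_suz ⟨MulEquiv.refl _⟩ hF'

theorem fine_suz {T : Type u} [Group T] [Finite T] (hsp : IsSporadicGroup T) (h : Spor.IsoSuz T) : Fine.{u, u} T :=
  fine_sp hsp (NotCT.Orders.suz h) (d := 12) (by norm_num) (by norm_num) (by norm_num)
    fun _ _ hp h11 hR => suz_12 h hp h11 hR

/-- **The condition `Fine`, second part of the sporadic groups.** -/
theorem fine_spor2 {T : Type u} [Group T] [Finite T] (h : Cfsg.Spor.IsoJ2 T ∨ Cfsg.Spor.IsoHS T ∨ Cfsg.Spor.IsoMcL T ∨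
    Cfsg.Spor.IsoCo1 T ∨ Cfsg.Spor.IsoSuz T ∨ Cfsg.Spor.IsoFi22 T ∨ Cfsg.Spor.IsoFi23 T ∨ Cfsg.Spor.IsoFi24' T ∨
    Cfsg.Spor.IsoHN T) : Cfsg.Agent.H698.Fine.{u, u} T := by
  have hsp : IsSporadicGroup T := by
    unfold IsSporadicGroup
    tauto
  rcases h with h | h | h | h | h | h | h | h | h
  · exact fine_j2 hsp h
  · exact fine_hs hsp h
  · exact fine_mcl hsp h
  · exact fine_co1 hsp h
  · exact fine_suz hsp h
  · exact fine_fi22 hsp h
  · exact fine_fi23 hsp h
  · exact fine_fi24 hsp h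
  · exact fine_hn hsp h

end Cfsg.Agent.H128.FineSpor
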