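import Cfsg.Agent.ClassicalGeometry.OrthAutSylow
import Cfsg.Agent.ClassicalGeometry.OrthSemiForms

/-!
# `PΩ₈⁺(3)`: the centralizer of the centre of a Sylow 3-subgroup (helper128)

`result`: `P` a Sylow 3-subgroup of a group isomorphic to `PΩ₈⁺(3)`. There is a subgroup `K ≤ P` containing the commutators
of `P` and normalized by the centralizer of `Z(P)`. In particular the Sylow 3-subgroups of `C(Z(P)) / O₃(C(Z(P)))` are abelian.
-/

set_option autoImplicit false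

namespace Cfsg.Agent.H128.OPlus8

open QuadraticMap Cfsg.Agent.LieClassical.OrthCore Cfsg.Agent.LieClassical.OrthTrans
  Cfsg.Agent.LieClassical.OrthSimple Cfsg.Agent.ClassicalGeometry.OrthAutBasic
  Cfsg.Agent.ClassicalGeometry.OrthAutRoot Cfsg.Agent.ClassicalGeometry.OrthAutSylow
  Cfsg.Agent.LieClassical.OrthForms Cfsg.Agent.ClassicalGeometry.OrthSemiForms
open scoped Matrix

/-! ### abstract part -/

section Abstract

/-- the conclusion -/
def GoodP {G : Type*} [Group G] (P : Subgroup G) : Prop :=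
  ∃ K : Subgroup G, K ≤ P ∧ (∀ a ∈ P, ∀ b ∈ P, a * b * a⁻¹ * b⁻¹ ∈ K) ∧
    ∀ c : G, (∀ z ∈ P, (∀ g ∈ P, g * z = z * g) → c * z = z * c) → ∀ k ∈ K, c * k * c⁻¹ ∈ K

theorem GoodP.map {G H : Type*} [Group G] [Group H] {P : Subgroup G} (h : GoodP P) (e : G ≃* H) :
    GoodP (P.map e.toMonoidHom) := by
  obtain ⟨K, hK, hc, hn⟩ := h
  refine ⟨K.map e.toMonoidHom, Subgroup.map_mono hK, ?_, ?_⟩
  · rintro _ ⟨a, ha, rfl⟩ _ ⟨b, hb, rfl⟩
    exact ⟨a * b * a⁻¹ * b⁻¹, hc a ha b hb, by simp⟩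
  · rintro c hcz _ ⟨k, hk, rfl⟩
    refine ⟨e.symm c * k * (e.symm c)⁻¹, hn (e.symm c) ?_ k hk, by simp⟩
    intro z hz hzc
    have h1 := hcz (e z) ⟨z, hz, rfl⟩ (by
      rintro _ ⟨g, hg, rfl⟩
      change e g * e z = e z * e g
      rw [← map_mul, ← map_mul, hzc g hg])
    apply e.injective
    rw [map_mul, map_mul, e.apply_symm_apply]
    exact h1

theorem GoodP.sylow {G : Type*} [Group G] [Finite G] {p : ℕ} [Fact p.Prime] {P : Sylow p G}
    (h : GoodP (P : Subgroup G)) (S : Sylow p G) : GoodP (S : Subgroup G) := by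
  obtain ⟨g, hg⟩ := MulAction.exists_smul_eq G P S
  have h1 := h.map (MulAut.conj g)
  have h2 : (P : Subgroup G).map (MulAut.conj g).toMonoidHom = (S : Subgroup G) := by
    rw [← hg]
    rfl
  rwa [h2] at h1

theorem comm_of_card {S : Type*} [Group S] [Finite S] (hS : IsPGroup 3 S) (h : ¬ 3 ^ 3 ∣ Nat.card S) (a b : S) :
    a * b = b * a := by
  have : Fact (Nat.Prime 3) := ⟨Nat.prime_three⟩
  obtain ⟨n, hn⟩ := IsPGroup.iff_card.1 hS
  have h2 : n ≤ 2 := by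
    by_contra hcon
    exact h (by rw [hn]; exact pow_dvd_pow 3 (by omega))
  interval_cases n
  · rw [pow_zero] at hn
    have := (Nat.card_eq_one_iff_unique.1 hn).1
    exact Subsingleton.elim _ _
  · rw [pow_one] at hn
    have := isCyclic_of_prime_card hn
    have hc := IsCyclic.commutative (α := S)
    exact hc.is_comm.comm a b
  · exact (IsPGroup.isMulCommutative_of_card_eq_prime_sq hn).is_comm.comm a b

end Abstract

/-! ### coordinates -/

variable {F : Type} [Field F]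

abbrev V8 (F : Type) := Fin 4 ⊕ Fin 4 → F

abbrev Q8 (F : Type) [Field F] : QuadraticForm F (V8 F) := plusForm 4 F

def x0 : V8 F := Pi.single (.inl 0) 1

def u0 : V8 F := Pi.single (.inl 1) 1

theorem polar_x0 (v : V8 F) : polar (Q8 F) x0 v = v (.inr 0) := by
  rw [polar_plusForm]
  simp [x0, Fin.sum_univ_succ, Pi.single_apply]

theorem polar_u0 (v : V8 F) : polar (Q8 F) u0 v = v (.inr 1) := by
  rw [polar_plusForm]
  simp [u0, Fin.sum_univ_succ, Pi.single_apply]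

theorem Q_x0 : Q8 F x0 = 0 := by
  rw [coe_plusForm]
  simp [x0, quadFormPlus, Fin.sum_univ_succ, Pi.single_apply]

theorem Q_u0 : Q8 F u0 = 0 := by
  rw [coe_plusForm]
  simp [u0, quadFormPlus, Fin.sum_univ_succ, Pi.single_apply]

theorem ln : Ln (Q8 F) x0 u0 where
  qu := Q_x0
  qw := Q_u0
  perp := by
    rw [polar_x0]
    simp [u0]
  ne := by
    intro h
    have := congrFun h (.inl 0)
    simp [x0] at this
  ind := by
    intro c h
    have := congrFun h (.inl 1)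
    simp [x0, u0] at this

theorem big : Big (Q8 F) where
  nondeg := nondeg_plusForm 4 F
  dim := by
    rw [Module.finrank_fintype_fun_eq_card, Fintype.card_sum, Fintype.card_fin]
    norm_num

theorem mem_L0 {v : V8 F} : v ∈ L F (x0 : V8 F) u0 ↔ (∀ i, v (.inr i) = 0) ∧ v (.inl 2) = 0 ∧ v (.inl 3) = 0 := by
  rw [mem_L]
  constructor
  · rintro ⟨a, b, rfl⟩
    refine ⟨fun i => ?_, ?_, ?_⟩ <;> simp [x0, u0, Pi.single_apply]
  · rintro ⟨h1, h2, h3⟩
    refine ⟨v (.inl 0), v (.inl 1), ?_⟩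
    funext j
    rcases j with j | j
    · fin_cases j <;> simp [x0, u0, Pi.single_apply, h2, h3]
    · simp [x0, u0, Pi.single_apply, h1]

/-- the inclusion of the four middle coordinates -/
def inc : (Fin 2 ⊕ Fin 2 → F) →ₗ[F] V8 F where
  toFun w := Sum.elim ![0, 0, w (.inl 0), w (.inl 1)] ![0, 0, w (.inr 0), w (.inr 1)]
  map_add' w w' := by
    funext j
    rcases j with j | j <;> fin_cases j <;> simp
  map_smul' c w := by
    funext j
    rcases j with j | j <;> fin_cases j <;> simp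

/-- the projection on the four middle coordinates -/
def prj : V8 F →ₗ[F] (Fin 2 ⊕ Fin 2 → F) where
  toFun v := Sum.elim ![v (.inl 2), v (.inl 3)] ![v (.inr 2), v (.inr 3)]
  map_add' w w' := by
    funext j
    rcases j with j | j <;> fin_cases j <;> simp
  map_smul' c w := by
    funext j
    rcases j with j | j <;> fin_cases j <;> simp

theorem prj_inc (w : Fin 2 ⊕ Fin 2 → F) : prj (inc w) = w := by
  funext j
  rcases j with j | j <;> fin_cases j <;> rfl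

theorem inc_zero (w : Fin 2 ⊕ Fin 2 → F) : (inc w : V8 F) (.inr 0) = 0 ∧ (inc w : V8 F) (.inr 1) = 0 := ⟨rfl, rfl⟩

theorem sub_mem {v : V8 F} (h0 : v (.inr 0) = 0) (h1 : v (.inr 1) = 0) : v - inc (prj v) ∈ L F (x0 : V8 F) u0 := by
  rw [mem_L0]
  refine ⟨fun i => ?_, ?_, ?_⟩
  · fin_cases i
    · simp [inc, h0]
    · simp [inc, h1]
    · simp [inc, prj]
    · simp [inc, prj]
  · simp [inc, prj]
  · simp [inc, prj]

theorem prj_L {v : V8 F} (h : v ∈ L F (x0 : V8 F) u0) : prj v = 0 := by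
  obtain ⟨h1, h2, h3⟩ := mem_L0.1 h
  funext j
  rcases j with j | j <;> fin_cases j <;> simp [prj, h1, h2, h3]

theorem Q_prj {v : V8 F} (h0 : v (.inr 0) = 0) (h1 : v (.inr 1) = 0) :
    quadFormPlus 2 F (prj v) = quadFormPlus 4 F v := by
  simp [quadFormPlus, prj, Fin.sum_univ_succ, h0, h1]

/-! ### the centralizer of the root element -/

section Cent

/-- the root element -/
noncomputable def t0 : E (Q8 F) := ⟨T (Q8 F) x0 u0, T_mem_E _ _⟩

/-- its centralizer -/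
noncomputable def HH (F : Type) [Field F] : Subgroup (E (Q8 F)) := Subgroup.centralizer {(t0 : E (Q8 F))}

theorem mem_HH {g : E (Q8 F)} : g ∈ HH F ↔ T (Q8 F) ((g : V8 F ≃ₗ[F] V8 F) x0) ((g : V8 F ≃ₗ[F] V8 F) u0) = T (Q8 F) x0 u0 := by
  rw [HH, Subgroup.mem_centralizer_singleton_iff, ← T_conj (E_le_O g.2), mul_inv_eq_iff_eq_mul]
  constructor
  · intro h
    exact congrArg Subtype.val h
  · intro h
    exact Subtype.ext h

theorem map_L {g : E (Q8 F)} (hg : g ∈ HH F) {v : V8 F} (hv : v ∈ L F (x0 : V8 F) u0) :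
    (g : V8 F ≃ₗ[F] V8 F) v ∈ L F (x0 : V8 F) u0 := by
  have h1 := D_T big.nondeg (ln.map (E_le_O g.2))
  rw [mem_HH.1 hg, D_T big.nondeg ln] at h1
  obtain ⟨a, b, rfl⟩ := mem_L.1 hv
  rw [map_add, map_smul, map_smul, h1]
  exact mem_L.2 ⟨a, b, rfl⟩

/-- the orthogonal space is preserved -/
theorem map_perp {g : E (Q8 F)} (hg : g ∈ HH F) {v : V8 F} (h0 : v (.inr 0) = 0) (h1 : v (.inr 1) = 0) :
    (g : V8 F ≃ₗ[F] V8 F) v (.inr 0) = 0 ∧ (g : V8 F ≃ₗ[F] V8 F) v (.inr 1) = 0 := by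
  have hgi : g⁻¹ ∈ HH F := (HH F).inv_mem hg
  have key : ∀ l ∈ L F (x0 : V8 F) u0, polar (Q8 F) l ((g : V8 F ≃ₗ[F] V8 F) v) = 0 := by
    intro l hl
    have h2 := map_L hgi hl
    have h3 := polar_map (E_le_O g.2) (((g⁻¹ : E (Q8 F)) : V8 F ≃ₗ[F] V8 F) l) v
    have h4 : (g : V8 F ≃ₗ[F] V8 F) (((g⁻¹ : E (Q8 F)) : V8 F ≃ₗ[F] V8 F) l) = l :=
      LinearEquiv.apply_symm_apply (g : V8 F ≃ₗ[F] V8 F) l
    rw [h4] at h3
    rw [h3]
    obtain ⟨a, b, hab⟩ := mem_L.1 h2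
    rw [← hab, polar_add_left, polar_smul_left, polar_smul_left, polar_x0, polar_u0, h0, h1, smul_zero, smul_zero,
      add_zero]
  constructor
  · exact (polar_x0 _).symm.trans (key _ (left_mem_L _ _))
  · exact (polar_u0 _).symm.trans (key _ (right_mem_L _ _))

/-- the induced linear map -/
noncomputable def ind (g : V8 F ≃ₗ[F] V8 F) : (Fin 2 ⊕ Fin 2 → F) →ₗ[F] (Fin 2 ⊕ Fin 2 → F) :=
  prj ∘ₗ g.toLinearMap ∘ₗ inc

theorem ind_apply (g : V8 F ≃ₗ[F] V8 F) (w : Fin 2 ⊕ Fin 2 → F) : ind g w = prj (g (inc w)) := rfl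

theorem ind_mul {g h : E (Q8 F)} (hg : g ∈ HH F) (hh : h ∈ HH F) (w : Fin 2 ⊕ Fin 2 → F) :
    ind ((g * h : E (Q8 F)) : V8 F ≃ₗ[F] V8 F) w = ind (g : V8 F ≃ₗ[F] V8 F) (ind (h : V8 F ≃ₗ[F] V8 F) w) := by
  obtain ⟨h0, h1⟩ := map_perp hh (inc_zero w).1 (inc_zero w).2
  have h2 := map_L hg (sub_mem h0 h1)
  have h3 := prj_L h2
  rw [map_sub, map_sub, sub_eq_zero] at h3
  rw [ind_apply, ind_apply, ind_apply]
  exact h3

/-- the action on `L^⊥ / L` as matrices -/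
noncomputable def mhom (F : Type) [Field F] : HH F →* Matrix (Fin 2 ⊕ Fin 2) (Fin 2 ⊕ Fin 2) F where
  toFun g := LinearMap.toMatrix' (ind ((g : E (Q8 F)) : V8 F ≃ₗ[F] V8 F))
  map_one' := by
    have : ind (((1 : HH F) : E (Q8 F)) : V8 F ≃ₗ[F] V8 F) = LinearMap.id :=
      LinearMap.ext fun w => prj_inc w
    rw [this, LinearMap.toMatrix'_id]
  map_mul' g h := by
    rw [← LinearMap.toMatrix'_comp]
    congr 1
    exact LinearMap.ext fun w => ind_mul g.2 h.2 w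

theorem mhom_mulVec (g : HH F) (w : Fin 2 ⊕ Fin 2 → F) :
    mhom F g *ᵥ w = ind ((g : E (Q8 F)) : V8 F ≃ₗ[F] V8 F) w := LinearMap.toMatrix'_mulVec _ _

theorem quad_ind {g : E (Q8 F)} (hg : g ∈ HH F) (w : Fin 2 ⊕ Fin 2 → F) :
    quadFormPlus 2 F (ind (g : V8 F ≃ₗ[F] V8 F) w) = quadFormPlus 2 F w := by
  obtain ⟨h0, h1⟩ := map_perp hg (inc_zero w).1 (inc_zero w).2
  rw [ind_apply, Q_prj h0 h1]
  have h2 : Q8 F ((g : V8 F ≃ₗ[F] V8 F) (inc w)) = Q8 F (inc w) := E_le_O g.2 (inc w)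
  rw [coe_plusForm] at h2
  rw [h2, ← Q_prj (inc_zero w).1 (inc_zero w).2, prj_inc]

noncomputable def phi (F : Type) [Field F] : HH F →* isometryGroup F (quadFormPlus 2 F) :=
  (mhom F).toHomUnits.codRestrict _ fun g u v => by
    change quadFormPlus 2 F (mhom F g *ᵥ u) = quadFormPlus 2 F u
    rw [mhom_mulVec, quad_ind g.2]

theorem ind_of_phi {g : HH F} (h : phi F g = 1) (w : Fin 2 ⊕ Fin 2 → F) :
    ind ((g : E (Q8 F)) : V8 F ≃ₗ[F] V8 F) w = w := by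
  rw [← mhom_mulVec]
  have h1 : mhom F g = 1 := by
    have h2 := congrArg (fun x : isometryGroup F (quadFormPlus 2 F) => ((x : GL (Fin 2 ⊕ Fin 2) F) :
      Matrix (Fin 2 ⊕ Fin 2) (Fin 2 ⊕ Fin 2) F)) h
    exact h2
  rw [h1, Matrix.one_mulVec]

/-- the kernel of the action on `L` and `L^⊥ / L` -/
noncomputable def KK (F : Type) [Field F] : Subgroup (E (Q8 F)) where
  carrier := {g | (∀ l ∈ L F (x0 : V8 F) u0, (g : V8 F ≃ₗ[F] V8 F) l = l) ∧
    ∀ v : V8 F, v (.inr 0) = 0 → v (.inr 1) = 0 → (g : V8 F ≃ₗ[F] V8 F) v - v ∈ L F (x0 : V8 F) u0}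
  one_mem' := ⟨fun l _ => rfl, fun v _ _ => by
    change v - v ∈ _
    rw [sub_self]
    exact Submodule.zero_mem _⟩
  mul_mem' := by
    rintro g h ⟨hg1, hg2⟩ ⟨hh1, hh2⟩
    refine ⟨fun l hl => ?_, fun v h0 h1 => ?_⟩
    · change (g : V8 F ≃ₗ[F] V8 F) ((h : V8 F ≃ₗ[F] V8 F) l) = l
      rw [hh1 l hl, hg1 l hl]
    · change (g : V8 F ≃ₗ[F] V8 F) ((h : V8 F ≃ₗ[F] V8 F) v) - v ∈ _
      have h2 := hh2 v h0 h1
      have h3 := hg1 _ h2
      rw [map_sub, sub_eq_iff_eq_add] at h3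
      rw [h3, add_sub_assoc]
      exact Submodule.add_mem _ h2 (hg2 v h0 h1)
  inv_mem' := by
    rintro g ⟨hg1, hg2⟩
    have e1 : ∀ v, ((g⁻¹ : E (Q8 F)) : V8 F ≃ₗ[F] V8 F) ((g : V8 F ≃ₗ[F] V8 F) v) = v :=
      fun v => LinearEquiv.symm_apply_apply (g : V8 F ≃ₗ[F] V8 F) v
    have h3 : ∀ l ∈ L F (x0 : V8 F) u0, ((g⁻¹ : E (Q8 F)) : V8 F ≃ₗ[F] V8 F) l = l := by
      intro l hl
      nth_rw 1 [← hg1 l hl]
      exact e1 l
    refine ⟨h3, fun v h0 h1 => ?_⟩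
    have h2 := hg2 v h0 h1
    have h4 := h3 _ h2
    rw [map_sub, e1] at h4
    rw [← neg_sub, h4]
    exact Submodule.neg_mem _ h2

theorem mem_KK {g : E (Q8 F)} : g ∈ KK F ↔ (∀ l ∈ L F (x0 : V8 F) u0, (g : V8 F ≃ₗ[F] V8 F) l = l) ∧
    ∀ v : V8 F, v (.inr 0) = 0 → v (.inr 1) = 0 → (g : V8 F ≃ₗ[F] V8 F) v - v ∈ L F (x0 : V8 F) u0 := Iff.rfl

theorem KK_conj {h k : E (Q8 F)} (hh : h ∈ HH F) (hk : k ∈ KK F) : h * k * h⁻¹ ∈ KK F := by
  have hhi : h⁻¹ ∈ HH F := (HH F).inv_mem hh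
  have e1 : ∀ v, (h : V8 F ≃ₗ[F] V8 F) (((h⁻¹ : E (Q8 F)) : V8 F ≃ₗ[F] V8 F) v) = v :=
    fun v => LinearEquiv.apply_symm_apply (h : V8 F ≃ₗ[F] V8 F) v
  refine ⟨fun l hl => ?_, fun v h0 h1 => ?_⟩
  · change (h : V8 F ≃ₗ[F] V8 F) ((k : V8 F ≃ₗ[F] V8 F) (((h⁻¹ : E (Q8 F)) : V8 F ≃ₗ[F] V8 F) l)) = l
    rw [hk.1 _ (map_L hhi hl), e1]
  · change (h : V8 F ≃ₗ[F] V8 F) ((k : V8 F ≃ₗ[F] V8 F) (((h⁻¹ : E (Q8 F)) : V8 F ≃ₗ[F] V8 F) v)) - v ∈ _
    obtain ⟨h2, h3⟩ := map_perp hhi h0 h1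
    have h4 := map_L hh (hk.2 _ h2 h3)
    rwa [map_sub, e1] at h4

theorem KK_pow [CharP F 3] {g : E (Q8 F)} (hg : g ∈ KK F) : g ^ 3 = 1 := by
  obtain ⟨h1, h2⟩ := hg
  apply Subtype.ext
  ext1 v
  change (g : V8 F ≃ₗ[F] V8 F) ((g : V8 F ≃ₗ[F] V8 F) ((g : V8 F ≃ₗ[F] V8 F) v)) = v
  set a := (g : V8 F ≃ₗ[F] V8 F) v - v with ha
  have hpa : a (.inr 0) = 0 ∧ a (.inr 1) = 0 := by
    constructor
    · refine (polar_x0 _).symm.trans ?_
      rw [ha, polar_sub_right]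
      nth_rw 1 [← h1 x0 (left_mem_L _ _)]
      rw [polar_map (E_le_O g.2), sub_self]
    · refine (polar_u0 _).symm.trans ?_
      rw [ha, polar_sub_right]
      nth_rw 1 [← h1 u0 (right_mem_L _ _)]
      rw [polar_map (E_le_O g.2), sub_self]
  have hb := h2 a hpa.1 hpa.2
  set b := (g : V8 F ≃ₗ[F] V8 F) a - a with hbd
  have hgb := h1 b hb
  have ga : (g : V8 F ≃ₗ[F] V8 F) a = a + b := by rw [hbd]; abel
  have gv : (g : V8 F ≃ₗ[F] V8 F) v = v + a := by rw [ha]; abel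
  rw [gv, map_add, gv, ga, map_add, map_add, map_add, gv, ga, hgb]
  have h3 : ∀ w : V8 F, w + w + w = 0 := by
    intro w
    funext i
    have : (3 : F) = 0 := by exact_mod_cast CharP.cast_eq_zero F 3
    change w i + w i + w i = 0
    linear_combination w i * this
  have h4 : v + a + (a + b) + (a + b + b) = v + (a + a + a) + (b + b + b) := by abel
  rw [h4, h3 a, h3 b, add_zero, add_zero]

theorem KK_pGroup [CharP F 3] : IsPGroup 3 (KK F) := by
  intro g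
  refine ⟨1, Subtype.ext ?_⟩
  rw [Subgroup.coe_pow, pow_one, Subgroup.coe_one]
  exact KK_pow g.2

end Cent

/-! ### the theorem -/

theorem exists_good [Fintype F] (hF : Fintype.card F = 3) : ∃ P : Sylow 3 (PE (Q8 F)), GoodP (P : Subgroup (PE (Q8 F))) := by
  have : Fact (Nat.Prime 3) := ⟨Nat.prime_three⟩
  have hchar : CharP F 3 := by
    obtain ⟨p, hp⟩ := CharP.exists F
    obtain ⟨n, hpp, hn⟩ := FiniteField.card F p
    have h1 : 3 = p := (Nat.prime_dvd_prime_iff_eq Nat.prime_three hpp).1 (by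
      have : 3 ∣ p ^ (n : ℕ) := by rw [← hn, hF]
      exact Nat.prime_three.dvd_of_dvd_pow this)
    rw [h1]
    exact hp
  have hfinE : Finite (V8 F ≃ₗ[F] V8 F) := Finite.of_injective (fun g => (g : V8 F → V8 F)) DFunLike.coe_injective
  obtain ⟨P, hPx, hPu, -, -⟩ := exists_sylow (big (F := F)) ln 3
  have hPH : (P : Subgroup (E (Q8 F))) ≤ HH F := by
    intro g hg
    rw [mem_HH, hPx g hg]
    obtain ⟨c, hc⟩ := hPu g hg
    rw [hc]
    exact T_add_smul Q_x0 ln.perp c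
  -- `K ≤ P`
  have hKP : KK F ≤ (P : Subgroup (E (Q8 F))) := by
    have hnorm : (P : Subgroup (E (Q8 F))) ≤ Subgroup.normalizer (KK F : Set (E (Q8 F))) := by
      intro g hg
      rw [Subgroup.mem_normalizer_iff]
      intro k
      constructor
      · intro hk
        exact KK_conj (hPH hg) hk
      · intro hk
        have := KK_conj ((HH F).inv_mem (hPH hg)) hk
        have e : g⁻¹ * (g * k * g⁻¹) * g⁻¹⁻¹ = k := by group
        rwa [e] at this
    have hp : IsPGroup 3 ((P : Subgroup (E (Q8 F))) ⊔ KK F : Subgroup (E (Q8 F))) :=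
      IsPGroup.to_sup_of_normal_right' P.isPGroup' KK_pGroup hnorm
    have h1 := P.is_maximal' hp le_sup_left
    exact le_sup_right.trans h1.le
  -- commutators
  have hcomm : ∀ a ∈ P, ∀ b ∈ P, a * b * a⁻¹ * b⁻¹ ∈ KK F := by
    intro a ha b hb
    have haH := hPH ha
    have hbH := hPH hb
    have hphi : phi F ⟨a, haH⟩ * phi F ⟨b, hbH⟩ = phi F ⟨b, hbH⟩ * phi F ⟨a, haH⟩ := by
      let S : Subgroup (isometryGroup F (quadFormPlus 2 F)) := ((P : Subgroup (E (Q8 F))).subgroupOf (HH F)).map (phi F)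
      have hS : IsPGroup 3 S := by
        apply IsPGroup.map
        exact P.isPGroup'.comap_of_injective _ Subtype.val_injective
      have hcard : ¬ 3 ^ 3 ∣ Nat.card S := by
        intro h
        have h2 := h.trans (Subgroup.card_subgroup_dvd_card S)
        rw [S0287.result hF 2 (by norm_num)] at h2
        revert h2
        decide
      have hfin : Finite (Matrix.GeneralLinearGroup (Fin 2 ⊕ Fin 2) F) := inferInstance
      have h1 := comm_of_card hS hcard ⟨_, ⟨⟨a, haH⟩, ha, rfl⟩⟩ ⟨_, ⟨⟨b, hbH⟩, hb, rfl⟩⟩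
      exact congrArg Subtype.val h1
    have hc : a * b * a⁻¹ * b⁻¹ ∈ HH F :=
      (HH F).mul_mem ((HH F).mul_mem ((HH F).mul_mem haH hbH) ((HH F).inv_mem haH)) ((HH F).inv_mem hbH)
    have hphi1 : phi F ⟨a * b * a⁻¹ * b⁻¹, hc⟩ = 1 := by
      have e : (⟨a * b * a⁻¹ * b⁻¹, hc⟩ : HH F) = ⟨a, haH⟩ * ⟨b, hbH⟩ * ⟨a, haH⟩⁻¹ * ⟨b, hbH⟩⁻¹ := rfl
      rw [e, map_mul, map_mul, map_mul, map_inv, map_inv, hphi]
      group
    have hind := ind_of_phi hphi1
    have hPL : ∀ g ∈ P, ∃ c : F, ∀ r s : F, (g : V8 F ≃ₗ[F] V8 F) (r • x0 + s • u0) = r • x0 + s • u0 + (s * c) • x0 := by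
      intro g hg
      obtain ⟨c, hc⟩ := hPu g hg
      refine ⟨c, fun r s => ?_⟩
      rw [map_add, map_smul, map_smul, hPx g hg, hc]
      module
    have hfixL : ∀ l ∈ L F (x0 : V8 F) u0, ((a * b * a⁻¹ * b⁻¹ : E (Q8 F)) : V8 F ≃ₗ[F] V8 F) l = l := by
      intro l hl
      obtain ⟨r, s, rfl⟩ := mem_L.1 hl
      obtain ⟨c1, h1⟩ := hPL a ha
      obtain ⟨c2, h2⟩ := hPL b hb
      obtain ⟨c3, h3⟩ := hPL a⁻¹ (P.inv_mem ha)
      obtain ⟨c4, h4⟩ := hPL b⁻¹ (P.inv_mem hb)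
      have hmod : ∀ (r s c : F), r • (x0 : V8 F) + s • u0 + (s * c) • x0 = (r + s * c) • x0 + s • u0 := by
        intros
        module
      have e1 : ((a * a⁻¹ : E (Q8 F)) : V8 F ≃ₗ[F] V8 F) (r • x0 + s • u0) = r • x0 + s • u0 := by
        rw [mul_inv_cancel]
        rfl
      have e2 : ((b * b⁻¹ : E (Q8 F)) : V8 F ≃ₗ[F] V8 F) (r • x0 + s • u0) = r • x0 + s • u0 := by
        rw [mul_inv_cancel]
        rfl
      change (a : V8 F ≃ₗ[F] V8 F) ((((a⁻¹ : E (Q8 F)) : V8 F ≃ₗ[F] V8 F)) (r • x0 + s • u0)) = _ at e1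
      change (b : V8 F ≃ₗ[F] V8 F) ((((b⁻¹ : E (Q8 F)) : V8 F ≃ₗ[F] V8 F)) (r • x0 + s • u0)) = _ at e2
      rw [h3, hmod, h1] at e1
      rw [h4, hmod, h2] at e2
      change (a : V8 F ≃ₗ[F] V8 F) ((b : V8 F ≃ₗ[F] V8 F) ((((a⁻¹ : E (Q8 F)) : V8 F ≃ₗ[F] V8 F))
        ((((b⁻¹ : E (Q8 F)) : V8 F ≃ₗ[F] V8 F)) (r • x0 + s • u0)))) = _
      rw [h4, hmod, h3, hmod, h2, hmod, h1]
      have f1 : (s * c3) • (x0 : V8 F) + (s * c1) • x0 = 0 := by
        have := e1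
        rw [← sub_eq_zero] at this
        rw [← this]
        module
      have f2 : (s * c4) • (x0 : V8 F) + (s * c2) • x0 = 0 := by
        have := e2
        rw [← sub_eq_zero] at this
        rw [← this]
        module
      calc (r + s * c4 + s * c3 + s * c2) • (x0 : V8 F) + s • u0 + (s * c1) • x0 =
          (r • x0 + s • u0) + ((s * c3) • x0 + (s * c1) • x0) + ((s * c4) • x0 + (s * c2) • x0) := by module
        _ = _ := by rw [f1, f2, add_zero, add_zero]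
    refine ⟨hfixL, fun v h0 h1 => ?_⟩
    set g := a * b * a⁻¹ * b⁻¹ with hg
    have h2 := sub_mem h0 h1
    have h3 := hfixL _ h2
    rw [map_sub, sub_eq_iff_eq_add] at h3
    have h4 := inc_zero (prj v)
    have h5 := map_perp hc h4.1 h4.2
    have h6 := sub_mem h5.1 h5.2
    have h7 : prj ((g : V8 F ≃ₗ[F] V8 F) (inc (prj v))) = prj v := hind (prj v)
    rw [h7] at h6
    rw [h3]
    have e : v - inc (prj v) + (g : V8 F ≃ₗ[F] V8 F) (inc (prj v)) - v =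
        (g : V8 F ≃ₗ[F] V8 F) (inc (prj v)) - inc (prj v) := by abel
    rw [e]
    exact h6
  -- pass to the quotient
  let f : E (Q8 F) →* PE (Q8 F) := QuotientGroup.mk' _
  have hf : Function.Surjective f := QuotientGroup.mk'_surjective _
  refine ⟨P.mapSurjective hf, (KK F).map f, ?_, ?_, ?_⟩
  · rw [Sylow.coe_mapSurjective]
    exact Subgroup.map_mono hKP
  · rw [Sylow.coe_mapSurjective]
    rintro _ ⟨a, ha, rfl⟩ _ ⟨b, hb, rfl⟩
    exact ⟨a * b * a⁻¹ * b⁻¹, hcomm a ha b hb, by simp⟩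
  · rintro c hcz _ ⟨k, hk, rfl⟩
    obtain ⟨c, rfl⟩ := hf c
    have ht0 : (t0 : E (Q8 F)) ∈ P := hKP (by
      refine ⟨fun l hl => ?_, fun v h0 h1 => ?_⟩
      · change T (Q8 F) x0 u0 l = l
        obtain ⟨r, s, rfl⟩ := mem_L.1 hl
        rw [map_add, map_smul, map_smul, T_apply_self Q_x0 ln.perp, T_fix ln.perp (polar_self_of_sing Q_u0)]
      · change T (Q8 F) x0 u0 v - v ∈ _
        rw [T_fix (by rw [polar_x0, h0]) (by rw [polar_u0, h1]), sub_self]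
        exact Submodule.zero_mem _)
    have h1 := hcz (f t0) (by rw [Sylow.coe_mapSurjective]; exact ⟨t0, ht0, rfl⟩) (by
      rw [Sylow.coe_mapSurjective]
      rintro _ ⟨g, hg, rfl⟩
      rw [← map_mul, ← map_mul]
      congr 1
      have h2 : g ∈ HH F := hPH hg
      exact Subgroup.mem_centralizer_singleton_iff.1 h2)
    have h2 : T (Q8 F) ((c : V8 F ≃ₗ[F] V8 F) x0) ((c : V8 F ≃ₗ[F] V8 F) u0) = T (Q8 F) x0 u0 :=
      T_eq_of_comm big c.2 h1
    exact ⟨c * k * c⁻¹, KK_conj (mem_HH.2 h2) hk, by simp⟩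

/-- **The theorem.** -/
theorem result [Fintype F] (hF : Fintype.card F = 3) {M : Type*} [Group M] (e : M ≃* POmega F (quadFormPlus 4 F))
    (P : Sylow 3 M) : ∃ K : Subgroup M, K ≤ P ∧ (∀ a ∈ P, ∀ b ∈ P, a * b * a⁻¹ * b⁻¹ ∈ K) ∧
      ∀ c : M, (∀ z ∈ P, (∀ g ∈ P, g * z = z * g) → c * z = z * c) → ∀ k ∈ K, c * k * c⁻¹ ∈ K := by
  have : Fact (Nat.Prime 3) := ⟨Nat.prime_three⟩
  have hfinE : Finite (V8 F ≃ₗ[F] V8 F) := Finite.of_injective (fun g => (g : V8 F → V8 F)) DFunLike.coe_injective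
  have hfin : Finite (PE (Q8 F)) := inferInstance
  have e' : M ≃* PE (Q8 F) := by
    rw [← coe_plusForm] at e
    exact e.trans (pomegaEquiv (good_plus (by norm_num)))
  have hM : Finite M := Finite.of_equiv _ e'.symm.toEquiv
  obtain ⟨S, hS⟩ := exists_good hF
  -- the image of `S` in `M`
  have h1 := hS.map e'.symm
  have h2 : ∃ S' : Sylow 3 M, (S' : Subgroup M) = (S : Subgroup (PE (Q8 F))).map e'.symm.toMonoidHom :=
    ⟨S.mapSurjective (f := e'.symm.toMonoidHom) e'.symm.surjective, rfl⟩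
  obtain ⟨S', hS'⟩ := h2
  rw [← hS'] at h1
  exact h1.sylow P

end Cfsg.Agent.H128.OPlus8
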