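import Mathlib
import Cfsg.Agent.H526.ObComp
import Cfsg.Agent.H424.SimpleFacts
import Cfsg.Agent.LieClassical.FieldTransfer
import Cfsg.Agent.H26.SolvPPrime
import Cfsg.Agent.S0249

/-!
# `PSL_n(q)`, `q` odd, `n ≥ 3`, has more than one 2-block (row of S5004, S5007)

* `nb_of_map`, `nb_of_quot` : general rules;
* `nb_block` : `T = diag(ε, -ε)`; `nb_block'` : `T = diag(1, D)`, `D² = -1`;
* `nb_four_three` : `SL₂(9)` in `SL₄(3)`; `nb_5616` : the simple groups of order 5616;
* `nb_psl`.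
-/

set_option autoImplicit false

namespace Cfsg.Agent.H128.ObPsl

open Cfsg Matrix Cfsg.Agent.H526.OB

/-! ### General groups -/

/-- `φ : L → H` with central kernel, commuting with the 2-group `Q`, image normalized by `C_H(Q)` -/
theorem nb_of_map {L H : Type*} [Group L] [Group H] [Finite L] [Finite H] (Q : Subgroup H)
    (hQ : IsPGroup 2 Q) (φ : L →* H) (hker : φ.ker ≤ Subgroup.center L)
    (hc : ∀ q ∈ Q, ∀ l, q * φ l = φ l * q)
    (hn : ∀ c ∈ Subgroup.centralizer (Q : Set H), ∀ l, c * φ l * c⁻¹ ∈ φ.range)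
    (h : NB (L ⧸ Subgroup.center L)) : NB H := by
  have hL : NB L := NB.of_surjective (QuotientGroup.mk' (Subgroup.center L))
    (QuotientGroup.mk'_surjective _) (by rw [QuotientGroup.ker_mk']) h
  -- the surjection from the range
  let e := QuotientGroup.quotientKerEquivRange φ
  let f0 : L ⧸ φ.ker →* L ⧸ Subgroup.center L := QuotientGroup.map φ.ker (Subgroup.center L)
    (MonoidHom.id L) (by rw [Subgroup.comap_id]; exact hker)
  let f : φ.range →* L ⧸ Subgroup.center L := f0.comp e.symm.toMonoidHom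
  have he : ∀ l : L, e.symm ⟨φ l, l, rfl⟩ = (QuotientGroup.mk l : L ⧸ φ.ker) := by
    intro l
    rw [MulEquiv.symm_apply_eq]
    rfl
  have hfl : ∀ l : L, f ⟨φ l, l, rfl⟩ = (QuotientGroup.mk l : L ⧸ Subgroup.center L) := by
    intro l
    show f0 (e.symm ⟨φ l, l, rfl⟩) = _
    rw [he]
    rfl
  refine NB.of_cover Q hQ φ.range ?_ ?_ f ?_ ?_ h
  · rintro _ ⟨l, rfl⟩
    rw [Subgroup.mem_centralizer_iff]
    intro q hq
    exact hc q hq l
  · rintro c hc' _ ⟨l, rfl⟩
    exact hn c hc' l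
  · intro x
    obtain ⟨l, rfl⟩ := QuotientGroup.mk_surjective x
    exact ⟨⟨φ l, l, rfl⟩, hfl l⟩
  · rintro ⟨_, l, rfl⟩ hx
    rw [MonoidHom.mem_ker, hfl, QuotientGroup.eq_one_iff] at hx
    rw [Subgroup.mem_center_iff]
    rintro ⟨_, m, rfl⟩
    apply Subtype.ext
    show φ m * φ l = φ l * φ m
    rw [← map_mul, ← map_mul, (Subgroup.mem_center_iff.1 hx) m]

/-- the same for a quotient by the center -/
theorem nb_of_quot {L G : Type*} [Group L] [Group G] [Finite L] [Finite G] (t : G)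
    (ht : ∃ k : ℕ, t ^ 2 ^ k ∈ Subgroup.center G) (φ : L →* G)
    (hker : ∀ l, φ l ∈ Subgroup.center G → l ∈ Subgroup.center L)
    (hc : ∀ l, t * φ l = φ l * t)
    (hn : ∀ g z : G, z ∈ Subgroup.center G → g * t = z * (t * g) → ∀ l, ∃ l', g * φ l * g⁻¹ = φ l')
    (h : NB (L ⧸ Subgroup.center L)) : NB (G ⧸ Subgroup.center G) := by
  let π : G →* G ⧸ Subgroup.center G := QuotientGroup.mk' _
  have hπ : ∀ g, π g = (QuotientGroup.mk g : G ⧸ Subgroup.center G) := fun g => rfl
  have hQ : IsPGroup 2 (Subgroup.zpowers (π t)) := by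
    obtain ⟨k, hk⟩ := ht
    rintro ⟨x, hx⟩
    obtain ⟨i, rfl⟩ := Subgroup.mem_zpowers_iff.1 hx
    refine ⟨k, Subtype.ext ?_⟩
    show (π t ^ i) ^ 2 ^ k = 1
    rw [← zpow_natCast, ← _root_.zpow_mul, mul_comm, _root_.zpow_mul, zpow_natCast, ← map_pow]
    have : π (t ^ 2 ^ k) = 1 := (QuotientGroup.eq_one_iff _).2 hk
    rw [this, _root_.one_zpow]
  refine nb_of_map (Subgroup.zpowers (π t)) hQ (π.comp φ) ?_ ?_ ?_ h
  · intro l hl
    rw [MonoidHom.mem_ker] at hl
    exact hker l ((QuotientGroup.eq_one_iff _).1 hl)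
  · intro q hq l
    obtain ⟨i, rfl⟩ := Subgroup.mem_zpowers_iff.1 hq
    have h1 : Commute (π t) (π (φ l)) := by
      show π t * π (φ l) = π (φ l) * π t
      rw [← map_mul, ← map_mul, hc]
    exact h1.zpow_left i
  · intro c hc' l
    obtain ⟨g, rfl⟩ := QuotientGroup.mk_surjective c
    have h1 : π t * π g = π g * π t :=
      (Subgroup.mem_centralizer_iff.1 hc') _ (Subgroup.mem_zpowers _)
    rw [← map_mul, ← map_mul] at h1
    have h2 : (t * g)⁻¹ * (g * t) ∈ Subgroup.center G := QuotientGroup.eq.1 h1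
    obtain ⟨l', hl'⟩ := hn g _ h2 (by
      rw [(Subgroup.mem_center_iff.1 h2 (t * g)).symm]
      group) l
    refine ⟨l', ?_⟩
    show π (φ l') = π g * π (φ l) * (π g)⁻¹
    rw [← hl', map_mul, map_mul, map_inv]


/-! ### Block matrices -/

section blocks

variable {F : Type*} [Field F] {ι κ : Type*} [Fintype ι] [DecidableEq ι] [Fintype κ] [DecidableEq κ]

/-- The left block. -/
def left (ι κ : Type*) [Fintype ι] [DecidableEq ι] [Fintype κ] [DecidableEq κ] (F : Type*) [Field F] :
    SpecialLinearGroup ι F →* SpecialLinearGroup (ι ⊕ κ) F where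
  toFun A := ⟨fromBlocks A.1 0 0 1, by rw [det_fromBlocks_zero₂₁, A.2, det_one, mul_one]⟩
  map_one' := Subtype.ext (by change fromBlocks (1 : Matrix ι ι F) 0 0 1 = 1; exact fromBlocks_one)
  map_mul' A B := Subtype.ext (by
    change fromBlocks (A.1 * B.1) 0 0 1 = fromBlocks A.1 0 0 1 * fromBlocks B.1 0 0 1
    rw [fromBlocks_multiply]
    simp)

theorem left_coe (A : SpecialLinearGroup ι F) : (left ι κ F A).1 = fromBlocks A.1 0 0 1 := rfl

theorem left_center [Nonempty κ] (l : SpecialLinearGroup ι F)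
    (h : left ι κ F l ∈ Subgroup.center (SpecialLinearGroup (ι ⊕ κ) F)) :
    l ∈ Subgroup.center (SpecialLinearGroup ι F) := by
  obtain ⟨r, -, hr⟩ := Matrix.SpecialLinearGroup.mem_center_iff.1 h
  have h1 : scalar (ι ⊕ κ) r = fromBlocks l.1 0 0 1 := hr
  obtain ⟨k⟩ := ‹Nonempty κ›
  have h2 : r = 1 := by
    have := congrFun (congrFun h1 (Sum.inr k)) (Sum.inr k)
    simpa using this
  have h3 : l = 1 := by
    apply Subtype.ext
    ext i j
    have := congrFun (congrFun h1 (Sum.inl i)) (Sum.inl j)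
    rw [h2] at this
    simpa [Matrix.one_apply] using this.symm
  rw [h3]
  exact Subgroup.one_mem _

/-- conjugation by a block diagonal matrix -/
theorem left_conj {g : SpecialLinearGroup (ι ⊕ κ) F} {a a' : Matrix ι ι F} {d d' : Matrix κ κ F}
    (hg : g.1 = fromBlocks a 0 0 d) (hg' : (g⁻¹).1 = fromBlocks a' 0 0 d') (l : SpecialLinearGroup ι F) :
    ∃ l', g * left ι κ F l * g⁻¹ = left ι κ F l' := by
  have e3 : g.1 * (g⁻¹).1 = 1 := congrArg Subtype.val (mul_inv_cancel g)
  rw [hg, hg', fromBlocks_multiply, ← fromBlocks_one, fromBlocks_inj] at e3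
  obtain ⟨f1, -, -, f2⟩ := e3
  simp only [Matrix.mul_zero, add_zero, zero_add] at f1 f2
  have e4 : (a * l.1 * a').det = 1 := by
    rw [det_mul, det_mul, l.2, mul_one, ← det_mul, f1, det_one]
  refine ⟨⟨_, e4⟩, Subtype.ext ?_⟩
  change g.1 * fromBlocks l.1 0 0 1 * (g⁻¹).1 = fromBlocks (a * l.1 * a') 0 0 1
  rw [hg, hg', fromBlocks_multiply, fromBlocks_multiply]
  simp only [Matrix.mul_zero, Matrix.zero_mul, add_zero, zero_add, Matrix.mul_one, f2]

/-- the relation for the inverse -/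
theorem inv_rel {G : Type*} [Group G] {g t z : G} (hz : z ∈ Subgroup.center G) (h : g * t = z * (t * g)) :
    g⁻¹ * t = z⁻¹ * (t * g⁻¹) := by
  have hz' := (Subgroup.mem_center_iff.1 hz)
  have hzi := (Subgroup.mem_center_iff.1 (Subgroup.inv_mem _ hz))
  have h1 : t * g = z⁻¹ * (g * t) := by rw [h]; group
  calc g⁻¹ * t = g⁻¹ * (t * g) * g⁻¹ := by group
    _ = g⁻¹ * (z⁻¹ * (g * t)) * g⁻¹ := by rw [h1]
    _ = (g⁻¹ * z⁻¹) * (g * t) * g⁻¹ := by group
    _ = (z⁻¹ * g⁻¹) * (g * t) * g⁻¹ := by rw [hzi]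
    _ = z⁻¹ * (t * g⁻¹) := by group

theorem rel_mat {n : Type*} [Fintype n] [DecidableEq n] {g t z : SpecialLinearGroup n F}
    (hz : z ∈ Subgroup.center (SpecialLinearGroup n F)) (h : g * t = z * (t * g)) :
    ∃ r : F, z.1 = scalar n r ∧ r ^ Fintype.card n = 1 ∧ g.1 * t.1 = r • (t.1 * g.1) := by
  obtain ⟨r, hr1, hr⟩ := Matrix.SpecialLinearGroup.mem_center_iff.1 hz
  refine ⟨r, hr.symm, hr1, ?_⟩
  have h1 : g.1 * t.1 = z.1 * (t.1 * g.1) := congrArg Subtype.val h
  rw [h1, show z.1 = scalar n r from hr.symm]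
  ext i j
  rw [Matrix.scalar_apply, Matrix.diagonal_mul, Matrix.smul_apply, smul_eq_mul]

/-- `T = diag(ε, -ε)`, `|ι| ≠ |κ|` -/
theorem nb_block [Finite F] [Nonempty κ] (h2 : (2 : F) ≠ 0) {ε : F} (hε : ε * ε = 1)
    (hcard : Fintype.card ι ≠ Fintype.card κ) {T : SpecialLinearGroup (ι ⊕ κ) F}
    (hT : T.1 = fromBlocks (ε • (1 : Matrix ι ι F)) 0 0 (-ε • (1 : Matrix κ κ F)))
    (h : NB (SpecialLinearGroup ι F ⧸ Subgroup.center (SpecialLinearGroup ι F))) :
    NB (SpecialLinearGroup (ι ⊕ κ) F ⧸ Subgroup.center (SpecialLinearGroup (ι ⊕ κ) F)) := by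
  have hε0 : ε ≠ 0 := by
    rintro rfl
    rw [zero_mul] at hε
    exact zero_ne_one hε
  -- the blocks of an element commuting up to a scalar
  have key : ∀ (g : Matrix (ι ⊕ κ) (ι ⊕ κ) F) (r : F), g * T.1 = r • (T.1 * g) →
      (r ≠ 1 → g.toBlocks₁₁ = 0 ∧ g.toBlocks₂₂ = 0) ∧ (r = 1 → g.toBlocks₁₂ = 0 ∧ g.toBlocks₂₁ = 0) := by
    intro g r hg
    have h1 := fromBlocks_toBlocks g
    rw [hT, ← h1, fromBlocks_multiply, fromBlocks_multiply, fromBlocks_smul, fromBlocks_inj] at hg
    obtain ⟨h11, h12, h21, h22⟩ := hg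
    simp only [Matrix.mul_zero, Matrix.zero_mul, add_zero, zero_add, Matrix.smul_mul, Matrix.mul_smul,
      Matrix.mul_one, Matrix.one_mul, smul_smul] at h11 h12 h21 h22
    constructor
    · intro hr
      constructor
      · ext i j
        have := congrFun (congrFun h11 i) j
        simp only [Matrix.smul_apply, smul_eq_mul] at this
        have h3 : (1 - r) * (ε * g.toBlocks₁₁ i j) = 0 := by linear_combination this
        rcases mul_eq_zero.1 h3 with h | h
        · exact (hr (sub_eq_zero.1 h).symm).elim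
        · rcases mul_eq_zero.1 h with h | h
          · exact (hε0 h).elim
          · exact h
      · ext i j
        have := congrFun (congrFun h22 i) j
        simp only [Matrix.smul_apply, smul_eq_mul] at this
        have h3 : (1 - r) * (ε * g.toBlocks₂₂ i j) = 0 := by linear_combination -this
        rcases mul_eq_zero.1 h3 with h | h
        · exact (hr (sub_eq_zero.1 h).symm).elim
        · rcases mul_eq_zero.1 h with h | h
          · exact (hε0 h).elim
          · exact h
    · rintro rfl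
      constructor
      · ext i j
        have := congrFun (congrFun h12 i) j
        simp only [Matrix.smul_apply, smul_eq_mul] at this
        have h3 : (2 : F) * (ε * g.toBlocks₁₂ i j) = 0 := by linear_combination -this
        rcases mul_eq_zero.1 h3 with h | h
        · exact (h2 h).elim
        · rcases mul_eq_zero.1 h with h | h
          · exact (hε0 h).elim
          · exact h
      · ext i j
        have := congrFun (congrFun h21 i) j
        simp only [Matrix.smul_apply, smul_eq_mul] at this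
        have h3 : (2 : F) * (ε * g.toBlocks₂₁ i j) = 0 := by linear_combination this
        rcases mul_eq_zero.1 h3 with h | h
        · exact (h2 h).elim
        · rcases mul_eq_zero.1 h with h | h
          · exact (hε0 h).elim
          · exact h
  refine nb_of_quot T ⟨1, ?_⟩ (left ι κ F) left_center ?_ ?_ h
  · have h1 : T ^ 2 ^ 1 = 1 := by
      apply Subtype.ext
      rw [pow_one, pow_two]
      change T.1 * T.1 = 1
      rw [hT, fromBlocks_multiply]
      simp only [Matrix.mul_zero, add_zero, zero_add, Matrix.mul_smul,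
        Matrix.mul_one, smul_smul, neg_mul_neg, hε, one_smul, smul_zero, fromBlocks_one]
    rw [h1]
    exact Subgroup.one_mem _
  · intro l
    apply Subtype.ext
    change T.1 * fromBlocks l.1 0 0 1 = fromBlocks l.1 0 0 1 * T.1
    rw [hT, fromBlocks_multiply, fromBlocks_multiply]
    simp
  · intro g z hz hg l
    obtain ⟨r, hzr, -, h3⟩ := rel_mat hz hg
    obtain ⟨r', hzr', -, h4⟩ := rel_mat (Subgroup.inv_mem _ hz) (inv_rel hz hg)
    have hnon : Nonempty (ι ⊕ κ) := ⟨Sum.inr (Classical.arbitrary κ)⟩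
    have hrr : r' * r = 1 := by
      have h5 : (z⁻¹).1 * z.1 = 1 := congrArg Subtype.val (inv_mul_cancel z)
      rw [hzr, hzr', ← map_mul] at h5
      obtain ⟨i⟩ := hnon
      have := congrFun (congrFun h5 i) i
      simpa using this
    have k1 := key g.1 r h3
    have k2 := key (g⁻¹).1 r' h4
    by_cases hr : r = 1
    · have hr' : r' = 1 := by rw [hr, mul_one] at hrr; exact hrr
      obtain ⟨a1, a2⟩ := k1.2 hr
      obtain ⟨b1, b2⟩ := k2.2 hr'
      refine left_conj (a := g.1.toBlocks₁₁) (d := g.1.toBlocks₂₂) (a' := (g⁻¹).1.toBlocks₁₁)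
        (d' := (g⁻¹).1.toBlocks₂₂) ?_ ?_ l
      · conv_lhs => rw [← fromBlocks_toBlocks g.1, a1, a2]
      · conv_lhs => rw [← fromBlocks_toBlocks (g⁻¹).1, b1, b2]
    · exfalso
      have hr' : r' ≠ 1 := by
        rintro rfl
        rw [one_mul] at hrr
        exact hr hrr
      obtain ⟨a1, a2⟩ := k1.1 hr
      obtain ⟨b1, b2⟩ := k2.1 hr'
      have e1 : g.1 * (g⁻¹).1 = 1 := congrArg Subtype.val (mul_inv_cancel g)
      have e2 : (g⁻¹).1 * g.1 = 1 := congrArg Subtype.val (inv_mul_cancel g)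
      rw [← fromBlocks_toBlocks g.1, ← fromBlocks_toBlocks (g⁻¹).1, a1, a2, b1, b2, fromBlocks_multiply,
        ← fromBlocks_one, fromBlocks_inj] at e1 e2
      obtain ⟨c1, -, -, c2⟩ := e1
      obtain ⟨d1, -, -, d2⟩ := e2
      simp only [Matrix.mul_zero, add_zero, zero_add] at c1 c2 d1 d2
      exact hcard (Matrix.square_of_invertible _ _ c1 d2)

/-- `T = diag(1, D)`, `D² = -1` -/
theorem nb_block' [Finite F] [Nonempty ι] (h2 : (2 : F) ≠ 0) {D : Matrix ι ι F} (hD : D * D = -1)
    (hns : ∀ r : F, D ≠ r • 1) {T : SpecialLinearGroup (ι ⊕ ι) F} (hT : T.1 = fromBlocks 1 0 0 D)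
    (h : NB (SpecialLinearGroup ι F ⧸ Subgroup.center (SpecialLinearGroup ι F))) :
    NB (SpecialLinearGroup (ι ⊕ ι) F ⧸ Subgroup.center (SpecialLinearGroup (ι ⊕ ι) F)) := by
  have key : ∀ (g : Matrix (ι ⊕ ι) (ι ⊕ ι) F) (r : F), g * T.1 = r • (T.1 * g) →
      (g.toBlocks₁₂ * D = r • g.toBlocks₁₂) ∧
      (r ≠ 1 → g.toBlocks₁₁ = 0) ∧ (r = 1 → g.toBlocks₁₂ = 0 ∧ g.toBlocks₂₁ = 0) := by
    intro g r hg
    have h1 := fromBlocks_toBlocks g
    rw [hT, ← h1, fromBlocks_multiply, fromBlocks_multiply, fromBlocks_smul, fromBlocks_inj] at hg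
    obtain ⟨h11, h12, h21, h22⟩ := hg
    simp only [Matrix.mul_zero, Matrix.zero_mul, add_zero, zero_add, Matrix.mul_one, Matrix.one_mul]
      at h11 h12 h21 h22
    refine ⟨h12, ?_, ?_⟩
    · intro hr
      ext i j
      have := congrFun (congrFun h11 i) j
      simp only [Matrix.smul_apply, smul_eq_mul] at this
      have h3 : (1 - r) * (g.toBlocks₁₁ i j) = 0 := by linear_combination this
      rcases mul_eq_zero.1 h3 with h | h
      · exact (hr (sub_eq_zero.1 h).symm).elim
      · exact h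
    · rintro rfl
      rw [one_smul] at h12 h21
      constructor
      · have h3 : g.toBlocks₁₂ = -g.toBlocks₁₂ := by
          calc g.toBlocks₁₂ = g.toBlocks₁₂ * D * D := by rw [h12, h12]
            _ = -g.toBlocks₁₂ := by rw [Matrix.mul_assoc, hD, Matrix.mul_neg, Matrix.mul_one]
        ext i j
        have := congrFun (congrFun h3 i) j
        rw [Matrix.neg_apply] at this
        have h4 : (2 : F) * g.toBlocks₁₂ i j = 0 := by linear_combination this
        exact (mul_eq_zero.1 h4).resolve_left h2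
      · have h3 : g.toBlocks₂₁ = -g.toBlocks₂₁ := by
          calc g.toBlocks₂₁ = D * (D * g.toBlocks₂₁) := by rw [← h21, ← h21]
            _ = -g.toBlocks₂₁ := by rw [← Matrix.mul_assoc, hD, Matrix.neg_mul, Matrix.one_mul]
        ext i j
        have := congrFun (congrFun h3 i) j
        rw [Matrix.neg_apply] at this
        have h4 : (2 : F) * g.toBlocks₂₁ i j = 0 := by linear_combination this
        exact (mul_eq_zero.1 h4).resolve_left h2
  refine nb_of_quot T ⟨2, ?_⟩ (left ι ι F) left_center ?_ ?_ h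
  · have h1 : T ^ 2 ^ 2 = 1 := by
      apply Subtype.ext
      have e : T ^ 2 ^ 2 = T * T * (T * T) := by
        rw [show (2 : ℕ) ^ 2 = 2 + 2 from rfl, pow_add, pow_two]
      rw [e]
      change T.1 * T.1 * (T.1 * T.1) = 1
      rw [hT, fromBlocks_multiply]
      simp only [Matrix.mul_zero, Matrix.zero_mul, add_zero, zero_add, Matrix.mul_one, hD]
      rw [fromBlocks_multiply]
      simp
    rw [h1]
    exact Subgroup.one_mem _
  · intro l
    apply Subtype.ext
    change T.1 * fromBlocks l.1 0 0 1 = fromBlocks l.1 0 0 1 * T.1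
    rw [hT, fromBlocks_multiply, fromBlocks_multiply]
    simp
  · intro g z hz hg l
    obtain ⟨r, hzr, -, h3⟩ := rel_mat hz hg
    obtain ⟨r', hzr', -, h4⟩ := rel_mat (Subgroup.inv_mem _ hz) (inv_rel hz hg)
    have hnon : Nonempty (ι ⊕ ι) := ⟨Sum.inr (Classical.arbitrary ι)⟩
    have hrr : r' * r = 1 := by
      have h5 : (z⁻¹).1 * z.1 = 1 := congrArg Subtype.val (inv_mul_cancel z)
      rw [hzr, hzr', ← map_mul] at h5
      obtain ⟨i⟩ := hnon
      have := congrFun (congrFun h5 i) i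
      simpa using this
    have k1 := key g.1 r h3
    have k2 := key (g⁻¹).1 r' h4
    by_cases hr : r = 1
    · have hr' : r' = 1 := by rw [hr, mul_one] at hrr; exact hrr
      obtain ⟨a1, a2⟩ := k1.2.2 hr
      obtain ⟨b1, b2⟩ := k2.2.2 hr'
      refine left_conj (a := g.1.toBlocks₁₁) (d := g.1.toBlocks₂₂) (a' := (g⁻¹).1.toBlocks₁₁)
        (d' := (g⁻¹).1.toBlocks₂₂) ?_ ?_ l
      · conv_lhs => rw [← fromBlocks_toBlocks g.1, a1, a2]
      · conv_lhs => rw [← fromBlocks_toBlocks (g⁻¹).1, b1, b2]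
    · exfalso
      have a1 := k1.2.1 hr
      have e1 : g.1 * (g⁻¹).1 = 1 := congrArg Subtype.val (mul_inv_cancel g)
      rw [← fromBlocks_toBlocks g.1, ← fromBlocks_toBlocks (g⁻¹).1, fromBlocks_multiply,
        ← fromBlocks_one, fromBlocks_inj] at e1
      obtain ⟨c1, -, -, -⟩ := e1
      rw [a1, Matrix.zero_mul, zero_add] at c1
      have c2 := mul_eq_one_comm.1 c1
      refine hns r ?_
      calc D = (g⁻¹).1.toBlocks₂₁ * (g.1.toBlocks₁₂ * D) := by rw [← Matrix.mul_assoc, c2, Matrix.one_mul]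
        _ = r • 1 := by rw [k1.1, Matrix.mul_smul, c2]

end blocks

/-! ### `SL₂(9)` in `SL₄(3)` -/

section nine

variable {F : Type*} [Field F]

/-- the quadratic extension `F[i]` -/
abbrev E (F : Type*) [Field F] : Type _ := QuadraticAlgebra F (-1) 0

/-- `A + i B ↦ [A B; -B A]` -/
def res (X : Matrix (Fin 2) (Fin 2) (E F)) : Matrix (Fin 2 ⊕ Fin 2) (Fin 2 ⊕ Fin 2) F :=
  fromBlocks (X.map QuadraticAlgebra.re) (X.map QuadraticAlgebra.im) (-X.map QuadraticAlgebra.im)
    (X.map QuadraticAlgebra.re)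

theorem res_mul (X Y : Matrix (Fin 2) (Fin 2) (E F)) : res (X * Y) = res X * res Y := by
  unfold res
  rw [fromBlocks_multiply, fromBlocks_inj]
  refine ⟨?_, ?_, ?_, ?_⟩ <;>
  · ext i j
    simp [Matrix.mul_apply, Fin.sum_univ_two]
    ring

open scoped QuadraticAlgebra in
theorem res_one : res (1 : Matrix (Fin 2) (Fin 2) (E F)) = 1 := by
  unfold res
  rw [← fromBlocks_one, fromBlocks_inj]
  refine ⟨?_, ?_, ?_, ?_⟩ <;>
  · ext i j
    fin_cases i <;> fin_cases j <;> simp

theorem res_injective : Function.Injective (res : Matrix (Fin 2) (Fin 2) (E F) → _) := by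
  intro X Y h
  unfold res at h
  rw [fromBlocks_inj] at h
  ext i j
  · exact congrFun (congrFun h.1 i) j
  · exact congrFun (congrFun h.2.1 i) j

theorem det_res {X : Matrix (Fin 2) (Fin 2) (E F)} (hX : X.det = 1) : (res X).det = 1 := by
  have h0 : (res X).det = ((res X).submatrix finSumFinEquiv.symm finSumFinEquiv.symm).det :=
    (Matrix.det_submatrix_equiv_self _ _).symm
  rw [Matrix.det_fin_two] at hX
  have h1 := congrArg QuadraticAlgebra.re hX
  have h2 := congrArg QuadraticAlgebra.im hX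
  simp only [QuadraticAlgebra.re_sub, QuadraticAlgebra.re_mul, QuadraticAlgebra.im_sub,
    QuadraticAlgebra.im_mul, QuadraticAlgebra.re_one, QuadraticAlgebra.im_one] at h1 h2
  rw [h0]
  have e : (res X).submatrix finSumFinEquiv.symm finSumFinEquiv.symm =
      !![(X 0 0).re, (X 0 1).re, (X 0 0).im, (X 0 1).im; (X 1 0).re, (X 1 1).re, (X 1 0).im, (X 1 1).im;
        -(X 0 0).im, -(X 0 1).im, (X 0 0).re, (X 0 1).re;
        -(X 1 0).im, -(X 1 1).im, (X 1 0).re, (X 1 1).re] := by
    ext i j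
    fin_cases i <;> fin_cases j <;> rfl
  rw [e]
  simp [Matrix.det_succ_row_zero, Fin.sum_univ_succ, Fin.succAbove]
  linear_combination ((X 0 0).re * (X 1 1).re - (X 0 0).im * (X 1 1).im - ((X 0 1).re * (X 1 0).re - (X 0 1).im * (X 1 0).im) + 1) * h1 + ((X 0 0).re * (X 1 1).im + (X 0 0).im * (X 1 1).re - ((X 0 1).re * (X 1 0).im + (X 0 1).im * (X 1 0).re)) * h2

/-- multiplication by `i` -/
def J (F : Type*) [Field F] : Matrix (Fin 2 ⊕ Fin 2) (Fin 2 ⊕ Fin 2) F := fromBlocks 0 1 (-1) 0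

theorem exists_res {g : Matrix (Fin 2 ⊕ Fin 2) (Fin 2 ⊕ Fin 2) F} (h : g * J F = J F * g) :
    ∃ X, res X = g := by
  have h1 := fromBlocks_toBlocks g
  unfold J at h
  rw [← h1, fromBlocks_multiply, fromBlocks_multiply, fromBlocks_inj] at h
  obtain ⟨h11, h12, h21, h22⟩ := h
  simp only [Matrix.mul_zero, Matrix.zero_mul, add_zero, zero_add, Matrix.mul_one, Matrix.one_mul,
    Matrix.mul_neg, Matrix.neg_mul] at h11 h12 h21 h22
  refine ⟨Matrix.of fun i j => ⟨g.toBlocks₁₁ i j, g.toBlocks₁₂ i j⟩, ?_⟩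
  rw [← h1]
  unfold res
  rw [fromBlocks_inj]
  refine ⟨rfl, rfl, ?_, ?_⟩
  · rw [← h11]
    rfl
  · rw [← h12]
    rfl

/-- the embedding -/
def resHom (F : Type*) [Field F] :
    SpecialLinearGroup (Fin 2) (E F) →* SpecialLinearGroup (Fin 2 ⊕ Fin 2) F where
  toFun A := ⟨res A.1, det_res A.2⟩
  map_one' := Subtype.ext res_one
  map_mul' A B := Subtype.ext (res_mul A.1 B.1)

theorem resHom_center (l : SpecialLinearGroup (Fin 2) (E F))
    (hl : resHom F l ∈ Subgroup.center (SpecialLinearGroup (Fin 2 ⊕ Fin 2) F)) :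
    l ∈ Subgroup.center (SpecialLinearGroup (Fin 2) (E F)) := by
  rw [Subgroup.mem_center_iff]
  intro m
  apply Subtype.ext
  apply res_injective
  change res (m.1 * l.1) = res (l.1 * m.1)
  rw [res_mul, res_mul]
  exact congrArg Subtype.val ((Subgroup.mem_center_iff.1 hl) (resHom F m))

theorem resHom_conj {g : SpecialLinearGroup (Fin 2 ⊕ Fin 2) F} (hg : g.1 * J F = J F * g.1)
    (hg' : (g⁻¹).1 * J F = J F * (g⁻¹).1) (l : SpecialLinearGroup (Fin 2) (E F)) :
    ∃ l', g * resHom F l * g⁻¹ = resHom F l' := by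
  obtain ⟨X, hX⟩ := exists_res hg
  obtain ⟨Y, hY⟩ := exists_res hg'
  have hXY : X * Y = 1 := by
    apply res_injective
    rw [res_mul, hX, hY, res_one]
    exact congrArg Subtype.val (mul_inv_cancel g)
  have hdet : (X * l.1 * Y).det = 1 := by
    rw [det_mul, det_mul, l.2, mul_one, ← det_mul, hXY, det_one]
  refine ⟨⟨_, hdet⟩, Subtype.ext ?_⟩
  change g.1 * res l.1 * (g⁻¹).1 = res (X * l.1 * Y)
  rw [res_mul, res_mul, hX, hY]

/-- the scalar `1 + i` -/
def Tm (F : Type*) [Field F] : Matrix (Fin 2 ⊕ Fin 2) (Fin 2 ⊕ Fin 2) F := fromBlocks 1 1 (-1) 1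

theorem det_Tm (h3 : (3 : F) = 0) : (Tm F).det = 1 := by
  have h0 : (Tm F).det = ((Tm F).submatrix finSumFinEquiv.symm finSumFinEquiv.symm).det :=
    (Matrix.det_submatrix_equiv_self _ _).symm
  have e : (Tm F).submatrix finSumFinEquiv.symm finSumFinEquiv.symm =
      !![1, 0, 1, 0; 0, 1, 0, 1; -1, 0, 1, 0; 0, -1, 0, 1] := by
    ext i j
    fin_cases i <;> fin_cases j <;> simp [Tm, finSumFinEquiv, Fin.addCases]
  rw [h0, e]
  simp [Matrix.det_succ_row_zero, Fin.sum_univ_succ, Fin.succAbove]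
  linear_combination h3

/-- the scalar `1 + i` in `SL` -/
def Ts (h3 : (3 : F) = 0) : SpecialLinearGroup (Fin 2 ⊕ Fin 2) F := ⟨Tm F, det_Tm h3⟩

theorem nb_four_three [Fintype F] (hF : Fintype.card F = 3)
    [Fact (∀ r : F, r ^ 2 ≠ -1 + 0 * r)] [Finite (E F)]
    (h : NB (SpecialLinearGroup (Fin 2) (E F) ⧸ Subgroup.center (SpecialLinearGroup (Fin 2) (E F)))) :
    NB (SpecialLinearGroup (Fin 2 ⊕ Fin 2) F ⧸
      Subgroup.center (SpecialLinearGroup (Fin 2 ⊕ Fin 2) F)) := by
  have h3 : (3 : F) = 0 := by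
    have := FiniteField.cast_card_eq_zero F
    rw [hF] at this
    exact_mod_cast this
  have h2 : (2 : F) ≠ 0 := by
    intro h2
    exact one_ne_zero (show (1 : F) = 0 by linear_combination h3 - h2)
  have hTT : Tm F * Tm F = (2 : F) • J F := by
    unfold Tm J
    rw [fromBlocks_multiply, fromBlocks_smul, fromBlocks_inj]
    refine ⟨by simp, by rw [two_smul]; simp, by rw [two_smul]; simp, by simp⟩
  have hJJ : J F * J F = -1 := by
    unfold J
    rw [fromBlocks_multiply, ← fromBlocks_one, fromBlocks_neg, fromBlocks_inj]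
    refine ⟨?_, ?_, ?_, ?_⟩ <;> simp
  refine nb_of_quot (Ts h3) ⟨3, ?_⟩ (resHom F)
    resHom_center ?_ ?_ h
  · have h1 : (Ts h3) ^ 2 ^ 3 = 1 := by
      apply Subtype.ext
      rw [show (2 : ℕ) ^ 3 = 2 * 2 * 2 from rfl, pow_mul, pow_mul, pow_two, pow_two, pow_two]
      change Tm F * Tm F * (Tm F * Tm F) * (Tm F * Tm F * (Tm F * Tm F)) = 1
      rw [hTT]
      have h4 : (2 : F) • J F * (2 : F) • J F = -1 := by
        rw [Matrix.smul_mul, Matrix.mul_smul, hJJ, smul_smul]
        have : (2 : F) * 2 = 1 := by linear_combination h3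
        rw [this, one_smul]
      rw [h4, neg_mul_neg, one_mul]
    rw [h1]
    exact Subgroup.one_mem _
  · intro l
    apply Subtype.ext
    change Tm F * res l.1 = res l.1 * Tm F
    unfold Tm res
    rw [fromBlocks_multiply, fromBlocks_multiply, fromBlocks_inj]
    refine ⟨?_, ?_, ?_, ?_⟩ <;> simp <;> abel
  · intro g z hz hg l
    have key : ∀ (g : SpecialLinearGroup (Fin 2 ⊕ Fin 2) F) (r : F), r ^ Fintype.card (Fin 2 ⊕ Fin 2) = 1 →
        g.1 * Tm F = r • (Tm F * g.1) → g.1 * J F = J F * g.1 := by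
      intro g r hr h4
      have hr0 : r ≠ 0 := by
        rintro rfl
        rw [zero_pow (by decide)] at hr
        exact zero_ne_one hr
      have hr2 : r * r = 1 := by
        have := FiniteField.pow_card_sub_one_eq_one r hr0
        rw [hF] at this
        rw [← this, pow_two]
      have h5 : g.1 * (Tm F * Tm F) = (Tm F * Tm F) * g.1 := by
        rw [← Matrix.mul_assoc, h4, Matrix.smul_mul, Matrix.mul_assoc, h4, Matrix.mul_smul, smul_smul, hr2,
          one_smul, ← Matrix.mul_assoc]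
      rw [hTT, Matrix.mul_smul, Matrix.smul_mul] at h5
      exact smul_right_injective _ h2 h5
    obtain ⟨r, -, hr, h4⟩ := rel_mat hz hg
    obtain ⟨r', -, hr', h4'⟩ := rel_mat (Subgroup.inv_mem _ hz) (inv_rel hz hg)
    exact resHom_conj (key g r hr h4) (key g⁻¹ r' hr' h4') l

end nine

/-! ### `PSL₃(3)` -/

open Cfsg.Agent.Characters.Core Cfsg.Agent.H424.DegTools
open Cfsg.Agent.H424.BlockTools Cfsg.Agent.H424.BlockTools2 Cfsg.Agent.H424.GroupTools
open Cfsg.Agent.H424.CentBound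
open Cfsg.Agent.SmallSimple.LocalData Cfsg.Agent.SmallSimple.DegreeData
open Cfsg.Agent.SmallSimple.OrdersA in
/-- the simple groups of order 5616 -/
theorem nb_5616 {G : Type*} [Group G] [Finite G] [IsSimpleGroup G] (h : Nat.card G = 5616) : NB G := by
  have hG := not_comm h (by norm_num)
  have : Fact (Nat.Prime 13) := ⟨by norm_num⟩
  obtain ⟨d, e, k, h1, h2, h3⟩ := data_cases h hG 13 (by norm_num) (by norm_num) (by norm_num)
    (by norm_num) [(144, 3, 1)] (by decide +kernel)
  simp only [List.mem_cons, Prod.mk.injEq, List.mem_nil_iff, or_false] at h3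
  obtain ⟨rfl, rfl, rfl⟩ := h3
  obtain ⟨M, hM, ⟨D⟩⟩ := exists_block h1 (by norm_num) default (t := 4) (by norm_num)
  have h4 := degs_simple D (h1.card_eq _) rfl h (by norm_num) (by norm_num)
    (L := [(2, 4), (3, 3), (13, 1)]) (by norm_num) (by norm_num)
    (C := [-12, 27, 144]) (Ds := [-36, 3, 16, 432]) (by decide) (o := 25) (w := 1000)
    (Q := fun l => [[-12, 27]].contains l) (by decide +kernel)
  have h5 : D.degs = [-12, 27] := by simpa using h4
  have h6 := D.dexc_eq (by norm_num)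
  rw [h5] at h6
  have h7 : D.f = 16 := by
    rw [← D.natAbs_dexc, ← h6]
    decide
  have h8 : D.X.Nonempty := by
    rw [← Finset.card_pos, D.card_X]
    norm_num
  obtain ⟨χ, hχ⟩ := h8
  have h9 := D.deg_X χ hχ
  refine NB.of_degree' ?_ χ.2 (k := 3) ?_
  · exact hG
  · rw [Blocks.Basic.irr_one_eq_charDegree χ.2, h9, h7]
    norm_num

/-! ### Reindexing, and the result -/

/-- reindexing -/
def re {F : Type*} [Field F] {ι κ : Type*} [Fintype ι] [DecidableEq ι] [Fintype κ] [DecidableEq κ]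
    (e : ι ≃ κ) : SpecialLinearGroup ι F ≃* SpecialLinearGroup κ F where
  toFun A := ⟨Matrix.reindexAlgEquiv F F e A.1, (Matrix.det_reindex_self e A.1).trans A.2⟩
  invFun A := ⟨Matrix.reindexAlgEquiv F F e.symm A.1, (Matrix.det_reindex_self e.symm A.1).trans A.2⟩
  left_inv A := Subtype.ext (by
    ext i j
    change A.1 _ _ = A.1 i j
    simp)
  right_inv A := Subtype.ext (by
    ext i j
    change A.1 _ _ = A.1 i j
    simp)
  map_mul' A B := Subtype.ext (map_mul (Matrix.reindexAlgEquiv F F e) A.1 B.1)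

theorem nb_re {F : Type*} [Field F] {ι κ : Type*} [Fintype ι] [DecidableEq ι] [Fintype κ]
    [DecidableEq κ] (e : ι ≃ κ)
    (h : NB (SpecialLinearGroup ι F ⧸ Subgroup.center (SpecialLinearGroup ι F))) :
    NB (SpecialLinearGroup κ F ⧸ Subgroup.center (SpecialLinearGroup κ F)) :=
  NB.iso (LieClassical.FieldTransfer.centralQuotientCongr (re (F := F) e)) h

section main

variable {F : Type} [Field F] [Fintype F]

theorem two_ne (h2 : Odd (Fintype.card F)) : (2 : F) ≠ 0 := by
  intro h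
  have h1 : ringChar F = 2 := by
    have : CharP F 2 := CharTwo.of_one_ne_zero_of_two_eq_zero one_ne_zero h
    exact ringChar.eq F 2 |>.symm ▸ rfl
  rw [FiniteField.even_card_iff_char_two] at h1
  exact (Nat.not_even_iff_odd.2 h2) (Nat.even_iff.2 h1)

/-- `q > 3`, `n ≠ 4` -/
theorem nb_two_add (h2 : Odd (Fintype.card F)) (k : ℕ) (hk : 1 ≤ k) (hk2 : k ≠ 2)
    (h : NB (Matrix.ProjectiveSpecialLinearGroup (Fin 2) F)) :
    NB (Matrix.ProjectiveSpecialLinearGroup (Fin (2 + k)) F) := by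
  have : Nonempty (Fin k) := ⟨⟨0, hk⟩⟩
  refine nb_re finSumFinEquiv ?_
  refine nb_block (ι := Fin 2) (κ := Fin k) (two_ne h2) (ε := -1) (by norm_num) (by simpa using hk2.symm)
    (T := ⟨fromBlocks ((-1 : F) • (1 : Matrix (Fin 2) (Fin 2) F)) 0 0 (- (-1 : F) • 1), ?_⟩) rfl h
  rw [det_fromBlocks_zero₂₁, det_smul, det_smul]
  simp

/-- `q = 3`, `n ≥ 5` -/
theorem nb_add_two (h2 : Odd (Fintype.card F)) (k : ℕ) (hk2 : k ≠ 2)
    (h : NB (Matrix.ProjectiveSpecialLinearGroup (Fin k) F)) :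
    NB (Matrix.ProjectiveSpecialLinearGroup (Fin (k + 2)) F) := by
  refine nb_re finSumFinEquiv ?_
  refine nb_block (ι := Fin k) (κ := Fin 2) (two_ne h2) (ε := 1) (by norm_num) (by simpa using hk2)
    (T := ⟨fromBlocks ((1 : F) • (1 : Matrix (Fin k) (Fin k) F)) 0 0 (-(1 : F) • 1), ?_⟩) rfl h
  rw [det_fromBlocks_zero₂₁, det_smul, det_smul]
  simp

/-- `q > 3`, `n = 4` -/
theorem nb_four (h2 : Odd (Fintype.card F)) (h : NB (Matrix.ProjectiveSpecialLinearGroup (Fin 2) F)) :
    NB (Matrix.ProjectiveSpecialLinearGroup (Fin 4) F) := by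
  refine nb_re (ι := Fin 2 ⊕ Fin 2) (κ := Fin 4) finSumFinEquiv ?_
  refine nb_block' (ι := Fin 2) (two_ne h2) (D := !![0, 1; -1, 0]) ?_ ?_
    (T := ⟨fromBlocks 1 0 0 !![0, 1; -1, 0], ?_⟩) rfl h
  · ext i j
    fin_cases i <;> fin_cases j <;> simp [Matrix.mul_apply, Fin.sum_univ_two]
  · intro r hr
    have := congrFun (congrFun hr 0) 1
    simp at this
  · rw [det_fromBlocks_zero₂₁, det_fin_two]
    simp

/-- `-1` is not a square in the field of three elements -/
theorem fact_three (hF : Fintype.card F = 3) : Fact (∀ r : F, r ^ 2 ≠ -1 + 0 * r) := by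
  constructor
  intro r hr
  rw [zero_mul, add_zero] at hr
  have h2 := two_ne (F := F) (by rw [hF]; decide)
  by_cases hr0 : r = 0
  · rw [hr0, zero_pow two_ne_zero] at hr
    exact one_ne_zero (show (1 : F) = 0 by linear_combination hr)
  · have := FiniteField.pow_card_sub_one_eq_one r hr0
    rw [hF] at this
    have h3 : r ^ 2 = 1 := this
    rw [h3] at hr
    exact h2 (by linear_combination hr)

/-- `q = 3`, `n = 4` -/
theorem nb_four' (hF : Fintype.card F = 3) (hpsl2 : ∀ (K : Type) [Field K] [Fintype K],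
    Odd (Fintype.card K) → 3 < Fintype.card K → NB (Matrix.ProjectiveSpecialLinearGroup (Fin 2) K)) :
    NB (Matrix.ProjectiveSpecialLinearGroup (Fin 4) F) := by
  refine nb_re (ι := Fin 2 ⊕ Fin 2) (κ := Fin 4) finSumFinEquiv ?_
  have := fact_three hF
  let e : E F ≃ F × F := QuadraticAlgebra.equivProd (-1) 0
  have hfin : Fintype (E F) := Fintype.ofEquiv _ e.symm
  have hc : Fintype.card (E F) = 9 := by
    rw [Fintype.card_congr e, Fintype.card_prod, hF]
  have := Finite.of_equiv _ e.symm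
  refine nb_four_three hF ?_
  exact hpsl2 (E F) (by rw [hc]; decide) (by rw [hc]; decide)

/-- **The groups `PSL_n(q)`, `q` odd, `n ≥ 3`, have more than one 2-block.** -/
theorem nb_psl {F : Type} [Field F] [Fintype F] (h2 : Odd (Fintype.card F)) {n : ℕ} (hn : 3 ≤ n)
    (hpsl2 : ∀ (K : Type) [Field K] [Fintype K], Odd (Fintype.card K) → 3 < Fintype.card K →
      NB (Matrix.ProjectiveSpecialLinearGroup (Fin 2) K)) :
    NB (Matrix.ProjectiveSpecialLinearGroup (Fin n) F) := by
  have h1 : 1 < Fintype.card F := Fintype.one_lt_card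
  by_cases h3 : 3 < Fintype.card F
  · by_cases h4 : n = 4
    · subst h4
      exact nb_four h2 (hpsl2 F h2 h3)
    · obtain ⟨k, rfl⟩ := Nat.exists_eq_add_of_le (show 2 ≤ n by omega)
      exact nb_two_add h2 k (by omega) (by omega) (hpsl2 F h2 h3)
  · have hF : Fintype.card F = 3 := by
      obtain ⟨m, hm⟩ := h2
      omega
    induction n using Nat.strong_induction_on with
    | _ n ih =>
      by_cases hn3 : n = 3
      · subst hn3
        have := S0249.result (F := F) 3 le_rfl
        exact nb_5616 (H26.SolvPPrime.card_psl_three hF)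
      · by_cases hn4 : n = 4
        · subst hn4
          exact nb_four' hF hpsl2
        · obtain ⟨k, rfl⟩ := Nat.exists_eq_add_of_le' (show 2 ≤ n by omega)
          exact nb_add_two h2 k (by omega) (ih k (by omega) (by omega))

end main

end Cfsg.Agent.H128.ObPsl
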