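import Cfsg.Agent.H367.Rec.Defs
import Cfsg.Agent.H376.CocPsl2
import Mathlib

/-!
# Recognition of `A_n` by spectrum: tools for the numerical elimination of a simple section

* `dvd_L` : `sg N ≤ n` implies `N ∣ lcm (1, …, n)`; `sgc_le` : a computable lower bound of `sg`;
* `not_sg_le_of_bad` : Boolean certificate for `n < sg N`;
* `miss2` : Boolean certificate for a coclique with two missing primes;
* `psl_order`, `psl_order_odd` : element orders in `PSL_d(q)`.
-/

set_option autoImplicit false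

namespace Cfsg.Agent.H128.Rec

open Cfsg.Agent.H367.Rec Cfsg.Agent.H376 Cfsg.Agent.H376.Coc

/-! ### `sg` -/

theorem pow_le_sg {p k N : ℕ} (hp : p.Prime) (hN : N ≠ 0) (hk : k ≠ 0) (h : p ^ k ∣ N) :
    p ^ k ≤ sg N := by
  have h1 : k ≤ N.factorization p := (hp.pow_dvd_iff_le_factorization hN).1 h
  have h2 : p ∈ N.primeFactors := by
    rw [Nat.mem_primeFactors]
    exact ⟨hp, (dvd_pow_self p hk).trans h, hN⟩
  calc p ^ k ≤ p ^ N.factorization p := Nat.pow_le_pow_right hp.pos h1
    _ ≤ sg N := Finset.single_le_sum (f := fun p => p ^ N.factorization p) (fun _ _ => Nat.zero_le _) h2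

theorem le_sg_of_prime {p N : ℕ} (hp : p.Prime) (hN : N ≠ 0) (h : p ∣ N) : p ≤ sg N := by
  have := pow_le_sg hp hN one_ne_zero (k := 1) (by rwa [pow_one])
  rwa [pow_one] at this

/-- `lcm (1, …, n)` -/
def L : ℕ → ℕ
  | 0 => 1
  | n + 1 => Nat.lcm (L n) (n + 1)

theorem dvd_L_of_le {k n : ℕ} (hk : k ≠ 0) (h : k ≤ n) : k ∣ L n := by
  induction n with
  | zero => omega
  | succ n ih =>
    rw [L]
    rcases Nat.lt_or_ge n k with h1 | h1
    · have : k = n + 1 := by omega
      rw [this]
      exact Nat.dvd_lcm_right _ _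
    · exact (ih h1).trans (Nat.dvd_lcm_left _ _)

theorem dvd_L {N n : ℕ} (hN : N ≠ 0) (h : sg N ≤ n) : N ∣ L n := by
  rw [Nat.dvd_iff_prime_pow_dvd_dvd]
  intro p k hp hk
  rcases Nat.eq_zero_or_pos k with rfl | h0
  · rw [pow_zero]; exact one_dvd _
  · exact dvd_L_of_le (pow_ne_zero _ hp.ne_zero) ((pow_le_sg hp hN h0.ne' hk).trans h)

/-- the sum of the prime power parts for the primes of a list (exponents at most `64`) -/
def sgc (N : ℕ) (l : List ℕ) : ℕ := (l.map fun p => if Nat.gcd N (p ^ 64) = 1 then 0 else Nat.gcd N (p ^ 64)).sum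

theorem sgc_le {N : ℕ} (hN : N ≠ 0) {l : List ℕ} (hl : l.Nodup) (hp : ∀ p ∈ l, p.Prime) :
    sgc N l ≤ sg N := by
  classical
  unfold sgc
  have key : ∀ p : ℕ, p.Prime → (if Nat.gcd N (p ^ 64) = 1 then 0 else Nat.gcd N (p ^ 64)) ≤
      (if p ∣ N then p ^ N.factorization p else 0) := by
    intro p hp
    by_cases h : p ∣ N
    · rw [if_pos h]
      split_ifs
      · exact Nat.zero_le _
      · obtain ⟨j, -, hj⟩ := (Nat.dvd_prime_pow hp).1 (Nat.gcd_dvd_right N (p ^ 64))
        rw [hj]
        refine Nat.pow_le_pow_right hp.pos ((hp.pow_dvd_iff_le_factorization hN).1 ?_)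
        rw [← hj]
        exact Nat.gcd_dvd_left _ _
    · rw [if_neg h]
      have : Nat.gcd N (p ^ 64) = 1 := by
        have := (Nat.Prime.coprime_iff_not_dvd hp).2 h
        exact (Nat.Coprime.pow_left 64 this).symm
      rw [if_pos this]
  calc (l.map fun p => if Nat.gcd N (p ^ 64) = 1 then 0 else Nat.gcd N (p ^ 64)).sum
      ≤ (l.map fun p => if p ∣ N then p ^ N.factorization p else 0).sum :=
        List.sum_le_sum fun p h => key p (hp p h)
    _ = ∑ p ∈ l.toFinset, if p ∣ N then p ^ N.factorization p else 0 :=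
        (List.sum_toFinset _ hl).symm
    _ = ∑ p ∈ l.toFinset.filter (fun p => p ∣ N), p ^ N.factorization p :=
        (Finset.sum_filter _ _).symm
    _ ≤ sg N := by
        refine Finset.sum_le_sum_of_subset fun p h => ?_
        rw [Finset.mem_filter, List.mem_toFinset] at h
        rw [Nat.mem_primeFactors]
        exact ⟨hp p h.1, h.2, hN⟩

/-- the primes up to `58` -/
def P : List ℕ := [2, 3, 5, 7, 11, 13, 17, 19, 23, 29, 31, 37, 41, 43, 47, 53]

theorem P_nodup : P.Nodup := by decide

theorem P_prime : ∀ p ∈ P, p.Prime := by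
  intro p hp
  simp only [P, List.mem_cons, List.mem_nil_iff, or_false] at hp
  rcases hp with rfl | rfl | rfl | rfl | rfl | rfl | rfl | rfl | rfl | rfl | rfl | rfl | rfl | rfl | rfl | rfl <;>
    norm_num

theorem mem_P {p : ℕ} (hp : p.Prime) (h : p ≤ 58) : p ∈ P := by
  interval_cases p <;> first | decide | (exfalso; revert hp; decide)

/-- certificate for `n < sg N` -/
def bad (N n : ℕ) : Bool := N != 0 && (L n % N != 0 || decide (n < sgc N P))

theorem lt_sg_of_bad {N n : ℕ} (h : bad N n = true) : n < sg N := by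
  unfold bad at h
  rw [Bool.and_eq_true, bne_iff_ne, Bool.or_eq_true, bne_iff_ne, decide_eq_true_eq] at h
  obtain ⟨h0, h1 | h1⟩ := h
  · by_contra hcon
    exact h1 (Nat.mod_eq_zero_of_dvd (dvd_L h0 (not_lt.1 hcon)))
  · exact h1.trans_le (sgc_le h0 P_nodup P_prime)

/-- the part of `N` prime to `k` (for small multiplicities) -/
def prm (N k : ℕ) : ℕ := N / Nat.gcd N (k ^ 99)

/-! ### cocliques -/

/-- two primes of a coclique are in the list `M` -/
def miss2 (n : ℕ) (M : List ℕ) : Bool :=
  M.any fun a => M.any fun b => decide (a < b) && decide (n < a + b) && P.any fun c =>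
    c != a && c != b && decide (c ≤ n) && decide (n < a + c) && decide (n < b + c)

theorem false_of_miss2 {n : ℕ} {S : Type*} [Group S] (h : Cand n S) {M : List ℕ}
    (hM : ∀ a ∈ M, a.Prime ∧ a ≤ n ∧ ¬ a ∣ Nat.card S) : miss2 n M = false := by
  classical
  by_contra hcon
  rw [Bool.not_eq_false] at hcon
  unfold miss2 at hcon
  simp only [List.any_eq_true, Bool.and_eq_true, decide_eq_true_eq, bne_iff_ne] at hcon
  obtain ⟨a, ha, b, hb, ⟨hab, hab2⟩, c, hc, ⟨⟨⟨hca, hcb⟩, hcn⟩, hac⟩, hbc⟩ := hcon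
  obtain ⟨pa, an, da⟩ := hM a ha
  obtain ⟨pb, bn, db⟩ := hM b hb
  have pc := P_prime c hc
  have hcoc : Coc n ({a, b, c} : Finset ℕ) := by
    constructor
    · intro p hp
      simp only [Finset.mem_insert, Finset.mem_singleton] at hp
      rcases hp with rfl | rfl | rfl <;> assumption
    · intro p hp
      simp only [Finset.mem_insert, Finset.mem_singleton] at hp
      rcases hp with rfl | rfl | rfl <;> assumption
    · intro p hp q hq hpq
      simp only [Finset.mem_insert, Finset.mem_singleton] at hp hq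
      rcases hp with rfl | rfl | rfl <;> rcases hq with rfl | rfl | rfl <;> omega
  have hcard : ({a, b, c} : Finset ℕ).card = 3 := Finset.card_eq_three.2
    ⟨a, b, c, hab.ne, Ne.symm hca, Ne.symm hcb, rfl⟩
  have := h.coc _ hcoc (by rw [hcard]) a (by simp) b (by simp) da db
  omega

/-- the primes of the coclique `{p : n/2 < p ≤ n}` dividing `|S|` -/
theorem exists_coc {n : ℕ} {S : Type*} [Group S] [Finite S] (h : Cand n S) {C : Finset ℕ}
    (hC : Coc n C) (h3 : 3 ≤ C.card) :
    ∃ D ⊆ C, IsCoc S D ∧ C.card ≤ D.card + 1 := by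
  classical
  refine ⟨C.filter (fun p => p ∣ Nat.card S), Finset.filter_subset _ _, ⟨?_, ?_, ?_⟩, ?_⟩
  · intro p hp
    exact hC.prime p (Finset.mem_filter.1 hp).1
  · intro p hp
    exact (Finset.mem_filter.1 hp).2
  · rintro p hp q hq hpq ⟨g, hg⟩
    rw [Finset.mem_filter] at hp hq
    have h1 := h.sub g
    rw [hg] at h1
    have pp := hC.prime p hp.1
    have pq := hC.prime q hq.1
    have h2 : p + q ≤ sg (p * q) := by
      have hcop : Nat.Coprime p q := (Nat.coprime_primes pp pq).2 hpq
      have h3 := sgc_le (N := p * q) (mul_ne_zero pp.ne_zero pq.ne_zero) (l := [p, q])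
        (by simp [hpq]) (by
          intro x hx
          simp only [List.mem_cons, List.mem_nil_iff, or_false] at hx
          rcases hx with rfl | rfl <;> assumption)
      have e1 : Nat.gcd (p * q) (p ^ 64) = p := by
        rw [show p ^ 64 = p * p ^ 63 from pow_succ' p 63, Nat.gcd_mul_left]
        have : Nat.Coprime q (p ^ 63) := Nat.Coprime.pow_right _ hcop.symm
        rw [this, mul_one]
      have e2 : Nat.gcd (p * q) (q ^ 64) = q := by
        rw [mul_comm p q, show q ^ 64 = q * q ^ 63 from pow_succ' q 63, Nat.gcd_mul_left]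
        have : Nat.Coprime p (q ^ 63) := Nat.Coprime.pow_right _ hcop
        rw [this, mul_one]
      unfold sgc at h3
      simp only [List.map_cons, List.map_nil, List.sum_cons, List.sum_nil, e1, e2, if_neg pp.one_lt.ne',
        if_neg pq.one_lt.ne'] at h3
      omega
    have := hC.sum p hp.1 q hq.1 hpq
    omega
  · have h1 : (C.filter (fun p => ¬ p ∣ Nat.card S)).card ≤ 1 := by
      rw [Finset.card_le_one]
      intro r hr s hs
      rw [Finset.mem_filter] at hr hs
      exact h.coc C hC h3 r hr.1 s hs.1 hr.2 hs.2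
    have h2 := Finset.card_filter_add_card_filter_not (s := C) (fun p => p ∣ Nat.card S)
    omega

/-! ### element orders in `PSL_d(q)` -/

section orders

variable {F : Type*} [Field F] [Fintype F]

theorem psl_order {d a m : ℕ} (ha : a ≠ 0) (had : a ≤ d) (hm : m ∣ Fintype.card F ^ a - 1)
    (hq : Nat.Coprime (Fintype.card F - 1) m) :
    ∃ g : Matrix.ProjectiveSpecialLinearGroup (Fin d) F, orderOf g = m := by
  rw [← Nat.card_eq_fintype_card] at hm hq
  obtain ⟨A, hA⟩ := PrimeOrd.exists_SL (F := F) a ha m hm hq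
  obtain ⟨φ, hφ, _⟩ := exists_phi (F := F) (a := a) (b := 0) (n := d) (by omega)
  have hord : orderOf (φ (A, 1)) = m := by
    rw [orderOf_injective _ hφ, Prod.orderOf_mk, hA, orderOf_one, Nat.lcm_one_right]
  exact ⟨QuotientGroup.mk (φ (A, 1)),
    PrimeOrd.orderOf_mk _ (fun x hx => S2468.center_pow x hx) hq _ hord⟩

theorem exists_unit {m : ℕ} (hm : m ∣ Fintype.card F - 1) : ∃ u : Fˣ, orderOf u = m := by
  have h1 : Nat.card Fˣ = Fintype.card F - 1 := by rw [Nat.card_units, Nat.card_eq_fintype_card]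
  obtain ⟨g, hg⟩ := IsCyclic.exists_generator (α := Fˣ)
  have h2 : orderOf g = Fintype.card F - 1 := by
    rw [orderOf_eq_card_of_forall_mem_zpowers hg, h1]
  have hpos : 0 < Fintype.card F - 1 := by
    have := Fintype.one_lt_card (α := F)
    omega
  obtain ⟨c, hc⟩ := hm
  have hc0 : c ≠ 0 := by rintro rfl; omega
  refine ⟨g ^ c, ?_⟩
  rw [orderOf_pow' g hc0, h2, hc, Nat.gcd_mul_left_left]
  exact Nat.mul_div_cancel _ (Nat.pos_of_ne_zero hc0)

theorem psl_order_odd {d m : ℕ} (hd : 2 ≤ d) (hm : m ∣ Fintype.card F - 1) (ho : Odd m) :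
    ∃ g : Matrix.ProjectiveSpecialLinearGroup (Fin d) F, orderOf g = m := by
  obtain ⟨u, hu⟩ := exists_unit hm
  let D : Matrix.SpecialLinearGroup (Fin 2) F := ⟨!![(u : F), 0; 0, ((u⁻¹ : Fˣ) : F)], by
    rw [Matrix.det_fin_two]
    simp⟩
  have hDk : ∀ k : ℕ, (D ^ k).1 = !![((u ^ k : Fˣ) : F), 0; 0, ((u⁻¹ ^ k : Fˣ) : F)] := by
    intro k
    induction k with
    | zero => ext i j; fin_cases i <;> fin_cases j <;> simp
    | succ k ih =>
      rw [pow_succ, Matrix.SpecialLinearGroup.coe_mul, ih]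
      ext i j
      fin_cases i <;> fin_cases j <;> simp [D, Matrix.mul_apply, pow_succ]
  have hord : orderOf D = m := by
    rw [← hu]
    apply orderOf_eq_orderOf_iff.2
    intro k
    constructor
    · intro h
      have h3 := congrArg Subtype.val h
      rw [hDk] at h3
      have h4 := congrFun (congrFun h3 0) 0
      apply Units.ext
      simpa using h4
    · intro h
      apply Subtype.ext
      rw [hDk, inv_pow, h]
      ext i j
      fin_cases i <;> fin_cases j <;> simp
  obtain ⟨φ, hφ, h3⟩ := exists_phi (F := F) (a := 2) (b := 0) (n := d) (by omega)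
  have hφord : orderOf (φ (D, 1)) = m := by
    rw [orderOf_injective _ hφ, Prod.orderOf_mk, hord, orderOf_one, Nat.lcm_one_right]
  refine ⟨QuotientGroup.mk (φ (D, 1)), ?_⟩
  rw [orderOf_mk_of, hφord]
  intro k hk
  obtain ⟨r, hr⟩ := center_scalar hk
  rw [← map_pow] at hr
  have h4 : (D ^ k).1 = r • 1 := (h3 _ r hr).1
  rw [hDk] at h4
  have h00 := congrFun (congrFun h4 0) 0
  have h11 := congrFun (congrFun h4 1) 1
  simp at h00 h11
  have h5 : u ^ (2 * k) = 1 := by
    have h6 : u ^ k = (u ^ k)⁻¹ := by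
      apply Units.ext
      rw [Units.val_pow_eq_pow_val, h00, ← h11]
      simp
    rw [two_mul, pow_add]
    nth_rw 1 [h6]
    exact inv_mul_cancel _
  have h6 := orderOf_dvd_of_pow_eq_one h5
  rw [hu] at h6
  have h7 : m ∣ k := (Nat.Coprime.dvd_of_dvd_mul_left (Nat.Coprime.symm
    ((Nat.coprime_two_left).2 ho)) h6)
  exact orderOf_dvd_iff_pow_eq_one.1 (hφord ▸ h7)

end orders

end Cfsg.Agent.H128.Rec
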