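import Cfsg.Agent.H128.RecBase
import Cfsg.Agent.H436.Names
import Cfsg.Agent.H152.Rec.NumDefs
import Mathlib

/-!
# Recognition of `A_n` by spectrum: the row `PSL_d(q)`
-/

set_option autoImplicit false

namespace Cfsg.Agent.H128.Rec

open Cfsg Cfsg.Agent.OrdDiv Cfsg.Agent.H436 Cfsg.Agent.H367.Rec Cfsg.Agent.H376 Cfsg.Agent.H376.Coc

universe u

/-- independent of `n ≤ 46` and `d` -/
def elimQ (q : ℕ) : Bool :=
  (decide (prm (q - 1) 2 % 2 = 1) && L 46 % prm (q - 1) 2 != 0) ||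
  (decide (prm (q + 1) 2 % 2 = 1) && L 46 % prm (q + 1) 2 != 0)

/-- the prime powers which are left -/
def lst : List ℕ := [2, 3, 4, 5, 7, 8, 9, 11, 13, 16, 17, 19, 23, 25, 27, 29, 31, 32, 37, 41, 43, 47, 49, 53, 64,
  81, 125, 169, 289, 343, 961, 1024, 1331, 1849, 2209]

theorem stage1 : ∀ r ∈ P, ∀ f ∈ List.range 65, elimQ (r ^ (f + 1)) = false → r ^ (f + 1) ∈ lst := by
  decide +kernel

/-- for `d ≤ 6` -/
def elim (d q n : ℕ) : Bool :=
  (P.any fun p => q % p == 0 && decide (n < p)) ||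
  (decide (prm (q - 1) 2 % 2 = 1) && bad (prm (q - 1) 2) n) ||
  ((List.range d).any fun a => Nat.gcd (q - 1) (prm (q ^ (a + 1) - 1) (q - 1)) == 1 &&
    bad (prm (q ^ (a + 1) - 1) (q - 1)) n) ||
  miss2 n (P.filter fun p => decide (p ≤ n) && q % p != 0 &&
    (List.range d).all fun j => (q ^ (j + 1) - 1) % p != 0)

theorem stage2 : ∀ q ∈ lst, ∀ d ∈ [2, 3, 4, 5, 6], ∀ n ∈ List.range 47, 13 ≤ n → (d ≤ 5 → n ≤ 40) →
    (d = 2 → 4 ≤ q) → elim d q n = true ∨ (n = 16 ∧ d = 2 ∧ (q = 13 ∨ q = 27)) := by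
  decide +kernel

/-- the numerical facts about `om` and `cyc` (task REC-NUM) -/
structure Nums : Prop where
  om_table : ∀ n : ℕ, (17 ≤ n → 3 ≤ (H152.Rec.om n).card) ∧ (29 ≤ n → 4 ≤ (H152.Rec.om n).card) ∧
    (41 ≤ n → 5 ≤ (H152.Rec.om n).card) ∧ (47 ≤ n → 6 ≤ (H152.Rec.om n).card) ∧
    (59 ≤ n → 7 ≤ (H152.Rec.om n).card) ∧ (71 ≤ n → 9 ≤ (H152.Rec.om n).card) ∧
    (107 ≤ n → 12 ≤ (H152.Rec.om n).card) ∧ (181 ≤ n → 18 ≤ (H152.Rec.om n).card) ∧
    (281 ≤ n → 26 ≤ (H152.Rec.om n).card) ∧ (601 ≤ n → 48 ≤ (H152.Rec.om n).card) ∧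
    (3900 ≤ n → 240 ≤ (H152.Rec.om n).card)
  om_large : ∀ n e q : ℕ, 3900 ≤ n → 31 ≤ e → e.Prime → 2 ≤ q → sg (H152.Rec.cyc e q) ≤ n →
    3 * e + 20 ≤ 2 * (H152.Rec.om n).card
  cyc_table : ∀ q : ℕ, 2 ≤ q → 107 ≤ sg (H152.Rec.cyc 7 q) ∧ 281 ≤ sg (H152.Rec.cyc 13 q) ∧
    3900 ≤ sg (H152.Rec.cyc 31 q)

theorem om_coc (n : ℕ) : Coc n (H152.Rec.om n) := by
  constructor
  · intro p hp
    exact (Finset.mem_filter.1 hp).2
  · intro p hp
    exact (Finset.mem_Ioc.1 (Finset.mem_filter.1 hp).1).2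
  · intro p hp q hq _
    have h1 := Finset.mem_Ioc.1 (Finset.mem_filter.1 hp).1
    have h2 := Finset.mem_Ioc.1 (Finset.mem_filter.1 hq).1
    omega

/-- `cyc e q` is a divisor of `q ^ e - 1` prime to `q - 1`, `e` an odd prime -/
theorem cyc_dvd {e q : ℕ} (he : e.Prime) (he2 : e ≠ 2) (hq : 2 ≤ q) :
    H152.Rec.cyc e q ∣ q ^ e - 1 ∧ Nat.Coprime (q - 1) (H152.Rec.cyc e q) := by
  obtain ⟨x, rfl⟩ : ∃ x, q = x + 1 := ⟨q - 1, by omega⟩
  have hx : 0 < x := by omega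
  set s := ∑ i ∈ Finset.range e, (x + 1) ^ i with hs
  have h1 : s * x + 1 = (x + 1) ^ e := geom_sum_mul_add x e
  have h2 : (x + 1) ^ e - 1 = s * x := by omega
  have h3 : (x : ℤ) ∣ (s : ℤ) - e := by
    have : (s : ℤ) - e = ∑ i ∈ Finset.range e, (((x : ℤ) + 1) ^ i - 1) := by
      rw [Finset.sum_sub_distrib, Finset.sum_const, Finset.card_range, hs]
      push_cast
      simp
    rw [this]
    refine Finset.dvd_sum fun i _ => ?_
    have := sub_dvd_pow_sub_pow ((x : ℤ) + 1) 1 i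
    rwa [one_pow, add_sub_cancel_right] at this
  have hse : ∀ l : ℕ, l ∣ x → (l ∣ s ↔ l ∣ e) := by
    intro l hl
    have h4 : (l : ℤ) ∣ (s : ℤ) - e := (Int.natCast_dvd_natCast.2 hl).trans h3
    rw [← Int.natCast_dvd_natCast, ← Int.natCast_dvd_natCast]
    exact ⟨fun h => (dvd_sub_right h).1 h4, fun h => by
      have := dvd_add h4 h
      rwa [sub_add_cancel] at this⟩
  set g := Nat.gcd e x with hg
  have hgs : g ∣ s := (hse g (Nat.gcd_dvd_right _ _)).2 (Nat.gcd_dvd_left _ _)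
  have hg0 : 0 < g := Nat.gcd_pos_of_pos_left _ he.pos
  have hcyc : H152.Rec.cyc e (x + 1) = s / g := by
    unfold H152.Rec.cyc
    rw [h2, Nat.add_sub_cancel, mul_comm x, Nat.mul_div_mul_right _ _ hx]
  rw [hcyc, h2, Nat.add_sub_cancel]
  refine ⟨(Nat.div_dvd_of_dvd hgs).trans (dvd_mul_right _ _), ?_⟩
  rw [Nat.coprime_iff_gcd_eq_one]
  by_contra hcon
  obtain ⟨l, hl, hl2⟩ := Nat.exists_prime_and_dvd hcon
  have hlx := hl2.trans (Nat.gcd_dvd_left _ _)
  have hls := hl2.trans (Nat.gcd_dvd_right _ _)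
  have hle : l ∣ e := (hse l hlx).1 (hls.trans (Nat.div_dvd_of_dvd hgs))
  obtain rfl : l = e := (Nat.prime_dvd_prime_iff_eq hl he).1 hle
  have hge : g = l := Nat.gcd_eq_left hlx
  rw [hge] at hls hgs
  have := Fact.mk hl
  have h5 := padicValNat.pow_sub_pow (p := l) (x := x + 1) (y := 1) (hl.odd_of_ne_two he2) (by omega)
    (by rwa [Nat.add_sub_cancel]) (by
      intro h
      have := (Nat.dvd_add_right hlx).1 h
      exact hl.one_lt.ne' (Nat.dvd_one.1 this)) hl.ne_zero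
  rw [one_pow, h2, Nat.add_sub_cancel, padicValNat_self] at h5
  have hs0 : s ≠ 0 := by
    rintro h0
    rw [h0, zero_mul, zero_add] at h1
    have : 1 < (x + 1) ^ l := Nat.one_lt_pow hl.ne_zero (by omega)
    omega
  rw [padicValNat.mul hs0 hx.ne'] at h5
  have h6 : l ^ 2 ∣ s := by
    obtain ⟨c, hc⟩ := hls
    rw [pow_two]
    refine ⟨c, ?_⟩
    rw [mul_assoc, ← hc]
    exact (Nat.mul_div_cancel' hgs).symm
  have h7 := (padicValNat_dvd_iff_le hs0).1 h6
  omega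

section psl

variable {F : Type} [Field F] [Fintype F] {d n : ℕ} {S : Type u} [Group S]

theorem ord1 (h : Cand n S) (e : S ≃* Matrix.ProjectiveSpecialLinearGroup (Fin d) F) {a m : ℕ} (ha : a ≠ 0)
    (had : a ≤ d) (hm : m ∣ Fintype.card F ^ a - 1) (hq : Nat.Coprime (Fintype.card F - 1) m) :
    sg m ≤ n := by
  obtain ⟨g, hg⟩ := psl_order (F := F) ha had hm hq
  have h1 := h.sub (e.symm g)
  rwa [MulEquiv.orderOf_eq, hg] at h1

theorem ord2 (h : Cand n S) (e : S ≃* Matrix.ProjectiveSpecialLinearGroup (Fin d) F) {m : ℕ} (hd : 2 ≤ d)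
    (hm : m ∣ Fintype.card F - 1) (ho : Odd m) : sg m ≤ n := by
  obtain ⟨g, hg⟩ := psl_order_odd (F := F) hd hm ho
  have h1 := h.sub (e.symm g)
  rwa [MulEquiv.orderOf_eq, hg] at h1

theorem prime_le [Finite S] (h : Cand n S) {p : ℕ} (hp : p.Prime) (hd : p ∣ Nat.card S) : p ≤ n := by
  have := Fact.mk hp
  obtain ⟨g, hg⟩ := exists_prime_orderOf_dvd_card' p hd
  have h1 := h.sub g
  rw [hg] at h1
  exact (le_sg_of_prime hp hp.ne_zero dvd_rfl).trans h1

theorem odd_dvd_cop {q m : ℕ} (hq : 1 ≤ q) (hm : m ∣ q + 1) (ho : Odd m) : Nat.Coprime (q - 1) m := by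
  have h1 : Nat.gcd (q - 1) m ∣ 2 := by
    have h2 : Nat.gcd (q - 1) m ∣ (q + 1) - (q - 1) :=
      Nat.dvd_sub ((Nat.gcd_dvd_right _ _).trans hm) (Nat.gcd_dvd_left _ _)
    have h3 : (q + 1) - (q - 1) = 2 := by omega
    rwa [h3] at h2
  have h2 : Odd (Nat.gcd (q - 1) m) := Odd.of_dvd_nat ho (Nat.gcd_dvd_right _ _)
  rcases (Nat.dvd_prime Nat.prime_two).1 h1 with h3 | h3
  · exact h3
  · rw [h3] at h2
    exact absurd h2 (by decide)

theorem prm_dvd (N k : ℕ) : prm N k ∣ N := Nat.div_dvd_of_dvd (Nat.gcd_dvd_left _ _)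

theorem dvd_sq {q m : ℕ} (hm : m ∣ q + 1) : m ∣ q ^ 2 - 1 := by
  have : q ^ 2 - 1 = (q + 1) * (q - 1) := by
    have := Nat.sq_sub_sq q 1
    rwa [one_pow] at this
  rw [this]
  exact hm.mul_right _

/-- the first step -/
theorem elimQ_eq (h : Cand n S) (e : S ≃* Matrix.ProjectiveSpecialLinearGroup (Fin d) F) (hd : 2 ≤ d)
    (hn : n ≤ 46) : elimQ (Fintype.card F) = false := by
  have hq : 2 ≤ Fintype.card F := Fintype.one_lt_card
  have hL : ∀ m : ℕ, m ≠ 0 → sg m ≤ n → L 46 % m = 0 := fun m hm h1 =>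
    Nat.mod_eq_zero_of_dvd (dvd_L hm (h1.trans hn))
  by_contra hcon
  rw [Bool.not_eq_false, elimQ, Bool.or_eq_true, Bool.and_eq_true, Bool.and_eq_true, decide_eq_true_eq,
    decide_eq_true_eq, bne_iff_ne, bne_iff_ne] at hcon
  rcases hcon with ⟨h1, h2⟩ | ⟨h1, h2⟩
  · refine h2 (hL _ (by intro h0; rw [h0] at h1; omega) (ord2 h e hd (prm_dvd _ _) (Nat.odd_iff.2 h1)))
  · refine h2 (hL _ (by intro h0; rw [h0] at h1; omega) (ord1 h e (a := 2) two_ne_zero hd
      (dvd_sq (prm_dvd _ _)) (odd_dvd_cop (by omega) (prm_dvd _ _) (Nat.odd_iff.2 h1))))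

/-- a bound for `q` -/
theorem card_lt (h : Cand n S) (e : S ≃* Matrix.ProjectiveSpecialLinearGroup (Fin d) F) (hd : 2 ≤ d)
    (hn : n ≤ 46) : Fintype.card F < 2 ^ 65 := by
  have hq : 2 ≤ Fintype.card F := Fintype.one_lt_card
  have hL : ∀ m : ℕ, m ≠ 0 → sg m ≤ n → m ≤ L 46 := fun m hm h1 =>
    Nat.le_of_dvd (by decide +kernel) (dvd_L hm (h1.trans hn))
  have hL46 : L 46 < 2 ^ 64 := by decide +kernel
  have h4 : Fintype.card F % 2 = 0 ∨ Fintype.card F % 4 = 1 ∨ Fintype.card F % 4 = 3 := by omega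
  rcases h4 with h4 | h4 | h4
  · have h5 := hL (Fintype.card F + 1) (by omega) (ord1 h e (a := 2) two_ne_zero hd (dvd_sq dvd_rfl)
      (odd_dvd_cop (by omega) dvd_rfl (Nat.odd_iff.2 (by omega))))
    omega
  · have h6 : (Fintype.card F + 1) / 2 ∣ Fintype.card F + 1 := Nat.div_dvd_of_dvd (by omega)
    have h5 := hL ((Fintype.card F + 1) / 2) (by omega) (ord1 h e (a := 2) two_ne_zero hd (dvd_sq h6)
      (odd_dvd_cop (by omega) h6 (Nat.odd_iff.2 (by omega))))
    omega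
  · have h6 : (Fintype.card F - 1) / 2 ∣ Fintype.card F - 1 := Nat.div_dvd_of_dvd (by omega)
    have h5 := hL ((Fintype.card F - 1) / 2) (by omega) (ord2 h e hd h6 (Nat.odd_iff.2 (by omega)))
    omega

/-- the characteristic divides the order -/
theorem char_dvd (hd : 2 ≤ d) {p : ℕ} (hp : p.Prime) (h : p ∣ Fintype.card F) :
    p ∣ Nat.card (Matrix.ProjectiveSpecialLinearGroup (Fin d) F) := by
  have hq : 2 ≤ Fintype.card F := Fintype.one_lt_card
  have h1 := psl_eq (F := F) hd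
  have h2 : p ∣ fPSL.num d (Fintype.card F) := by
    change p ∣ ((List.range d).map fun i => Fintype.card F ^ d - Fintype.card F ^ i).prod
    refine Dvd.dvd.trans ?_ (List.dvd_prod (List.mem_map.2 ⟨1, List.mem_range.2 (by omega), rfl⟩))
    exact Nat.dvd_sub (dvd_pow h (by omega)) (dvd_pow h one_ne_zero)
  rw [← h1] at h2
  rcases hp.dvd_mul.1 h2 with h3 | h3
  · exfalso
    change p ∣ Nat.gcd d (Fintype.card F - 1) * (Fintype.card F - 1) at h3
    have h4 : p ∣ Fintype.card F - 1 := by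
      rcases hp.dvd_mul.1 h3 with h4 | h4
      · exact h4.trans (Nat.gcd_dvd_right _ _)
      · exact h4
    have h5 := (Nat.dvd_sub_iff_right (by omega) h).1 h4
    exact hp.one_lt.ne' (Nat.dvd_one.1 h5)
  · exact h3

/-- the finite list -/
theorem mem_lst [Finite S] (h : Cand n S) (e : S ≃* Matrix.ProjectiveSpecialLinearGroup (Fin d) F) (hd : 2 ≤ d)
    (hn : n ≤ 46) : Fintype.card F ∈ lst := by
  obtain ⟨p, hc⟩ := CharP.exists F
  obtain ⟨f, hp, hf⟩ := FiniteField.card F p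
  have hpS : p ∣ Nat.card S := by
    rw [Nat.card_congr e.toEquiv]
    exact char_dvd hd hp (by rw [hf]; exact dvd_pow_self p f.ne_zero)
  have hpn := prime_le h hp hpS
  have h1 := elimQ_eq h e hd hn
  have h2 := card_lt h e hd hn
  obtain ⟨k, hk⟩ : ∃ k, (f : ℕ) = k + 1 := ⟨(f : ℕ) - 1, (Nat.sub_add_cancel f.pos).symm⟩
  rw [hf, hk] at h1 h2 ⊢
  have h3 : k < 65 := by
    have h4 : 2 ^ (k + 1) ≤ p ^ (k + 1) := Nat.pow_le_pow_left hp.two_le _
    have h5 := h4.trans_lt h2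
    have h6 := (Nat.pow_lt_pow_iff_right (by norm_num : 1 < 2)).1 h5
    omega
  exact stage1 p (mem_P hp (by omega)) k (List.mem_range.2 h3) h1

/-- the Boolean test -/
theorem elim_eq [Finite S] (h : Cand n S) (e : S ≃* Matrix.ProjectiveSpecialLinearGroup (Fin d) F) (hd : 2 ≤ d) :
    elim d (Fintype.card F) n = false := by
  have hq : 2 ≤ Fintype.card F := Fintype.one_lt_card
  by_contra hcon
  rw [Bool.not_eq_false, elim, Bool.or_eq_true, Bool.or_eq_true, Bool.or_eq_true] at hcon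
  rcases hcon with ((h1 | h1) | h1) | h1
  · rw [List.any_eq_true] at h1
    obtain ⟨p, hp, h2⟩ := h1
    rw [Bool.and_eq_true, beq_iff_eq, decide_eq_true_eq] at h2
    have hpp := P_prime p hp
    have hpS : p ∣ Nat.card S := by
      rw [Nat.card_congr e.toEquiv]
      exact char_dvd hd hpp (Nat.dvd_of_mod_eq_zero h2.1)
    have := prime_le h hpp hpS
    omega
  · rw [Bool.and_eq_true, decide_eq_true_eq] at h1
    have h2 := ord2 h e hd (prm_dvd _ _) (Nat.odd_iff.2 h1.1)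
    have h3 := lt_sg_of_bad h1.2
    omega
  · rw [List.any_eq_true] at h1
    obtain ⟨a, ha, h2⟩ := h1
    rw [Bool.and_eq_true, beq_iff_eq] at h2
    have h3 := ord1 h e (a := a + 1) (Nat.succ_ne_zero a) (by rw [List.mem_range] at ha; omega) (prm_dvd _ _) h2.1
    have h4 := lt_sg_of_bad h2.2
    omega
  · rw [false_of_miss2 h] at h1
    · exact absurd h1 (by decide)
    · intro a ha
      rw [List.mem_filter, Bool.and_eq_true, Bool.and_eq_true, decide_eq_true_eq, bne_iff_ne,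
        List.all_eq_true] at ha
      obtain ⟨h2, ⟨h3, h4⟩, h5⟩ := ha
      have hpp := P_prime a h2
      refine ⟨hpp, h3, fun hdvd => ?_⟩
      rw [Nat.card_congr e.toEquiv] at hdvd
      rcases psl_dvd hpp (by omega) hdvd with h6 | ⟨j, hj1, hjd, hj⟩
      · exact h4 (Nat.mod_eq_zero_of_dvd h6)
      · have := h5 (j - 1) (List.mem_range.2 (by omega))
        rw [Nat.sub_add_cancel hj1, bne_iff_ne] at this
        exact this (Nat.mod_eq_zero_of_dvd hj)

/-- the coclique `om n` -/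
theorem coc_bound [Finite S] (h : Cand n S) (e : S ≃* Matrix.ProjectiveSpecialLinearGroup (Fin d) F)
    (hd : 2 ≤ d) (hn : 17 ≤ n) (h3 : 3 ≤ (H152.Rec.om n).card) :
    (d ≤ 3 → (H152.Rec.om n).card ≤ 4) ∧ (4 ≤ d → (H152.Rec.om n).card ≤ 2 + d / 2) := by
  obtain ⟨D, hD, hcoc, hcard⟩ := exists_coc h (om_coc n) h3
  have hcoc' := hcoc.congr e
  constructor
  · intro hd3
    have := psl_coclique_three hcoc' hd hd3 (by
      intro s hs
      have := Finset.mem_Ioc.1 (Finset.mem_filter.1 (hD hs)).1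
      omega)
    omega
  · intro hd4
    have := psl_coclique_half hcoc' hd4
    omega

end psl

/-- **The row `PSL_d(q)`**, from the numerical facts -/
theorem row_psl_of (N : Nums) {S : Type u} [Group S] [Finite S] {n d q : ℕ} (hn : 13 ≤ n)
    (hS : IsNamed (.psl d q) S) (h : Cand n S) : Surv n (.psl d q) := by
  obtain ⟨F, _, _, rfl, ⟨e⟩⟩ := hS.real
  obtain ⟨hd, hd2, -⟩ := hS.cond
  have hq : 2 ≤ Fintype.card F := Fintype.one_lt_card
  have hcyc : ∀ e' : ℕ, e'.Prime → e' ≠ 2 → e' ≤ d → sg (H152.Rec.cyc e' (Fintype.card F)) ≤ n := by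
    intro e' he he2 hed
    obtain ⟨h1, h2⟩ := cyc_dvd he he2 hq
    exact ord1 h e he.ne_zero hed h1 h2
  obtain ⟨t1, t2, t3⟩ := N.cyc_table (Fintype.card F) hq
  have b7 : 7 ≤ d → 107 ≤ n := fun h7 => t1.trans (hcyc 7 (by norm_num) (by norm_num) h7)
  have b13 : 13 ≤ d → 281 ≤ n := fun h7 => t2.trans (hcyc 13 (by norm_num) (by norm_num) h7)
  have b31 : 31 ≤ d → 3900 ≤ n := fun h7 => t3.trans (hcyc 31 (by norm_num) (by norm_num) h7)
  obtain ⟨o17, o29, o41, o47, o59, o71, o107, o181, o281, o601, o3900⟩ := N.om_table n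
  have hcoc : 17 ≤ n → (d ≤ 3 → (H152.Rec.om n).card ≤ 4) ∧
      (4 ≤ d → (H152.Rec.om n).card ≤ 2 + d / 2) := fun h17 => coc_bound h e hd h17 (o17 h17)
  -- `n < 107`
  have hn107 : n < 107 := by
    by_contra hlt
    rw [not_lt] at hlt
    have c := hcoc (by omega)
    have d1 := o107 hlt
    have h281 : 281 ≤ n := b13 (by omega)
    have d2 := o281 h281
    have h3900 : 3900 ≤ n := b31 (by omega)
    have d3 := o3900 h3900
    obtain ⟨e', he, he1, he2⟩ := Nat.exists_prime_lt_and_le_two_mul (d / 2) (by omega)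
    have h1 := N.om_large n e' (Fintype.card F) h3900 (by omega) he hq (hcyc e' he (by omega) (by omega))
    omega
  have hd6 : d ≤ 6 := by
    by_contra hlt
    have := b7 (by omega)
    omega
  have hn46 : n ≤ 46 := by
    by_contra hlt
    have c := hcoc (by omega)
    have := o47 (by omega)
    omega
  have hn40 : d ≤ 5 → n ≤ 40 := by
    intro hd5
    by_contra hlt
    have c := hcoc (by omega)
    have := o41 (by omega)
    omega
  rcases stage2 (Fintype.card F) (mem_lst h e hd hn46) d (by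
      interval_cases d <;> decide) n (List.mem_range.2 (by omega)) hn hn40 hd2 with h1 | h1
  · rw [elim_eq h e hd] at h1
    exact absurd h1 (by decide)
  · obtain ⟨h2, h3, h4⟩ := h1
    exact ⟨h2.le, h3, h4⟩

end Cfsg.Agent.H128.Rec
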