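import Cfsg.Agent.H128.TwoMat
import Cfsg.Agent.H715.Fpr.MathData

/-!
# S4095 at the prime 2: `M₂₃` (helper128, task 3086)
-/

set_option autoImplicit false
set_option linter.unusedSectionVars false

namespace Cfsg.Agent.H128.TwoM23

open Subgroup Cfsg Cfsg.Agent.H516 Cfsg.Agent.H509.Weak
open Cfsg.Agent.H866.InvCount Cfsg.Agent.H866.InvolType Cfsg.Agent.H866.FpfCent

universe u v

/-- elements of order `p`, `p² ∤ |H|`: conjugate subgroups -/
theorem conj_zpowers {H : Type*} [Group H] [Finite H] {p : ℕ} [Fact p.Prime] (h2 : ¬ p ^ 2 ∣ Nat.card H) {u v : H}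
    (hu : orderOf u = p) (hv : orderOf v = p) : ∃ s : H, s * u * s⁻¹ ∈ zpowers v := by
  have hp : p.Prime := Fact.out
  have hcard : ∀ P : Sylow p H, p ∣ Nat.card H → Nat.card P = p := by
    intro P hd
    obtain ⟨n, hn⟩ := IsPGroup.iff_card.1 P.2
    have h3 : n ≠ 0 := by
      rintro rfl
      rw [pow_zero] at hn
      have h4 := P.dvd_card_of_dvd_card hd
      rw [hn] at h4
      exact hp.one_lt.ne' (Nat.dvd_one.1 h4)
    have h4 : n < 2 := by
      by_contra h5
      push Not at h5
      apply h2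
      refine dvd_trans (pow_dvd_pow p h5) ?_
      rw [← hn]
      exact Subgroup.card_subgroup_dvd_card _
    have h5 : n = 1 := by omega
    rw [h5, pow_one] at hn
    exact hn
  have hd : p ∣ Nat.card H := by rw [← hu]; exact orderOf_dvd_natCard u
  have hPu : IsPGroup p (zpowers u) := IsPGroup.of_card (n := 1) (by rw [Nat.card_zpowers, hu, pow_one])
  have hPv : IsPGroup p (zpowers v) := IsPGroup.of_card (n := 1) (by rw [Nat.card_zpowers, hv, pow_one])
  obtain ⟨P, hP⟩ := hPu.exists_le_sylow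
  obtain ⟨Q, hQ⟩ := hPv.exists_le_sylow
  have hQ' : zpowers v = (Q : Subgroup H) :=
    Subgroup.eq_of_le_of_card_ge hQ (by rw [hcard Q hd, Nat.card_zpowers, hv])
  obtain ⟨s, hs⟩ := MulAction.exists_smul_eq H P Q
  refine ⟨s, ?_⟩
  rw [hQ', ← hs]
  exact ⟨u, hP (mem_zpowers u), rfl⟩

/-- **Normalizers of elements of order three are 5-fold transitive on the fixed points.** -/
theorem exists_norm {w : Equiv.Perm GolayPt} (hw : w ∈ M24) (h3 : orderOf w = 3) (f g : Fin 5 ↪ GolayPt)
    (hf : ∀ i, w (f i) = f i) (hg : ∀ i, w (g i) = g i) :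
    ∃ h : Equiv.Perm GolayPt, h ∈ M24 ∧ (∀ i, h (f i) = g i) ∧ h * w * h⁻¹ ∈ zpowers w := by
  have h5' : MulAction.IsMultiplyPretransitive M24 GolayPt 5 := Cfsg.Agent.S0366.result
  obtain ⟨k, hk⟩ := h5'.exists_smul_eq f g
  have hk' : ∀ i, (k : Equiv.Perm GolayPt) (f i) = g i := fun i => by
    have := congrArg (fun F : Fin 5 ↪ GolayPt => F i) hk
    exact this
  have hsc : (Set.range g).ncard = 5 := by
    rw [← Set.image_univ, Set.ncard_image_of_injective _ g.injective, Set.ncard_univ, Nat.card_eq_fintype_card]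
    rfl
  have h1 := h5'.index_of_fixingSubgroup_mul hsc
  have h24 : Nat.card GolayPt = 24 := by
    rw [Nat.card_eq_fintype_card]
    rfl
  rw [h24] at h1
  have hM := Cfsg.Agent.S0364.result
  have h2 := (fixingSubgroup M24 (Set.range g)).card_mul_index
  rw [hM] at h2
  have h3' : (fixingSubgroup M24 (Set.range g)).index = 5100480 := by
    have e1 : (24 - 5 : ℕ).factorial = 121645100408832000 := by decide
    have e2 : (24 : ℕ).factorial = 620448401733239439360000 := by decide
    rw [e1, e2] at h1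
    omega
  rw [h3'] at h2
  have h4 : Nat.card ↥(fixingSubgroup M24 (Set.range g)) = 48 := by omega
  have hf3 : Fact (Nat.Prime 3) := ⟨Nat.prime_three⟩
  have hmem : (⟨w, hw⟩ : M24) ∈ fixingSubgroup M24 (Set.range g) := by
    rw [mem_fixingSubgroup_iff]
    rintro _ ⟨i, rfl⟩
    exact hg i
  have hmem' : k * (⟨w, hw⟩ : M24) * k⁻¹ ∈ fixingSubgroup M24 (Set.range g) := by
    rw [mem_fixingSubgroup_iff]
    rintro _ ⟨i, rfl⟩
    show (k : Equiv.Perm GolayPt) (w ((k : Equiv.Perm GolayPt)⁻¹ (g i))) = g i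
    have e1 : (k : Equiv.Perm GolayPt)⁻¹ (g i) = f i := by
      rw [← hk' i]
      exact Equiv.symm_apply_apply (k : Equiv.Perm GolayPt) (f i)
    rw [e1, hf i, hk' i]
  have ho : orderOf (⟨⟨w, hw⟩, hmem⟩ : fixingSubgroup M24 (Set.range g)) = 3 := by
    rw [← Subgroup.orderOf_coe, ← Subgroup.orderOf_coe, ← h3]
  have ho' : orderOf (⟨k * ⟨w, hw⟩ * k⁻¹, hmem'⟩ : fixingSubgroup M24 (Set.range g)) = 3 := by
    rw [← Subgroup.orderOf_coe]
    show orderOf (k * (⟨w, hw⟩ : M24) * k⁻¹) = 3
    have e : k * (⟨w, hw⟩ : M24) * k⁻¹ = MulAut.conj k ⟨w, hw⟩ := rfl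
    rw [e, MulEquiv.orderOf_eq, ← Subgroup.orderOf_coe, ← h3]
  obtain ⟨s, hs⟩ := conj_zpowers (p := 3) (by rw [h4]; norm_num) ho' ho
  refine ⟨((s : M24) : Equiv.Perm GolayPt) * k, M24.mul_mem (s : M24).2 k.2, fun i => ?_, ?_⟩
  · rw [Equiv.Perm.mul_apply, hk']
    exact (mem_fixingSubgroup_iff M24).1 s.2 (g i) ⟨i, rfl⟩
  · obtain ⟨n, hn⟩ := hs
    refine ⟨n, ?_⟩
    have h5 := congrArg (fun x : fixingSubgroup M24 (Set.range g) => ((x : M24) : Equiv.Perm GolayPt)) hn
    change w ^ n = ((s : M24) : Equiv.Perm GolayPt) * ((k : Equiv.Perm GolayPt) * w * (k : Equiv.Perm GolayPt)⁻¹) *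
      ((s : M24) : Equiv.Perm GolayPt)⁻¹ at h5
    show w ^ n = _
    rw [h5]
    group

/-- the fixed points of commuting permutations -/
theorem fix_mod {a b : Equiv.Perm GolayPt} {p : ℕ} (hp : p.Prime) (ha : a ^ p = 1) (h : a * b = b * a) :
    (Finset.univ.filter fun q => b q = q).card ≡ (Finset.univ.filter fun q => b q = q ∧ a q = q).card [MOD p] := by
  classical
  set D : Finset GolayPt := Finset.univ.filter fun q => b q = q with hDef
  have hD : ∀ q ∈ D, a q ∈ D := by
    intro q hq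
    rw [hDef, Finset.mem_filter] at hq ⊢
    refine ⟨Finset.mem_univ _, ?_⟩
    have h1 := congrArg (fun g : Equiv.Perm Cfsg.GolayPt => g q) h
    change a (b q) = b (a q) at h1
    rw [← h1, hq.2]
  let F : Function.End D := fun q => ⟨a q.1, hD _ q.2⟩
  have hiter : ∀ n : ℕ, ∀ q : D, ((F ^ n : Function.End D) q).1 = (a ^ n) q.1 := by
    intro n
    induction n with
    | zero => intro q; rfl
    | succ n ih =>
      intro q
      rw [pow_succ, pow_succ]
      exact ih (F q)
  have hpp : F ^ p ^ 1 = 1 := by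
    funext q
    apply Subtype.ext
    rw [hiter, pow_one, ha]
    rfl
  have hf : Fact p.Prime := ⟨hp⟩
  have h := Equiv.Perm.card_fixedPoints_modEq hpp
  have e1 : Fintype.card D = D.card := Fintype.card_coe D
  have e2 : Fintype.card (Function.fixedPoints F) = (Finset.univ.filter fun q => b q = q ∧ a q = q).card := by
    rw [← Fintype.card_coe]
    refine Fintype.card_congr ⟨fun q => ⟨q.1.1, Finset.mem_filter.2 ⟨Finset.mem_univ _,
        (Finset.mem_filter.1 q.1.2).2, congrArg Subtype.val q.2⟩⟩,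
      fun q => ⟨⟨q.1, Finset.mem_filter.2 ⟨Finset.mem_univ _, (Finset.mem_filter.1 q.2).2.1⟩⟩,
        Subtype.ext (Finset.mem_filter.1 q.2).2.2⟩,
      fun q => rfl, fun q => rfl⟩
  rw [e1] at h
  have h' : D.card ≡ Fintype.card (Function.fixedPoints F) [MOD p] := by convert h
  rwa [e2] at h'

theorem conj_pow_two {G : Type*} [Group G] {y w : G} (h : y * w * y⁻¹ = w ^ 2) (n : ℕ) :
    y ^ n * w * (y ^ n)⁻¹ = w ^ (2 ^ n) := by
  induction n with
  | zero => simp
  | succ n ih =>
    calc y ^ (n + 1) * w * (y ^ (n + 1))⁻¹ = y * (y ^ n * w * (y ^ n)⁻¹) * y⁻¹ := by rw [pow_succ']; group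
      _ = y * w ^ (2 ^ n) * y⁻¹ := by rw [ih]
      _ = (y * w * y⁻¹) ^ (2 ^ n) := by rw [conj_pow]
      _ = w ^ (2 ^ (n + 1)) := by rw [h, ← pow_mul, pow_succ']

/-- an element of order 5 normalizing a group of order 3 centralizes it -/
theorem comm_of_norm {G : Type*} [Group G] {y w : G} (hy : orderOf y = 5) (hw : orderOf w = 3)
    (h : y * w * y⁻¹ ∈ zpowers w) : y * w = w * y := by
  classical
  have hfo : IsOfFinOrder w := orderOf_pos_iff.1 (by rw [hw]; norm_num)
  rw [← hfo.mem_powers_iff_mem_zpowers, hfo.mem_powers_iff_mem_range_orderOf, Finset.mem_image, hw] at h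
  obtain ⟨k, hk, hk'⟩ := h
  rw [Finset.mem_range] at hk
  interval_cases k
  · exfalso
    rw [pow_zero, eq_comm, mul_inv_eq_one] at hk'
    have h1 : w = 1 := mul_left_cancel (a := y) (by rw [hk', mul_one])
    rw [h1, orderOf_one] at hw
    omega
  · rw [pow_one, eq_comm, mul_inv_eq_iff_eq_mul] at hk'
    exact hk'
  · exfalso
    have h1 := conj_pow_two hk'.symm 5
    rw [← hy, pow_orderOf_eq_one, one_mul, inv_one, mul_one, hy] at h1
    have h2 : w ^ 3 = 1 := by rw [← hw, pow_orderOf_eq_one]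
    have h3 : w ^ (2 ^ 5) = w ^ 2 := by
      have e : 2 ^ 5 = 3 * 10 + 2 := by norm_num
      rw [e, pow_add, pow_mul, h2, one_pow, one_mul]
    rw [h3, pow_two] at h1
    have h4 : w = 1 := mul_left_cancel (a := w) (by rw [mul_one]; exact h1.symm)
    rw [h4, orderOf_one] at hw
    omega

theorem exists_five {w : Equiv.Perm GolayPt} (hw : w ∈ Spor.M23) (h3 : orderOf w = 3) :
    ∃ y : Equiv.Perm GolayPt, y ∈ Spor.M23 ∧ orderOf y = 5 ∧ y * w = w * y := by
  classical
  have hwn : w none = none := hw.2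
  set F : Finset GolayPt := Finset.univ.filter fun q => w q = q with hF
  have h6 : F.card = 6 := by
    rcases Cfsg.Agent.S5608.fx_three hw.1 h3 with h | h
    · exact h
    · exfalso
      unfold fx at h
      rw [Finset.card_eq_zero, Finset.filter_eq_empty_iff] at h
      exact h (Finset.mem_univ none) hwn
  have hn : (none : GolayPt) ∈ F := Finset.mem_filter.2 ⟨Finset.mem_univ _, hwn⟩
  let e0 : Fin 6 ≃ F := (F.equivFinOfCardEq h6).symm
  let e1 : Fin 6 ≃ F := e0.trans (Equiv.swap (e0 0) ⟨none, hn⟩)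
  have he : e1 0 = ⟨none, hn⟩ := by
    show Equiv.swap (e0 0) ⟨none, hn⟩ (e0 0) = _
    rw [Equiv.swap_apply_left]
  have hfix : ∀ i, w (e1 i).1 = (e1 i).1 := fun i => (Finset.mem_filter.1 (e1 i).2).2
  let σ : Equiv.Perm (Fin 6) := ⟨![0, 2, 3, 4, 5, 1], ![0, 5, 1, 2, 3, 4], by decide, by decide⟩
  let c : Fin 5 → Fin 6 := Fin.castLE (by norm_num)
  have hc : Function.Injective c := Fin.castLE_injective _
  let f : Fin 5 ↪ GolayPt := ⟨fun i => (e1 (c i)).1, fun i j hij => hc (e1.injective (Subtype.ext hij))⟩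
  let g : Fin 5 ↪ GolayPt := ⟨fun i => (e1 (σ (c i))).1, fun i j hij => hc (σ.injective (e1.injective (Subtype.ext hij)))⟩
  obtain ⟨h, hM, hfg, hN⟩ := exists_norm hw.1 h3 f g (fun i => hfix _) (fun i => hfix _)
  have hfg' : ∀ i : Fin 5, h (e1 (c i)).1 = (e1 (σ (c i))).1 := hfg
  have h0 : h none = none := by
    have h1 := hfg' 0
    have e2 : c 0 = 0 := rfl
    have e3 : σ 0 = 0 := rfl
    rw [e2, e3, he] at h1
    exact h1
  have hz : zpowers (h * w * h⁻¹) = zpowers w := by
    refine Subgroup.eq_of_le_of_card_ge (by rwa [zpowers_le]) ?_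
    rw [Nat.card_zpowers, Nat.card_zpowers]
    have e : h * w * h⁻¹ = MulAut.conj h w := rfl
    rw [e, MulEquiv.orderOf_eq]
  have hpF : ∀ q ∈ F, h q ∈ F := by
    intro q hq
    rw [hF, Finset.mem_filter] at hq ⊢
    refine ⟨Finset.mem_univ _, ?_⟩
    have h1 : w ∈ zpowers (h * w * h⁻¹) := by rw [hz]; exact mem_zpowers w
    obtain ⟨m, hm⟩ := h1
    have h2 : w = h * w ^ m * h⁻¹ := by
      have e : (h * w * h⁻¹) ^ m = h * w ^ m * h⁻¹ := conj_zpow
      rw [← e]
      exact hm.symm
    have h4 : (w ^ m) q = q := Equiv.Perm.zpow_apply_eq_self_of_apply_eq_self hq.2 m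
    rw [h2]
    show h ((w ^ m) (h⁻¹ (h q))) = h q
    have e4 : h⁻¹ (h q) = q := Equiv.symm_apply_apply h q
    rw [e4, h4]
  have hall : ∀ i : Fin 6, h (e1 i).1 = (e1 (σ i)).1 := by
    intro i
    by_cases hi : i = 5
    · subst hi
      obtain ⟨j, hj⟩ : ∃ j, e1 j = ⟨h (e1 5).1, hpF _ (e1 5).2⟩ := e1.surjective _
      have hj' : h (e1 5).1 = (e1 j).1 := (congrArg Subtype.val hj).symm
      have h1 : ∀ i : Fin 5, j ≠ σ (c i) := by
        intro i hji
        rw [hji, ← hfg' i] at hj'
        have h2 : e1 5 = e1 (c i) := Subtype.ext (h.injective hj')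
        have h3 : (5 : Fin 6) = c i := e1.injective h2
        have k : ∀ i : Fin 5, (5 : Fin 6) ≠ c i := by decide
        exact k i h3
      have h2 : j = σ 5 := by
        have k : ∀ j : Fin 6, (∀ i : Fin 5, j ≠ σ (c i)) → j = σ 5 := by decide
        exact k j h1
      rw [hj', h2]
    · obtain ⟨i', hi'⟩ : ∃ i', c i' = i := by
        revert hi
        revert i
        decide
      rw [← hi']
      exact hfg' i'
  have hit : ∀ n : ℕ, (h^[n]) (e1 1).1 = (e1 ((σ^[n]) 1)).1 := by
    intro n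
    induction n with
    | zero => rfl
    | succ n ih => rw [Function.iterate_succ_apply', Function.iterate_succ_apply', ih, hall]
  have hper : Function.IsPeriodicPt h 5 (e1 1).1 := by
    unfold Function.IsPeriodicPt Function.IsFixedPt
    rw [hit]
    have : (σ^[5]) 1 = 1 := by decide
    rw [this]
  have hnf : ¬ Function.IsFixedPt h (e1 1).1 := by
    intro h1
    have h2 : (e1 (σ 1)).1 = (e1 1).1 := by rw [← hall]; exact h1
    have h3 : σ 1 = 1 := e1.injective (Subtype.ext h2)
    revert h3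
    decide
  have hmp : Function.minimalPeriod h (e1 1).1 = 5 := by
    rcases (Nat.dvd_prime Nat.prime_five).1 hper.minimalPeriod_dvd with h1 | h1
    · exact absurd (Function.minimalPeriod_eq_one_iff_isFixedPt.1 h1) hnf
    · exact h1
  have h5 : 5 ∣ orderOf h := by
    rw [← hmp]
    apply Function.IsPeriodicPt.minimalPeriod_dvd
    unfold Function.IsPeriodicPt Function.IsFixedPt
    rw [Equiv.Perm.iterate_eq_pow, pow_orderOf_eq_one]
    rfl
  have hhM : h ∈ Spor.M23 := ⟨hM, h0⟩
  refine ⟨h ^ (orderOf h / 5), Subgroup.pow_mem _ hhM _, orderOf_pow_orderOf_div (orderOf_pos h).ne' h5, ?_⟩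
  apply comm_of_norm (orderOf_pow_orderOf_div (orderOf_pos h).ne' h5) h3
  have hnm : h ∈ normalizer ((zpowers w : Subgroup (Equiv.Perm GolayPt)) : Set (Equiv.Perm GolayPt)) := by
    obtain ⟨k, hk⟩ := (isOfFinOrder_of_finite w).mem_powers_iff_mem_zpowers.2 hN
    exact Cfsg.Agent.H729.PairBase.mem_normalizer_of_conj_pow hk.symm
  have h6' := Subgroup.pow_mem _ hnm (orderOf h / 5)
  exact (Subgroup.mem_normalizer_iff.1 h6' w).1 (mem_zpowers w)

theorem fx_w {w : Equiv.Perm GolayPt} (hw : w ∈ Spor.M23) (h3 : orderOf w = 3) :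
    (Finset.univ.filter fun q => w q = q).card = 6 := by
  rcases Cfsg.Agent.S5608.fx_three hw.1 h3 with h | h
  · exact h
  · exfalso
    unfold fx at h
    rw [Finset.card_eq_zero, Finset.filter_eq_empty_iff] at h
    exact h (Finset.mem_univ none) hw.2

/-- an element of order 5 centralizing `w` of order 3 moves all fixed points of `w` except `none`, transitively -/
theorem five_trans {w y : Equiv.Perm GolayPt} (hw : w ∈ Spor.M23) (h3 : orderOf w = 3) (hy : y ∈ Spor.M23)
    (h5 : orderOf y = 5) (hyw : y * w = w * y) {β q : GolayPt} (hβ : w β = β) (hβn : β ≠ none)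
    (hq : w q = q) (hqn : q ≠ none) : ∃ i : ℕ, (y ^ i) β = q := by
  classical
  have h6 := fx_w hw h3
  have hy4 := Cfsg.Agent.H516.Mathieu.fx_le_four hy.1 Nat.prime_five le_rfl h5
  rw [Cfsg.Agent.H516.Mathieu.fixedBy_ncard] at hy4
  have hmod := fix_mod (a := y) (b := w) Nat.prime_five (by rw [← h5, pow_orderOf_eq_one]) hyw
  rw [h6] at hmod
  have hle : (Finset.univ.filter fun q => w q = q ∧ y q = q).card ≤ (Finset.univ.filter fun q => y q = q).card :=
    Finset.card_le_card fun q hq => by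
      rw [Finset.mem_filter] at hq ⊢
      exact ⟨hq.1, hq.2.2⟩
  have hle' : (Finset.univ.filter fun q => w q = q ∧ y q = q).card ≤ 4 := hle.trans hy4
  have h1 : (Finset.univ.filter fun q => w q = q ∧ y q = q).card = 1 := by
    unfold Nat.ModEq at hmod
    omega
  have hnf : y β ≠ β := by
    intro h
    rw [Finset.card_eq_one] at h1
    obtain ⟨z, hz⟩ := h1
    have h2 : (none : GolayPt) ∈ Finset.univ.filter fun q => w q = q ∧ y q = q :=
      Finset.mem_filter.2 ⟨Finset.mem_univ _, hw.2, hy.2⟩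
    have h4 : β ∈ Finset.univ.filter fun q => w q = q ∧ y q = q :=
      Finset.mem_filter.2 ⟨Finset.mem_univ _, hβ, h⟩
    rw [hz, Finset.mem_singleton] at h2 h4
    exact hβn (by rw [h4, h2])
  have hper : Function.IsPeriodicPt y 5 β := by
    unfold Function.IsPeriodicPt Function.IsFixedPt
    rw [Equiv.Perm.iterate_eq_pow, ← h5, pow_orderOf_eq_one]
    rfl
  have hmp : Function.minimalPeriod y β = 5 := by
    rcases (Nat.dvd_prime Nat.prime_five).1 hper.minimalPeriod_dvd with h1 | h1
    · exact absurd (Function.minimalPeriod_eq_one_iff_isFixedPt.1 h1) hnf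
    · exact h1
  set T : Finset GolayPt := (Finset.univ.filter fun q => w q = q).erase none with hT
  have hTc : T.card = 5 := by
    have hm : (none : GolayPt) ∈ Finset.univ.filter fun q => w q = q :=
      Finset.mem_filter.2 ⟨Finset.mem_univ _, hw.2⟩
    rw [hT, Finset.card_erase_of_mem hm, h6]
  have hsub : (Finset.range 5).image (fun i => (y ^ i) β) ⊆ T := by
    intro z hz
    rw [Finset.mem_image] at hz
    obtain ⟨i, -, rfl⟩ := hz
    rw [hT, Finset.mem_erase, Finset.mem_filter]
    have hc : Commute w (y ^ i) := (show Commute y w from hyw).symm.pow_right i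
    have h1 : w ((y ^ i) β) = (y ^ i) β := by
      have h2 := congrArg (fun g : Equiv.Perm GolayPt => g β) hc.eq
      change w ((y ^ i) β) = (y ^ i) (w β) at h2
      rw [h2, hβ]
    refine ⟨?_, Finset.mem_univ _, h1⟩
    intro h2
    have h4 : (y ^ i) none = none := (Subgroup.pow_mem _ hy i : y ^ i ∈ Spor.M23).2
    exact hβn ((y ^ i).injective (h2.trans h4.symm))
  have hinj : Set.InjOn (fun i : ℕ => (y ^ i) β) (Finset.range 5 : Set ℕ) := by
    intro i hi j hj hij
    have h3 := Function.iterate_injOn_Iio_minimalPeriod (f := y) (x := β)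
    rw [hmp] at h3
    refine h3 (by simpa using hi) (by simpa using hj) ?_
    change (y^[i]) β = (y^[j]) β
    rw [Equiv.Perm.iterate_eq_pow, Equiv.Perm.iterate_eq_pow]
    exact hij
  have heq : (Finset.range 5).image (fun i => (y ^ i) β) = T := by
    apply Finset.eq_of_subset_of_card_le hsub
    rw [hTc, Finset.card_image_of_injOn hinj, Finset.card_range]
  have hqT : q ∈ T := by
    rw [hT, Finset.mem_erase, Finset.mem_filter]
    exact ⟨hqn, Finset.mem_univ _, hq⟩
  rw [← heq, Finset.mem_image] at hqT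
  obtain ⟨i, -, hi⟩ := hqT
  exact ⟨i, hi⟩

/-- the action of the centralizer of `w` on the fixed points of `w` other than `none` -/
def act (w : Spor.M23) : MulAction ↥(centralizer ({w} : Set Spor.M23))
    {q : GolayPt // (w : Equiv.Perm GolayPt) q = q ∧ q ≠ none} where
  smul c q := ⟨((c : Spor.M23) : Equiv.Perm GolayPt) q.1, by
    have h1 : (c : Spor.M23) * w = w * (c : Spor.M23) := mem_centralizer_singleton_iff.1 c.2
    have h2 := congrArg (fun g : Spor.M23 => (g : Equiv.Perm GolayPt) q.1) h1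
    change ((c : Spor.M23) : Equiv.Perm GolayPt) ((w : Equiv.Perm GolayPt) q.1) =
      (w : Equiv.Perm GolayPt) (((c : Spor.M23) : Equiv.Perm GolayPt) q.1) at h2
    rw [q.2.1] at h2
    refine ⟨h2.symm, fun h3 => q.2.2 ?_⟩
    have h4 : ((c : Spor.M23) : Equiv.Perm GolayPt) none = none := (c : Spor.M23).2.2
    exact ((c : Spor.M23) : Equiv.Perm GolayPt).injective (h3.trans h4.symm)⟩
  one_smul q := rfl
  mul_smul a b q := rfl

theorem cent_three (w : Spor.M23) (hw : orderOf w = 3) :
    pCore 2 ↥(centralizer ({w} : Set Spor.M23)) = ⊥ := by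
  classical
  have hfin : Finite Spor.M23 := Nat.finite_of_card_ne_zero (by rw [Cfsg.Agent.SporadicA.MathieuRecog.card_M23]; norm_num)
  have hwo : orderOf (w : Equiv.Perm GolayPt) = 3 := by rw [Subgroup.orderOf_coe, hw]
  obtain ⟨y, hyM, hy5, hyw⟩ := exists_five w.2 hwo
  by_contra hR
  have hf2 : Fact (Nat.Prime 2) := ⟨Nat.prime_two⟩
  have hRp : IsPGroup 2 (pCore 2 ↥(centralizer ({w} : Set Spor.M23))) := Lib.Cores.pCore_isPGroup _
  have hRn : (pCore 2 ↥(centralizer ({w} : Set Spor.M23))).Normal := Lib.Cores.pCore_normal _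
  obtain ⟨n, hn⟩ := IsPGroup.iff_card.1 hRp
  have hn0 : n ≠ 0 := by
    rintro rfl
    rw [pow_zero] at hn
    exact hR (Subgroup.eq_bot_of_card_eq _ hn)
  obtain ⟨r, hr⟩ := exists_prime_orderOf_dvd_card' (G := pCore 2 ↥(centralizer ({w} : Set Spor.M23))) 2
    (by rw [hn]; exact dvd_pow_self 2 hn0)
  letI := act w
  have hX : Nat.card {q : GolayPt // (w : Equiv.Perm GolayPt) q = q ∧ q ≠ none} = 5 := by
    have h6 := fx_w w.2 hwo
    have h1 : ((Finset.univ.filter fun q => (w : Equiv.Perm GolayPt) q = q).erase none).card = 5 := by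
      have hm : (none : GolayPt) ∈ Finset.univ.filter fun q => (w : Equiv.Perm GolayPt) q = q :=
        Finset.mem_filter.2 ⟨Finset.mem_univ _, w.2.2⟩
      rw [Finset.card_erase_of_mem hm, h6]
    rw [← h1, Nat.card_eq_fintype_card, ← Fintype.card_coe]
    refine Fintype.card_congr (Equiv.subtypeEquivRight fun q => ?_)
    rw [Finset.mem_erase, Finset.mem_filter]
    exact ⟨fun h => ⟨h.2, Finset.mem_univ _, h.1⟩, fun h => ⟨h.2.2, h.1⟩⟩
  obtain ⟨β, hβ⟩ := hRp.nonempty_fixed_point_of_prime_not_dvd_card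
    {q : GolayPt // (w : Equiv.Perm GolayPt) q = q ∧ q ≠ none} (by rw [hX]; norm_num)
  have hβ' : ∀ r : pCore 2 ↥(centralizer ({w} : Set Spor.M23)),
      (((r : ↥(centralizer ({w} : Set Spor.M23))) : Spor.M23) : Equiv.Perm GolayPt) β.1 = β.1 := fun r =>
    congrArg Subtype.val (hβ r)
  have hyC : (⟨y, hyM⟩ : Spor.M23) ∈ centralizer ({w} : Set Spor.M23) := by
    rw [mem_centralizer_singleton_iff]
    exact Subtype.ext hyw
  -- `r` fixes all fixed points of `w`
  have hall : ∀ q, (w : Equiv.Perm GolayPt) q = q →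
      (((r : ↥(centralizer ({w} : Set Spor.M23))) : Spor.M23) : Equiv.Perm GolayPt) q = q := by
    intro q hq
    by_cases hqn : q = none
    · rw [hqn]
      exact ((r : ↥(centralizer ({w} : Set Spor.M23))) : Spor.M23).2.2
    · obtain ⟨i, hi⟩ := five_trans w.2 hwo hyM hy5 hyw β.2.1 β.2.2 hq hqn
      have h1 := hRn.conj_mem _ r.2 ((⟨⟨y, hyM⟩, hyC⟩ : ↥(centralizer ({w} : Set Spor.M23))) ^ i)⁻¹
      have h2 := hβ' ⟨_, h1⟩
      change ((y ^ i)⁻¹ * (((r : ↥(centralizer ({w} : Set Spor.M23))) : Spor.M23) : Equiv.Perm GolayPt) *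
        ((y ^ i)⁻¹)⁻¹) β.1 = β.1 at h2
      rw [inv_inv, Equiv.Perm.mul_apply, Equiv.Perm.mul_apply, hi] at h2
      have h3 := congrArg (y ^ i) h2
      rw [hi] at h3
      exact (Equiv.apply_symm_apply (y ^ i) _).symm.trans h3
  have hr2 : orderOf (((r : ↥(centralizer ({w} : Set Spor.M23))) : Spor.M23) : Equiv.Perm GolayPt) = 2 := by
    rw [Subgroup.orderOf_coe, Subgroup.orderOf_coe, Subgroup.orderOf_coe, hr]
  have hrM := ((r : ↥(centralizer ({w} : Set Spor.M23))) : Spor.M23).2
  have hrw : (w : Equiv.Perm GolayPt) * (((r : ↥(centralizer ({w} : Set Spor.M23))) : Spor.M23) : Equiv.Perm GolayPt) =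
      (((r : ↥(centralizer ({w} : Set Spor.M23))) : Spor.M23) : Equiv.Perm GolayPt) * (w : Equiv.Perm GolayPt) := by
    have h1 : ((r : ↥(centralizer ({w} : Set Spor.M23))) : Spor.M23) * w =
        w * ((r : ↥(centralizer ({w} : Set Spor.M23))) : Spor.M23) :=
      mem_centralizer_singleton_iff.1 (r : ↥(centralizer ({w} : Set Spor.M23))).2
    exact (congrArg (fun g : Spor.M23 => (g : Equiv.Perm GolayPt)) h1).symm
  generalize (((r : ↥(centralizer ({w} : Set Spor.M23))) : Spor.M23) : Equiv.Perm GolayPt) = t at *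
  have hmod := fix_mod (a := (w : Equiv.Perm GolayPt)) (b := t) Nat.prime_three
    (by rw [← hwo, pow_orderOf_eq_one]) hrw
  have h8 : (Finset.univ.filter fun q => t q = q).card = 8 := by
    obtain ⟨h, -, ⟨-, h8⟩ | ⟨-, h0⟩⟩ := invol_type hrM.1 hr2
    · exact h8
    · exfalso
      unfold fx at h0
      rw [Finset.card_eq_zero, Finset.filter_eq_empty_iff] at h0
      exact h0 (Finset.mem_univ none) hrM.2
  have h6 : (Finset.univ.filter fun q => t q = q ∧ (w : Equiv.Perm GolayPt) q = q).card = 6 := by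
    rw [← fx_w w.2 hwo]
    congr 1
    ext q
    simp only [Finset.mem_filter, Finset.mem_univ, true_and]
    exact ⟨fun h => h.2, fun h => ⟨hall q h, h⟩⟩
  rw [h8, h6] at hmod
  exact absurd hmod (by decide)

/-- centralizers under isomorphisms -/
noncomputable def centE {L K : Type*} [Group L] [Group K] (e : L ≃* K) (y : L) :
    ↥(centralizer ({y} : Set L)) ≃* ↥(centralizer ({e y} : Set K)) :=
  (e.subgroupMap (centralizer ({y} : Set L))).trans (MulEquiv.subgroupCongr (by
    ext g
    rw [mem_centralizer_singleton_iff]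
    constructor
    · rintro ⟨x, hx, rfl⟩
      have h1 : x * y = y * x := mem_centralizer_singleton_iff.1 hx
      show e x * e y = e y * e x
      rw [← map_mul, h1, map_mul]
    · intro h
      refine ⟨e.symm g, ?_, e.apply_symm_apply g⟩
      show e.symm g ∈ centralizer ({y} : Set L)
      rw [mem_centralizer_singleton_iff]
      apply e.injective
      rw [map_mul, map_mul, e.apply_symm_apply, h]))

theorem prime_cases {r : ℕ} (hr : r.Prime) (hd : r ∣ 10200960) : r = 2 ∨ r = 3 ∨ r = 5 ∨ r = 7 ∨ r = 11 ∨ r = 23 := by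
  have e : 10200960 = 2 ^ 7 * (3 ^ 2 * (5 * (7 * (11 * 23)))) := by norm_num
  rw [e] at hd
  have key : ∀ {q : ℕ}, q.Prime → r ∣ q → r = q := fun hq h => (Nat.prime_dvd_prime_iff_eq hr hq).1 h
  rcases hr.dvd_mul.1 hd with h | h
  · exact Or.inl (key (by norm_num) (hr.dvd_of_dvd_pow h))
  · rcases hr.dvd_mul.1 h with h | h
    · exact Or.inr (Or.inl (key (by norm_num) (hr.dvd_of_dvd_pow h)))
    · rcases hr.dvd_mul.1 h with h | h
      · exact Or.inr (Or.inr (Or.inl (key (by norm_num) h)))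
      · rcases hr.dvd_mul.1 h with h | h
        · exact Or.inr (Or.inr (Or.inr (Or.inl (key (by norm_num) h))))
        · rcases hr.dvd_mul.1 h with h | h
          · exact Or.inr (Or.inr (Or.inr (Or.inr (Or.inl (key (by norm_num) h)))))
          · exact Or.inr (Or.inr (Or.inr (Or.inr (Or.inr (key (by norm_num) h)))))

open Cfsg.Agent.H715.Fpr.MathData in
/-- **`M₂₃`** -/
theorem m23 {L : Type u} [Group L] [Finite L] (h : Cfsg.Spor.IsoM23 L) (B : Base L) : Row 2 L := by
  have hfin : Finite Spor.M23 :=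
    Nat.finite_of_card_ne_zero (by rw [Cfsg.Agent.SporadicA.MathieuRecog.card_M23]; norm_num)
  obtain ⟨e⟩ := h
  have hcard : Nat.card L = 10200960 := by
    rw [Nat.card_congr e.toEquiv]
    exact Cfsg.Agent.SporadicA.MathieuRecog.card_M23
  have hcc : ∀ w : L, Nat.card (centralizer ({w} : Set L)) =
      Nat.card (centralizer ((zpowers (e w) : Subgroup Spor.M23) : Set Spor.M23)) := fun w => by
    rw [Cfsg.Agent.H729.PairBase.centralizer_zpowers_eq]
    exact Nat.card_congr (centE e w).toEquiv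
  have hz : ∀ (w : L) (r : ℕ), orderOf w = r → Nat.card (zpowers (e w)) = r := fun w r hw => by
    rw [Nat.card_zpowers, MulEquiv.orderOf_eq, hw]
  have c3 : ∀ w : L, orderOf w = 3 → pCore 2 ↥(centralizer ({w} : Set L)) = ⊥ := fun w hw =>
    pCore_equiv (centE e w).symm (cent_three (e w) (by rw [MulEquiv.orderOf_eq, hw]))
  have c5 : ∀ w : L, orderOf w = 5 → pCore 2 ↥(centralizer ({w} : Set L)) = ⊥ := fun w hw =>
    Cfsg.Agent.H128.TwoMat.core_of_odd (by rw [hcc w, (cn23_5 (hz w 5 hw)).1]; decide)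
  have c7 : ∀ w : L, orderOf w = 7 → Nat.card (centralizer ({w} : Set L)) = 14 := fun w hw => by
    rw [hcc w, (cn23_7 (hz w 7 hw)).1]
  have c11 : ∀ w : L, orderOf w = 11 → pCore 2 ↥(centralizer ({w} : Set L)) = ⊥ := fun w hw =>
    Cfsg.Agent.H128.TwoMat.core_of_odd (by rw [hcc w, (cn23_11 (hz w 11 hw)).1]; decide)
  have c23 : ∀ w : L, orderOf w = 23 → pCore 2 ↥(centralizer ({w} : Set L)) = ⊥ := fun w hw =>
    Cfsg.Agent.H128.TwoMat.core_of_odd (by rw [hcc w, (cn23_23 (hz w 23 hw)).1]; decide)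
  have h23 : Fact (Nat.Prime 23) := ⟨by norm_num⟩
  obtain ⟨z, hz23⟩ := exists_prime_orderOf_dvd_card' (G := L) 23 (by rw [hcard]; norm_num)
  set Q : Subgroup L := (normalizer ((zpowers (e z) : Subgroup Spor.M23) : Set Spor.M23)).map e.symm.toMonoidHom with hQd
  have hQ : Nat.card Q = 253 := by
    rw [hQd, Subgroup.card_map_of_injective (f := e.symm.toMonoidHom) e.symm.injective]
    exact (cn23_23 (hz z 23 hz23)).2
  have hQo : Odd (Nat.card Q) := by rw [hQ]; decide
  refine Cfsg.Agent.H128.TwoMat.row_of_inner B ⟨Q, hQo, fun w hw hw2 => ?_⟩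
    (Cfsg.Agent.H128.TwoMat.inner_of Cfsg.Agent.S2063.result e) Q hQo fun x hxx hx hbad => ?_
  · rcases prime_cases hw (by rw [← hcard]; exact orderOf_dvd_natCard w) with h | h | h | h | h | h
    · exact absurd h hw2
    · exact Or.inl (c3 w h)
    · exact Or.inl (c5 w h)
    · right
      rw [c7 w h, hQ]
      norm_num
    · exact Or.inl (c11 w h)
    · exact Or.inl (c23 w h)
  · have hne : ∀ {w : L} {r : ℕ}, r ≠ 1 → orderOf w = r → w ≠ 1 := by
      rintro w r hr hw rfl
      rw [orderOf_one] at hw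
      exact hr hw.symm
    have key : ∀ {d : ℕ}, Nat.Prime d → d ∣ Nat.card (centralizer ({x} : Set L)) → d = 2 := by
      intro d hd hdv
      have hdf : Fact d.Prime := ⟨hd⟩
      have hdv' : d ∣ 10200960 := by
        rw [← hcard]
        exact hdv.trans (Subgroup.card_subgroup_dvd_card _)
      obtain ⟨w', hw'⟩ := exists_prime_orderOf_dvd_card' (G := centralizer ({x} : Set L)) d hdv
      obtain ⟨w, hwC, hw⟩ : ∃ w : L, w ∈ centralizer ({x} : Set L) ∧ orderOf w = d :=
        ⟨w', w'.2, by rw [Subgroup.orderOf_coe, hw']⟩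
      have h1 := hbad w hwC (hne hd.one_lt.ne' hw)
      rcases prime_cases hd hdv' with h | h | h | h | h | h
      · exact h
      · exact absurd (c3 w (by rw [hw, h])) h1
      · exact absurd (c5 w (by rw [hw, h])) h1
      · exfalso
        -- `x` has order at least 4, in a group of order 14
        have h2 := c7 w (by rw [hw, h])
        have hwx : w * x = x * w := mem_centralizer_singleton_iff.1 hwC
        have hxC : x ∈ centralizer ({w} : Set L) := mem_centralizer_singleton_iff.2 hwx.symm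
        have h3 : orderOf x ∣ 14 := by
          rw [← h2]
          have h4 : orderOf (⟨x, hxC⟩ : centralizer ({w} : Set L)) ∣ Nat.card (centralizer ({w} : Set L)) :=
            orderOf_dvd_natCard _
          rwa [← Subgroup.orderOf_coe] at h4
        obtain ⟨n, hn⟩ := hx
        obtain ⟨k, -, hk⟩ := (Nat.dvd_prime_pow Nat.prime_two).1 (orderOf_dvd_of_pow_eq_one hn)
        apply hxx
        rw [← pow_two]
        apply orderOf_dvd_iff_pow_eq_one.1
        rw [hk] at h3 ⊢
        have hk1 : k ≤ 1 := by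
          by_contra h4
          push Not at h4
          have h5 : 2 ^ 2 ∣ 14 := (pow_dvd_pow 2 h4).trans h3
          revert h5
          decide
        exact (pow_dvd_pow 2 hk1).trans (by norm_num)
      · exact absurd (c11 w (by rw [hw, h])) h1
      · exact absurd (c23 w (by rw [hw, h])) h1
    have h1 := Nat.eq_prime_pow_of_unique_prime_dvd (p := 2) Nat.card_pos.ne' key
    set m := (Nat.card (centralizer ({x} : Set L))).primeFactorsList.length with hm
    have h2 : 2 ^ m ∣ 10200960 := by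
      rw [← h1, ← hcard]
      exact Subgroup.card_subgroup_dvd_card _
    have hm7 : m ≤ 7 := by
      by_contra h3
      push Not at h3
      have h4 : 2 ^ 8 ∣ 10200960 := (pow_dvd_pow 2 h3).trans h2
      revert h4
      decide
    rw [h1, hQ]
    calc 2 ^ m ≤ 2 ^ 7 := Nat.pow_le_pow_right (by norm_num) hm7
      _ < 253 := by norm_num

end Cfsg.Agent.H128.TwoM23
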