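import Cfsg.Agent.H509.Weak
import Cfsg.Agent.H516.RowMathieu
import Cfsg.Agent.H180.KM11
import Cfsg.Agent.H686.Odd.J1
import Cfsg.Agent.H413.JOneSpec
import Cfsg.Agent.S2060
import Cfsg.Agent.S2063
import Cfsg.Agent.S2065

/-!
# S4095 at the prime 2: `M₁₁`, `M₂₃`, `J₁` (helper128, task 3086)
-/

set_option autoImplicit false
set_option linter.unusedSectionVars false

namespace Cfsg.Agent.H128.TwoMat

open Subgroup Cfsg Cfsg.Agent.H516 Cfsg.Agent.H509.Weak

universe u v

/-! ### general tools -/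

/-- a group of odd order has `O_2 = 1` -/
theorem core_of_odd {G : Type u} [Group G] [Finite G] (h : Odd (Nat.card G)) : pCore 2 G = ⊥ := by
  have hf2 : Fact (Nat.Prime 2) := ⟨Nat.prime_two⟩
  have h1 : IsPGroup 2 (pCore 2 G) := Lib.Cores.pCore_isPGroup (G := G) 2
  obtain ⟨n, hn⟩ := IsPGroup.iff_card.1 h1
  have h2 : Nat.card (pCore 2 G) ∣ Nat.card G := Subgroup.card_subgroup_dvd_card _
  rw [hn] at h2
  have h3 : n = 0 := by
    by_contra hne
    have h4 : 2 ∣ Nat.card G := (dvd_pow_self 2 hne).trans h2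
    exact (Nat.not_even_iff_odd.2 h) (even_iff_two_dvd.2 h4)
  rw [h3, pow_zero] at hn
  exact Subgroup.eq_bot_of_card_eq _ hn

/-- `O_2(H) ≠ 1`, `4 ∤ |H|`: a central involution -/
theorem exists_central {L : Type u} [Group L] [Finite L] {w : L}
    (h4 : ¬ 4 ∣ Nat.card (centralizer ({w} : Set L))) (hO : pCore 2 ↥(centralizer ({w} : Set L)) ≠ ⊥) :
    ∃ t : L, orderOf t = 2 ∧ ∀ g ∈ centralizer ({w} : Set L), g * t = t * g := by
  have hf2 : Fact (Nat.Prime 2) := ⟨Nat.prime_two⟩
  have h1 : IsPGroup 2 (pCore 2 ↥(centralizer ({w} : Set L))) := Lib.Cores.pCore_isPGroup _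
  obtain ⟨n, hn⟩ := IsPGroup.iff_card.1 h1
  have h2 : Nat.card (pCore 2 ↥(centralizer ({w} : Set L))) ∣ Nat.card ↥(centralizer ({w} : Set L)) :=
    Subgroup.card_subgroup_dvd_card _
  have hn1 : n = 1 := by
    have h3 : n ≠ 0 := by
      rintro rfl
      rw [pow_zero] at hn
      exact hO (Subgroup.eq_bot_of_card_eq _ hn)
    by_contra hne
    apply h4
    refine dvd_trans ?_ h2
    rw [hn]
    have : 4 = 2 ^ 2 := by norm_num
    rw [this]
    exact pow_dvd_pow 2 (by omega)
  rw [hn1, pow_one] at hn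
  obtain ⟨t, ht⟩ := exists_prime_orderOf_dvd_card' (G := pCore 2 ↥(centralizer ({w} : Set L))) 2 (by rw [hn])
  have ht2 : orderOf ((t : ↥(centralizer ({w} : Set L))) : L) = 2 := by
    rw [Subgroup.orderOf_coe, Subgroup.orderOf_coe, ht]
  refine ⟨((t : ↥(centralizer ({w} : Set L))) : L), ht2, fun g hg => ?_⟩
  have hnorm : (pCore 2 ↥(centralizer ({w} : Set L))).Normal := Lib.Cores.pCore_normal _
  have h5 := hnorm.conj_mem _ t.2 ⟨g, hg⟩
  -- an element of a group of order two different from 1
  set t' : pCore 2 ↥(centralizer ({w} : Set L)) := ⟨_, h5⟩ with ht'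
  have h6 : t' = t := by
    have hne : t' ≠ 1 := by
      intro h
      have h7 : (⟨g, hg⟩ : ↥(centralizer ({w} : Set L))) * t * (⟨g, hg⟩ : ↥(centralizer ({w} : Set L)))⁻¹ = 1 :=
        congrArg Subtype.val h
      rw [mul_inv_eq_one] at h7
      have h8 : (t : ↥(centralizer ({w} : Set L))) = 1 := mul_left_cancel (a := (⟨g, hg⟩ : ↥(centralizer ({w} : Set L))))
        (by rw [h7, mul_one])
      rw [h8] at ht2
      simp at ht2
    have hne' : t ≠ 1 := by
      rintro rfl
      rw [orderOf_one] at ht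
      omega
    exact ((Nat.card_eq_two_iff' (1 : pCore 2 ↥(centralizer ({w} : Set L)))).1 hn).unique hne hne'
  have h9 : (⟨g, hg⟩ : ↥(centralizer ({w} : Set L))) * t * (⟨g, hg⟩ : ↥(centralizer ({w} : Set L)))⁻¹ = t :=
    congrArg Subtype.val h6
  have h10 := congrArg Subtype.val h9
  change g * ((t : ↥(centralizer ({w} : Set L))) : L) * g⁻¹ = ((t : ↥(centralizer ({w} : Set L))) : L) at h10
  rwa [mul_inv_eq_iff_eq_mul] at h10

theorem fixed_conj {L : Type u} [Group L] (x : L) :
    fixedSubgroup (MulAut.conj x) = centralizer ({x} : Set L) := by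
  ext s
  rw [mem_centralizer_singleton_iff]
  constructor
  · intro hs
    have h2 : MulAut.conj x s = s := hs
    rw [MulAut.conj_apply, mul_inv_eq_iff_eq_mul] at h2
    exact h2.symm
  · intro hs
    show MulAut.conj x s = s
    rw [MulAut.conj_apply, ← hs, mul_inv_cancel_right]

theorem centralizer_pow_le {L : Type u} [Group L] (x : L) (k : ℕ) :
    centralizer ({x} : Set L) ≤ centralizer ({x ^ k} : Set L) := by
  intro y hy
  rw [mem_centralizer_singleton_iff] at hy ⊢
  exact ((show Commute y x from hy).pow_right k).eq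

/-- **A row with all automorphisms inner.** -/
theorem row_of_inner {L : Type u} [Group L] [Finite L] (B : Base L) (hA : FactA L)
    (hin : ∀ a : MulAut L, ∃ x : L, a = MulAut.conj x) (Q : Subgroup L) (hQ : Odd (Nat.card Q))
    (h : ∀ x : L, x * x ≠ 1 → (∃ n, x ^ 2 ^ n = 1) →
      (∀ w ∈ centralizer ({x} : Set L), w ≠ 1 → pCore 2 ↥(centralizer ({w} : Set L)) ≠ ⊥) →
      Nat.card (centralizer ({x} : Set L)) < Nat.card Q) : Row 2 L := by
  rw [row_iff]
  intro a ha
  by_contra hne
  have W : Wk a := { B with bad := ha, ne := hne }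
  obtain ⟨n, hn⟩ := W.two_of_factA hA
  obtain ⟨x, rfl⟩ := hin a
  have hinj := conj_injective W.center
  have hx : x ^ 2 ^ n = 1 := hinj (by rw [map_pow, hn, map_one])
  have hxx : x * x ≠ 1 := by
    intro hxx
    apply W.sq_ne_one
    rw [← map_mul, hxx, map_one]
  have h1 := W.card_le hQ
  rw [fixed_conj] at h1
  have h2 := h x hxx ⟨n, hx⟩ fun w hw hw1 hO => by
    refine W.false_of_fix hn hw1 ?_ hO
    rw [← fixed_conj] at hw
    exact hw
  omega

/-- transport of the inner automorphisms -/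
theorem inner_of {K : Type v} [Group K] (h : Nat.card (Cfsg.Out K) = 1) {L : Type u} [Group L] (e : L ≃* K)
    (a : MulAut L) : ∃ x : L, a = MulAut.conj x := by
  have h1 : Cfsg.Inn K = ⊤ := Subgroup.index_eq_one.1 h
  have h2 : ((e.symm.trans a).trans e : MulAut K) ∈ Cfsg.Inn K := by rw [h1]; exact mem_top _
  obtain ⟨g, hg⟩ := h2
  refine ⟨e.symm g, ?_⟩
  ext x
  have h3 : (MulAut.conj g : MulAut K) (e x) = ((e.symm.trans a).trans e : MulAut K) (e x) := by rw [hg]
  have h4 : e (a (e.symm (e x))) = g * e x * g⁻¹ := h3.symm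
  rw [MulEquiv.symm_apply_apply] at h4
  have h5 := congrArg e.symm h4
  rw [MulEquiv.symm_apply_apply, map_mul, map_mul, map_inv, MulEquiv.symm_apply_apply] at h5
  rw [h5, MulAut.conj_apply]

/-! ### `M₁₁` -/

theorem m11 {L : Type u} [Group L] [Finite L] (h : Cfsg.Spor.IsoM11 L) (B : Base L) : Row 2 L := by
  have hG := Cfsg.Agent.Cit.Eleven.isM11 h
  have hcard : Nat.card L = 7920 := hG.2
  obtain ⟨e⟩ := h
  have h3f : Fact (Nat.Prime 3) := ⟨Nat.prime_three⟩
  obtain ⟨Q, hQ⟩ := Sylow.exists_subgroup_card_pow_prime (G := L) 3 (n := 2) (by rw [hcard]; norm_num)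
  refine row_of_inner B ⟨⊥, by rw [Subgroup.card_bot]; exact odd_one, fun w hw hw2 => Or.inl ?_⟩
    (inner_of Cfsg.Agent.S2060.result e) Q (by rw [hQ]; decide) fun x hxx hx _ => ?_
  · have hd : orderOf w ∣ 7920 := by rw [← hcard]; exact orderOf_dvd_natCard w
    have h1 : orderOf w ∈ Nat.primeFactors 7920 := Nat.mem_primeFactors.2 ⟨hw, hd, by norm_num⟩
    have h2 : Nat.primeFactors 7920 ⊆ {2, 3, 5, 11} := by
      have e : 7920 = 2 ^ 4 * (3 ^ 2 * (5 * 11)) := by norm_num
      rw [e, Nat.primeFactors_mul (by norm_num) (by norm_num), Nat.primeFactors_mul (by norm_num) (by norm_num),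
        Nat.primeFactors_mul (by norm_num) (by norm_num), Nat.primeFactors_pow _ (by norm_num),
        Nat.primeFactors_pow _ (by norm_num), Nat.Prime.primeFactors (by norm_num), Nat.Prime.primeFactors (by norm_num),
        Nat.Prime.primeFactors (by norm_num), Nat.Prime.primeFactors (by norm_num)]
      decide
    have h3 := h2 h1
    simp only [Finset.mem_insert, Finset.mem_singleton] at h3
    rcases h3 with h3 | h3 | h3 | h3
    · exact absurd h3 hw2
    · have hc3 := SporadicA.M11Facts2.card_centralizer_three hG h3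
      by_contra hO
      obtain ⟨t, ht, htc⟩ := exists_central (by rw [hc3]; norm_num) hO
      have hc2 := SporadicA.M11Facts.card_centralizer_two hG ht
      have h4 : centralizer ({w} : Set L) ≤ centralizer ({t} : Set L) := fun g hg =>
        mem_centralizer_singleton_iff.2 (htc g hg)
      have h5 := Subgroup.card_dvd_of_le h4
      rw [hc2, hc3] at h5
      norm_num at h5
    · apply core_of_odd
      rw [SporadicA.M11Facts.card_centralizer_five hG h3]
      decide
    · apply core_of_odd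
      rw [SporadicA.M11Sylow.card_centralizer_eleven hG h3]
      decide
  · obtain ⟨n, hn⟩ := hx
    obtain ⟨k, -, hk⟩ := (Nat.dvd_prime_pow Nat.prime_two).1 (orderOf_dvd_of_pow_eq_one hn)
    have hk2 : 2 ≤ k := by
      by_contra hlt
      push Not at hlt
      apply hxx
      rw [← pow_two]
      apply orderOf_dvd_iff_pow_eq_one.1
      rw [hk]
      interval_cases k <;> norm_num
    have h4 : orderOf (x ^ 2 ^ (k - 2)) = 4 := by
      rw [orderOf_pow_of_dvd (by positivity) (by rw [hk]; exact pow_dvd_pow 2 (by omega)), hk,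
        Nat.pow_div (by omega) (by norm_num)]
      have : k - (k - 2) = 2 := by omega
      rw [this]
    have h5 := Cfsg.Agent.H180.KM11.card_four ⟨e⟩ h4
    have h6 := Subgroup.card_le_of_le (centralizer_pow_le x (2 ^ (k - 2)))
    rw [hQ]
    omega

/-! ### `J₁` -/

theorem j1 {L : Type u} [Group L] [Finite L] (h : Cfsg.Spor.IsoJ1 L) (B : Base L) : Row 2 L := by
  have hs := B.simple
  have hl := Cfsg.Agent.H686.Odd.J1.isLocal h
  have hcard : Nat.card L = 175560 := Cfsg.Agent.H686.Odd.J1.card h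
  obtain ⟨e⟩ := h
  have hord := fun g : L => Cfsg.Agent.H413.JOneSpec.orderOf_mem hl hcard g
  -- no commuting elements of orders 3, 5, 2
  have h30 : ∀ u v t : L, orderOf u = 3 → orderOf v = 5 → orderOf t = 2 → Commute u v → Commute u t → Commute v t →
      False := by
    intro u v t hu hv ht huv hut hvt
    have h1 : orderOf (u * v) = 15 := by
      rw [huv.orderOf_mul_eq_mul_orderOf_of_coprime (by rw [hu, hv]; norm_num), hu, hv]
    have h2 : orderOf (u * v * t) = 30 := by
      rw [(hut.mul_left hvt).orderOf_mul_eq_mul_orderOf_of_coprime (by rw [h1, ht]; norm_num), h1, ht]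
    have h3 := hord (u * v * t)
    rw [h2] at h3
    revert h3
    decide
  refine row_of_inner B ⟨⊥, by rw [Subgroup.card_bot]; exact odd_one, fun w hw hw2 => Or.inl ?_⟩
    (inner_of Cfsg.Agent.S2065.result e) ⊥ (by rw [Subgroup.card_bot]; exact odd_one) fun x hxx hx _ => ?_
  · have hd : orderOf w ∣ 175560 := by rw [← hcard]; exact orderOf_dvd_natCard w
    rcases Cfsg.Agent.H686.Odd.J1.prime_cases hw hd with h3 | h3 | h3 | h3
    · exact absurd h3 hw2
    · have hc3 := hl.cent3 w h3
      by_contra hO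
      obtain ⟨t, ht, htc⟩ := exists_central (by rw [hc3]; norm_num) hO
      have h5f : Fact (Nat.Prime 5) := ⟨Nat.prime_five⟩
      obtain ⟨v, hv⟩ := exists_prime_orderOf_dvd_card' (G := centralizer ({w} : Set L)) 5 (by rw [hc3]; norm_num)
      have hv' : orderOf (v : L) = 5 := by rw [Subgroup.orderOf_coe, hv]
      have hvw : (v : L) * w = w * v := mem_centralizer_singleton_iff.1 v.2
      exact h30 w v t h3 hv' ht hvw.symm (htc w (mem_centralizer_singleton_iff.2 rfl)) (htc v v.2)
    · have hc3 := hl.cent5 w h3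
      by_contra hO
      obtain ⟨t, ht, htc⟩ := exists_central (by rw [hc3]; norm_num) hO
      have h3f : Fact (Nat.Prime 3) := ⟨Nat.prime_three⟩
      obtain ⟨v, hv⟩ := exists_prime_orderOf_dvd_card' (G := centralizer ({w} : Set L)) 3 (by rw [hc3]; norm_num)
      have hv' : orderOf (v : L) = 3 := by rw [Subgroup.orderOf_coe, hv]
      have hvw : (v : L) * w = w * v := mem_centralizer_singleton_iff.1 v.2
      exact h30 v w t hv' h3 ht hvw (htc v v.2) (htc w (mem_centralizer_singleton_iff.2 rfl))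
    · apply core_of_odd
      have h4 := Cfsg.Agent.H686.Odd.J1.cent_big_le hl hcard h3
      refine Odd.of_dvd_nat ?_ h4
      rcases h3 with h3 | h3 | h3 <;> rw [h3] <;> decide
  · exfalso
    obtain ⟨n, hn⟩ := hx
    obtain ⟨k, -, hk⟩ := (Nat.dvd_prime_pow Nat.prime_two).1 (orderOf_dvd_of_pow_eq_one hn)
    apply hxx
    rw [← pow_two]
    apply orderOf_dvd_iff_pow_eq_one.1
    have h3 := hord x
    rw [hk] at h3 ⊢
    rcases Nat.lt_or_ge k 2 with h4 | h4
    · interval_cases k <;> norm_num
    · exfalso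
      obtain ⟨j, rfl⟩ : ∃ j, k = j + 2 := ⟨k - 2, by omega⟩
      have h5 : 4 ∣ 2 ^ (j + 2) := by
        rw [pow_add]; exact dvd_mul_left _ _
      generalize 2 ^ (j + 2) = m at *
      simp only [Finset.mem_insert, Finset.mem_singleton] at h3
      omega

end Cfsg.Agent.H128.TwoMat
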