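import Cfsg.Agent.H128.Cross3

/-!
# Lower bounds for the 3-part of the orders of the classical groups in cross characteristic (helper128)

`vf n` is the exponent of 3 in `n!`. For the classical groups over fields of `q` elements, `3 ∤ q`:
* `psl_val_one`: `q ≡ 1 (3)`: `3 ^ (n - 2 + vf n) ∣ |PSL_n(q)|`, and `3 ^ (n - 1 + vf n)` if `3 ∤ n` (`psl_val_one'`);
* `psl_val_two`: `q ≡ 2 (3)`: `3 ^ (n / 2 + vf (n / 2)) ∣ |PSL_n(q)|`;
* `psu_val_two`, `psu_val_two'`, `psu_val_one`: the same for `PSU_n(q)` with the two cases exchanged;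
* `psp_val`, `oodd_val`: `3 ^ (m + vf m)`; `oplus_val`, `ominus_val`: `3 ^ (m - 1 + vf (m - 1))`.
Together with `ClassicalAb.hasAb_*` (an abelian 3-subgroup `B` with `|G|_3 ∣ |B| * N!`) this leaves few groups.
`Hyp.le_of`: `3 ^ k ∣ |G|` and all abelian 3-subgroups of order at most `3 ^ c` give `3 ^ (k - c) ∣ N!`.
-/

set_option autoImplicit false

namespace Cfsg.Agent.H128.Val3

open Cfsg AbelianClassical ClassicalAb H341.ThreeList Cross3

/-- from `HasAb` to the factorial -/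
theorem dvd_factorial {G : Type*} [Group G] [Finite G] {k c N : ℕ} (hk : 3 ^ k ∣ Nat.card G)
    (hab : ∀ A : Subgroup G, IsPGroup 3 A → (∀ a ∈ A, ∀ b ∈ A, a * b = b * a) → Nat.card A ≤ 3 ^ c)
    (hN : HasAb 3 G N) : 3 ^ (k - c) ∣ N.factorial := by
  have : Fact (Nat.Prime 3) := ⟨Nat.prime_three⟩
  obtain ⟨B, hB, hc, hd⟩ := hN
  have h1 := hab B hB hc
  obtain ⟨b, hb⟩ := IsPGroup.iff_card.1 hB
  rw [hb] at h1
  have h2 : b ≤ c := (Nat.pow_le_pow_iff_right (by norm_num)).1 h1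
  obtain ⟨S⟩ : Nonempty (Sylow 3 G) := inferInstance
  have h3 : 3 ^ k ∣ Nat.card S := S.pow_dvd_card_of_pow_dvd_card hk
  have h4 := h3.trans (hd S)
  rcases Nat.lt_or_ge k b with h5 | h5
  · rw [show k - c = 0 by omega, pow_zero]
    exact one_dvd _
  · rw [hb, show k = b + (k - b) by omega, pow_add] at h4
    have h5 := Nat.dvd_of_mul_dvd_mul_left (by positivity) h4
    exact (pow_dvd_pow 3 (by omega)).trans h5

/-- the exponent of 3 in `n!` -/
def vf (n : ℕ) : ℕ := n.factorial.factorization 3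

theorem vf_succ (n : ℕ) : vf (n + 1) = (n + 1).factorization 3 + vf n := by
  rw [vf, vf, Nat.factorial_succ, Nat.factorization_mul (by omega) (Nat.factorial_pos n).ne', Finsupp.add_apply]

theorem nat_dvd' {t : ℕ} (ht : 1 ≤ t) (h : 3 ∣ t - 1) {i : ℕ} (_hi : i ≠ 0) : 3 ^ (i.factorization 3 + 1) ∣ t ^ i - 1 := by
  have h1 := nat_dvd ht h (i.factorization 3) (i / 3 ^ i.factorization 3)
  rwa [Nat.mul_div_cancel' (Nat.ordProj_dvd i 3)] at h1

theorem prod_lower {t : ℕ} (ht : 1 ≤ t) (h : 3 ∣ t - 1) (m : ℕ) :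
    3 ^ (m + vf m) ∣ ∏ i ∈ Finset.range m, (t ^ (i + 1) - 1) := by
  induction m with
  | zero => simp [vf]
  | succ m ih =>
    rw [Finset.prod_range_succ, vf_succ,
      show m + 1 + ((m + 1).factorization 3 + vf m) = (m + vf m) + ((m + 1).factorization 3 + 1) by ring, pow_add]
    exact mul_dvd_mul ih (nat_dvd' ht h (by omega))

theorem prod_b' {q : ℕ} (hq : ¬ 3 ∣ q) (m : ℕ) :
    3 ^ (m + vf m) ∣ ∏ i ∈ Finset.range m, (q ^ (2 * (i + 1)) - 1) := by
  have hq1 : 1 ≤ q := by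
    by_contra h
    exact hq (by simp [show q = 0 by omega])
  have h1 := prod_lower (t := q ^ 2) (Nat.one_le_pow _ _ hq1) (three_sq hq) m
  simpa only [← pow_mul] using h1

theorem prod_a' {q : ℕ} (hq : q % 3 = 1) (n : ℕ) :
    3 ^ (n + vf (n + 2)) ∣ ∏ j ∈ Finset.range n, (q ^ (j + 1 + 2) - 1) := by
  induction n with
  | zero =>
    have : vf 2 = 0 := by
      rw [vf]
      exact Nat.factorization_eq_zero_of_not_dvd (by decide)
    simp [this]
  | succ n ih =>
    rw [Finset.prod_range_succ, show n + 1 + 2 = (n + 2) + 1 by ring, vf_succ,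
      show n + 1 + ((n + 2 + 1).factorization 3 + vf (n + 2)) =
        (n + vf (n + 2)) + ((n + 2 + 1).factorization 3 + 1) by ring, pow_add]
    exact mul_dvd_mul ih (nat_dvd' (by omega) (by omega) (by omega))

theorem nat_dvd_neg' {q : ℕ} (hq : q % 3 = 2) {i : ℕ} (_hi : i ≠ 0) :
    3 ^ (i.factorization 3 + 1) ∣ (if Even i then q ^ i - 1 else q ^ i + 1) := by
  have h1 := nat_dvd_neg hq (i.factorization 3) (i / 3 ^ i.factorization 3)
  rwa [Nat.mul_div_cancel' (Nat.ordProj_dvd i 3)] at h1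

theorem even_add_two (i : ℕ) : Even (i + 2) ↔ Even i := by
  rw [Nat.even_add]
  simp

theorem prod_u' {q : ℕ} (hq : q % 3 = 2) (n : ℕ) :
    3 ^ (n + vf (n + 2)) ∣ ∏ j ∈ Finset.range n, (if Even (j + 1) then q ^ (j + 1 + 2) - 1 else q ^ (j + 1 + 2) + 1) := by
  induction n with
  | zero =>
    have : vf 2 = 0 := by
      rw [vf]
      exact Nat.factorization_eq_zero_of_not_dvd (by decide)
    simp [this]
  | succ n ih =>
    rw [Finset.prod_range_succ, show n + 1 + 2 = (n + 2) + 1 by ring, vf_succ,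
      show n + 1 + ((n + 2 + 1).factorization 3 + vf (n + 2)) =
        (n + vf (n + 2)) + ((n + 2 + 1).factorization 3 + 1) by ring, pow_add]
    refine mul_dvd_mul ih ?_
    have h1 := nat_dvd_neg' hq (i := n + 2 + 1) (by omega)
    have h2 : Even (n + 2 + 1) ↔ Even (n + 1) := even_add_two (n + 1)
    simp only [h2] at h1
    exact h1

variable {F : Type} [Field F] [Fintype F]

/-! ### linear groups -/

theorem psl_val_one {n : ℕ} (hn : 2 ≤ n) (hq : Fintype.card F % 3 = 1) :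
    3 ^ (n - 2 + vf n) ∣ Nat.card (Matrix.ProjectiveSpecialLinearGroup (Fin n) F) := by
  have hc := card_psl (F := F) hn
  set q := Fintype.card F with hqd
  have hg : Nat.gcd n (q - 1) ∣ q ^ 2 - 1 := (Nat.gcd_dvd_right _ _).trans (by
    have := Nat.sub_dvd_pow_sub_pow q 1 2
    simpa using this)
  have hpos : 0 < Nat.gcd n (q - 1) := Nat.gcd_pos_of_pos_left _ (by omega)
  have h1 : Nat.gcd n (q - 1) * 3 ^ (n - 2 + vf n) ∣ Nat.gcd n (q - 1) *
      Nat.card (Matrix.ProjectiveSpecialLinearGroup (Fin n) F) := by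
    rw [hc]
    apply Dvd.dvd.mul_left
    obtain ⟨m, rfl⟩ := Nat.exists_eq_add_of_le' hn
    rw [show m + 2 - 1 = m + 1 by omega, Finset.prod_range_succ', mul_comm]
    exact mul_dvd_mul (prod_a' hq m) hg
  exact Nat.dvd_of_mul_dvd_mul_left hpos h1

theorem psl_val_one' {n : ℕ} (hn : 2 ≤ n) (hq : Fintype.card F % 3 = 1) (h3 : ¬ 3 ∣ n) :
    3 ^ (n - 1 + vf n) ∣ Nat.card (Matrix.ProjectiveSpecialLinearGroup (Fin n) F) := by
  have hc := card_psl (F := F) hn
  set q := Fintype.card F with hqd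
  have hg : ¬ 3 ∣ Nat.gcd n (q - 1) := fun h' => h3 (h'.trans (Nat.gcd_dvd_left _ _))
  refine of_mul' hg hc (Dvd.dvd.mul_left ?_ _)
  obtain ⟨m, rfl⟩ := Nat.exists_eq_add_of_le' hn
  rw [show m + 2 - 1 = m + 1 by omega, Finset.prod_range_succ', show m + 1 + vf (m + 2) = (m + vf (m + 2)) + 1 by ring,
    pow_succ]
  refine mul_dvd_mul (prod_a' hq m) (three_sq (by omega))

theorem range_dvd {f : ℕ → ℕ} {k n : ℕ} (h : 2 * k ≤ n) :
    ∏ i ∈ Finset.range k, f (2 * i) ∣ ∏ j ∈ Finset.range (n - 1), f j := by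
  have h1 : ∏ i ∈ Finset.range k, f (2 * i) = ∏ j ∈ (Finset.range k).image (fun i => 2 * i), f j := by
    rw [Finset.prod_image (fun a _ b _ hab => by
      have : 2 * a = 2 * b := hab
      omega)]
  rw [h1]
  apply Finset.prod_dvd_prod_of_subset
  intro j hj
  rw [Finset.mem_image] at hj
  obtain ⟨i, hi, rfl⟩ := hj
  rw [Finset.mem_range] at hi ⊢
  omega

theorem psl_val_two {n : ℕ} (hn : 2 ≤ n) (hq : Fintype.card F % 3 = 2) :
    3 ^ (n / 2 + vf (n / 2)) ∣ Nat.card (Matrix.ProjectiveSpecialLinearGroup (Fin n) F) := by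
  have hc := card_psl (F := F) hn
  set q := Fintype.card F with hqd
  have hg : ¬ 3 ∣ Nat.gcd n (q - 1) := by
    intro h'
    have := h'.trans (Nat.gcd_dvd_right _ _)
    omega
  refine of_mul' hg hc (Dvd.dvd.mul_left ((prod_b' (q := q) (by omega) (n / 2)).trans ?_) _)
  have h1 := range_dvd (f := fun j => q ^ (j + 2) - 1) (k := n / 2) (n := n) (by omega)
  refine dvd_trans (dvd_of_eq ?_) h1
  exact Finset.prod_congr rfl fun i _ => by rw [show 2 * i + 2 = 2 * (i + 1) by ring]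

/-! ### unitary groups -/

theorem psu_val_one {n q : ℕ} (hF : Fintype.card F = q ^ 2) (hn : 2 ≤ n) (hq : q % 3 = 1) :
    3 ^ (n / 2 + vf (n / 2)) ∣ Nat.card (PSU n F q) := by
  have hc := card_psu (F := F) hF hn
  have hg : ¬ 3 ∣ Nat.gcd n (q + 1) := by
    intro h'
    have := h'.trans (Nat.gcd_dvd_right _ _)
    omega
  refine of_mul' hg hc (Dvd.dvd.mul_left ((prod_b' (q := q) (by omega) (n / 2)).trans ?_) _)
  have h1 := range_dvd (f := fun j => if Even j then q ^ (j + 2) - 1 else q ^ (j + 2) + 1) (k := n / 2) (n := n)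
    (by omega)
  refine dvd_trans (dvd_of_eq ?_) h1
  exact Finset.prod_congr rfl fun i _ => by
    rw [if_pos (even_two_mul i), show 2 * i + 2 = 2 * (i + 1) by ring]

theorem psu_val_two {n q : ℕ} (hF : Fintype.card F = q ^ 2) (hn : 2 ≤ n) (hq : q % 3 = 2) :
    3 ^ (n - 2 + vf n) ∣ Nat.card (PSU n F q) := by
  have hc := card_psu (F := F) hF hn
  have hg : Nat.gcd n (q + 1) ∣ q ^ 2 - 1 := (Nat.gcd_dvd_right _ _).trans (by
    have := Nat.sq_sub_sq q 1
    rw [one_pow] at this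
    rw [this]
    exact Dvd.intro _ rfl)
  have hpos : 0 < Nat.gcd n (q + 1) := Nat.gcd_pos_of_pos_left _ (by omega)
  have h1 : Nat.gcd n (q + 1) * 3 ^ (n - 2 + vf n) ∣ Nat.gcd n (q + 1) * Nat.card (PSU n F q) := by
    rw [hc]
    apply Dvd.dvd.mul_left
    obtain ⟨m, rfl⟩ := Nat.exists_eq_add_of_le' hn
    rw [show m + 2 - 1 = m + 1 by omega, Finset.prod_range_succ', mul_comm]
    exact mul_dvd_mul (prod_u' hq m) hg
  exact Nat.dvd_of_mul_dvd_mul_left hpos h1

theorem psu_val_two' {n q : ℕ} (hF : Fintype.card F = q ^ 2) (hn : 2 ≤ n) (hq : q % 3 = 2) (h3 : ¬ 3 ∣ n) :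
    3 ^ (n - 1 + vf n) ∣ Nat.card (PSU n F q) := by
  have hc := card_psu (F := F) hF hn
  have hg : ¬ 3 ∣ Nat.gcd n (q + 1) := fun h' => h3 (h'.trans (Nat.gcd_dvd_left _ _))
  refine of_mul' hg hc (Dvd.dvd.mul_left ?_ _)
  obtain ⟨m, rfl⟩ := Nat.exists_eq_add_of_le' hn
  rw [show m + 2 - 1 = m + 1 by omega, Finset.prod_range_succ', show m + 1 + vf (m + 2) = (m + vf (m + 2)) + 1 by ring,
    pow_succ]
  refine mul_dvd_mul (prod_u' hq m) ?_
  simp only [Even.zero, if_true, zero_add]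
  exact three_sq (by omega)

/-! ### symplectic and orthogonal groups -/

theorem psp_val {m : ℕ} (hm : 1 ≤ m) (hq : ¬ 3 ∣ Fintype.card F) : 3 ^ (m + vf m) ∣ Nat.card (PSp m F) :=
  of_mul' not_dvd_gcd_two (card_psp hm) (Dvd.dvd.mul_left (prod_b' hq m) _)

theorem oodd_val {m : ℕ} (hm : 3 ≤ m) (ho : Odd (Fintype.card F)) (hq : ¬ 3 ∣ Fintype.card F) :
    3 ^ (m + vf m) ∣ Nat.card (POmega F (quadFormOdd m F)) :=
  of_mul' (by norm_num) (S0292.result (F := F) rfl ho m hm) (Dvd.dvd.mul_left (prod_b' hq m) _)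

theorem oplus_val {m : ℕ} (hm : 4 ≤ m) (hq : ¬ 3 ∣ Fintype.card F) :
    3 ^ (m - 1 + vf (m - 1)) ∣ Nat.card (POmega F (quadFormPlus m F)) :=
  of_mul' not_dvd_gcd_four (S0293.result (F := F) rfl m hm) (Dvd.dvd.mul_left (prod_b' hq _) _)

theorem ominus_val {m : ℕ} (hm : 4 ≤ m) {a b : F}
    (hab : ∀ z₁ z₂ : F, z₁ ^ 2 + a * z₁ * z₂ + b * z₂ ^ 2 = 0 → z₁ = 0 ∧ z₂ = 0) (hq : ¬ 3 ∣ Fintype.card F) :
    3 ^ (m - 1 + vf (m - 1)) ∣ Nat.card (POmega F (quadFormMinus (m - 1) F a b)) :=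
  of_mul' not_dvd_gcd_four (S0294.result (F := F) rfl m hm a b hab) (Dvd.dvd.mul_left (prod_b' hq _) _)

end Cfsg.Agent.H128.Val3
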