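import Mathlib
import Cfsg.Agent.Lib.NormalAbelian

/-!
# Weights of an abelian normal subgroup of a linear `p`-group in cross characteristic (helper128)

`P` a finite `p`-group with a faithful representation `ρ` on a space `V` of finite dimension over an algebraically
closed field of characteristic different from `p`. If `A` is a self-centralizing abelian normal subgroup of `P` then
`P / A` acts faithfully on the set of the weights of `A`, so `|P : A|` divides `(dim V)!` (`index_dvd`); if `p` is odd
and the set of the weights is closed under inversion, then it divides `(dim V / 2)!` (`index_dvd_half`).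
-/

set_option autoImplicit false

namespace Cfsg.Agent.H128.Weights

open Module

section

variable {K : Type*} [Field K] {V : Type*} [AddCommGroup V] [Module K V]
  {P : Type*} [Group P] (ρ : P →* Module.End K V) (A : Subgroup P)

/-- the weight space -/
def W (χ : A → K) : Submodule K V := ⨅ a : A, (ρ a).eigenspace (χ a)

theorem mem_W {χ : A → K} {v : V} : v ∈ W ρ A χ ↔ ∀ a : A, ρ a v = χ a • v := by
  simp only [W, Submodule.mem_iInf, Module.End.mem_eigenspace_iff]

variable {ρ A}

theorem eigen_eq [Finite P] (hP : (Nat.card P : K) ≠ 0) (x : P) (c : K) :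
    (ρ x).maxGenEigenspace c = (ρ x).eigenspace c := by
  have h1 : (ρ x).IsSemisimple := by
    have hsq : Squarefree ((Polynomial.X ^ Nat.card P - 1 : Polynomial K)) := by
      have hsep : (Polynomial.X ^ Nat.card P - Polynomial.C (1 : K)).Separable :=
        Polynomial.separable_X_pow_sub_C 1 hP one_ne_zero
      rw [Polynomial.C_1] at hsep
      exact hsep.squarefree
    apply Module.End.isSemisimple_of_squarefree_aeval_eq_zero hsq
    rw [map_sub, map_pow, Polynomial.aeval_X, map_one, ← map_pow, pow_card_eq_one', map_one, sub_self]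
  exact h1.isFinitelySemisimple.maxGenEigenspace_eq_eigenspace c

theorem W_eq [Finite P] (hP : (Nat.card P : K) ≠ 0) (χ : A → K) :
    W ρ A χ = ⨅ a : A, (ρ (a : P)).maxGenEigenspace (χ a) := by
  simp only [W, eigen_eq hP]

theorem commute_rho (hA : ∀ a ∈ A, ∀ b ∈ A, a * b = b * a) (a b : A) : Commute (ρ (a : P)) (ρ (b : P)) := by
  rw [commute_iff_eq, ← map_mul, ← map_mul, hA a a.2 b b.2]

theorem indep [Finite P] (hP : (Nat.card P : K) ≠ 0) (hA : ∀ a ∈ A, ∀ b ∈ A, a * b = b * a) :
    iSupIndep (W ρ A) := by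
  have h := Module.End.independent_iInf_maxGenEigenspace_of_forall_mapsTo (fun a : A => ρ (a : P)) (fun i j φ =>
    Module.End.mapsTo_maxGenEigenspace_of_comm (commute_rho hA j i) φ)
  convert h using 2 with χ
  exact W_eq hP χ

theorem iSup_W [Finite P] [IsAlgClosed K] [FiniteDimensional K V] (hP : (Nat.card P : K) ≠ 0)
    (hA : ∀ a ∈ A, ∀ b ∈ A, a * b = b * a) : ⨆ χ, W ρ A χ = ⊤ := by
  have h := Module.End.iSup_iInf_maxGenEigenspace_eq_top_of_iSup_maxGenEigenspace_eq_top_of_commute
    (fun a : A => ρ (a : P)) (fun i j _ => commute_rho hA i j) (fun i =>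
      Module.End.iSup_maxGenEigenspace_eq_top (ρ (i : P)))
  rw [← h]
  exact iSup_congr fun χ => W_eq hP χ

/-- the set of weights -/
def wts (ρ : P →* Module.End K V) (A : Subgroup P) : Set (A → K) := {χ | W ρ A χ ≠ ⊥}

theorem wts_finite [Finite P] [FiniteDimensional K V] (hP : (Nat.card P : K) ≠ 0)
    (hA : ∀ a ∈ A, ∀ b ∈ A, a * b = b * a) : (wts ρ A).Finite :=
  WellFoundedGT.finite_ne_bot_of_iSupIndep (indep hP hA)

theorem card_wts_le [Finite P] [FiniteDimensional K V] (hP : (Nat.card P : K) ≠ 0)
    (hA : ∀ a ∈ A, ∀ b ∈ A, a * b = b * a) : Nat.card (wts ρ A) ≤ Module.finrank K V := by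
  have hf := wts_finite (ρ := ρ) hP hA
  have := hf.fintype
  haveI : Fintype { i // W ρ A i ≠ ⊥ } := this
  have h := (indep (ρ := ρ) hP hA).subtype_ne_bot_le_finrank
  rw [Nat.card_eq_fintype_card]
  convert h

/-- a weight is a homomorphism -/
theorem wts_mul {χ : A → K} (h : χ ∈ wts ρ A) (a b : A) : χ (a * b) = χ a * χ b := by
  obtain ⟨v, hv, hv0⟩ := (Submodule.ne_bot_iff _).1 h
  rw [mem_W] at hv
  have h1 := hv (a * b)
  rw [Subgroup.coe_mul, map_mul, Module.End.mul_apply, hv b, map_smul, hv a, smul_smul] at h1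
  have h2 := smul_left_injective K hv0 h1
  rw [mul_comm, h2]

theorem wts_one {χ : A → K} (h : χ ∈ wts ρ A) : χ 1 = 1 := by
  obtain ⟨v, hv, hv0⟩ := (Submodule.ne_bot_iff _).1 h
  rw [mem_W] at hv
  have h1 := hv 1
  rw [Subgroup.coe_one, map_one, Module.End.one_apply] at h1
  have h2 : (1 : K) • v = χ 1 • v := by rw [one_smul]; exact h1
  exact (smul_left_injective K hv0 h2).symm

theorem wts_pow {χ : A → K} (h : χ ∈ wts ρ A) (a : A) (n : ℕ) : χ (a ^ n) = χ a ^ n := by
  induction n with
  | zero => rw [pow_zero, pow_zero, wts_one h]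
  | succ n ih => rw [pow_succ, pow_succ, wts_mul h, ih]

/-- conjugation -/
def cact [A.Normal] (x : P) (χ : A → K) : A → K := fun a =>
  χ ⟨x⁻¹ * a * x, by
    have := ‹A.Normal›.conj_mem a.1 a.2 x⁻¹
    rwa [inv_inv] at this⟩

theorem map_mem [A.Normal] (x : P) {χ : A → K} {v : V} (hv : v ∈ W ρ A χ) : ρ x v ∈ W ρ A (cact x χ) := by
  rw [mem_W] at hv ⊢
  intro a
  have h1 := hv ⟨x⁻¹ * a * x, by
    have := ‹A.Normal›.conj_mem a.1 a.2 x⁻¹
    rwa [inv_inv] at this⟩
  change ρ (x⁻¹ * a * x) v = cact x χ a • v at h1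
  rw [← map_smul, ← h1, ← Module.End.mul_apply, ← Module.End.mul_apply, ← map_mul, ← map_mul]
  congr 2
  group

theorem rho_ne_zero (x : P) {v : V} (hv : v ≠ 0) : ρ x v ≠ 0 := by
  intro h
  apply hv
  have h1 : ρ x⁻¹ (ρ x v) = v := by
    rw [← Module.End.mul_apply, ← map_mul, inv_mul_cancel, map_one, Module.End.one_apply]
  rw [← h1, h, map_zero]

theorem cact_mem [A.Normal] (x : P) {χ : A → K} (h : χ ∈ wts ρ A) : cact x χ ∈ wts ρ A := by
  obtain ⟨v, hv, hv0⟩ := (Submodule.ne_bot_iff _).1 h
  exact (Submodule.ne_bot_iff _).2 ⟨ρ x v, map_mem x hv, rho_ne_zero x hv0⟩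

theorem cact_one [A.Normal] (χ : A → K) : cact (1 : P) χ = χ := by
  funext a
  simp only [cact, inv_one, one_mul, mul_one]

theorem cact_mul [A.Normal] (x y : P) (χ : A → K) : cact (x * y) χ = cact x (cact y χ) := by
  funext a
  simp only [cact]
  congr 2
  group

/-- the action on the weights -/
noncomputable def wact (ρ : P →* Module.End K V) (A : Subgroup P) [A.Normal] : MulAction P (wts ρ A) where
  smul x χ := ⟨cact x χ.1, cact_mem x χ.2⟩
  one_smul χ := Subtype.ext (cact_one χ.1)
  mul_smul x y χ := Subtype.ext (cact_mul x y χ.1)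

/-- only elements centralizing `A` fix all weights -/
theorem comm_of_fix [A.Normal] [Finite P] [IsAlgClosed K] [FiniteDimensional K V] (hP : (Nat.card P : K) ≠ 0)
    (hA : ∀ a ∈ A, ∀ b ∈ A, a * b = b * a) (hρ : Function.Injective ρ) {x : P}
    (hx : ∀ χ ∈ wts ρ A, cact x χ = χ) (a : A) : x * a = a * x := by
  have hmem : x⁻¹ * a * x ∈ A := by
    have := ‹A.Normal›.conj_mem a.1 a.2 x⁻¹
    rwa [inv_inv] at this
  have key : ρ (x⁻¹ * a * x) = ρ a := by
    have hle : (⊤ : Submodule K V) ≤ LinearMap.eqLocus (ρ (x⁻¹ * a * x)) (ρ a) := by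
      rw [← iSup_W (ρ := ρ) hP hA]
      apply iSup_le
      intro χ v hv
      by_cases h0 : W ρ A χ = ⊥
      · rw [h0, Submodule.mem_bot] at hv
        rw [hv]
        exact Submodule.zero_mem _
      · rw [LinearMap.mem_eqLocus]
        rw [mem_W] at hv
        have h1 := hv ⟨x⁻¹ * a * x, hmem⟩
        have h2 := congrFun (hx χ h0) a
        simp only [cact] at h2
        rw [h2] at h1
        exact h1.trans (hv a).symm
    exact LinearMap.ext fun v => hle (Submodule.mem_top : v ∈ ⊤)
  have h3 := hρ key
  calc x * a = x * (x⁻¹ * a * x) := by rw [h3]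
    _ = a * x := by group

end

section Perm

/-- a group acting on a finite set, `N` the kernel: the index of `N` divides `|X|!` -/
theorem index_dvd_of_action {P : Type*} [Group P] {X : Type*} [Finite X] [MulAction P X] {N : Subgroup P}
    (h : ∀ g : P, (∀ x : X, g • x = x) → g ∈ N) (hN : ∀ g ∈ N, ∀ x : X, g • x = x) :
    N.index ∣ (Nat.card X).factorial := by
  classical
  have := Fintype.ofFinite X
  have hk : (MulAction.toPermHom P X).ker = N := by
    ext g
    rw [MonoidHom.mem_ker]
    constructor
    · intro hg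
      exact h g fun x => by
        have := DFunLike.congr_fun hg x
        exact this
    · intro hg
      ext x
      exact hN g hg x
  have h1 : N.index = Nat.card (MulAction.toPermHom P X).range := by
    rw [← hk]
    exact Subgroup.index_ker _
  rw [h1, Nat.card_eq_fintype_card (α := X), ← Fintype.card_perm, ← Nat.card_eq_fintype_card]
  exact Subgroup.card_subgroup_dvd_card _

end Perm

section Main

variable {K : Type*} [Field K] {V : Type*} [AddCommGroup V] [Module K V]
  {P : Type*} [Group P] {ρ : P →* Module.End K V} {A : Subgroup P}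

theorem index_dvd [Finite P] [IsAlgClosed K] [FiniteDimensional K V] (hP : (Nat.card P : K) ≠ 0)
    (hρ : Function.Injective ρ) (hn : A.Normal) (hA : ∀ a ∈ A, ∀ b ∈ A, a * b = b * a)
    (hC : ∀ x : P, (∀ a ∈ A, x * a = a * x) → x ∈ A) : A.index ∣ (Module.finrank K V).factorial := by
  letI := wact ρ A
  haveI : Finite (wts ρ A) := (wts_finite hP hA).to_subtype
  refine (index_dvd_of_action (X := wts ρ A) (N := A) ?_ ?_).trans (Nat.factorial_dvd_factorial (card_wts_le hP hA))
  · intro g hg
    refine hC g fun a ha => ?_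
    exact comm_of_fix hP hA hρ (fun χ hχ => congrArg Subtype.val (hg ⟨χ, hχ⟩)) ⟨a, ha⟩
  · intro g hg χ
    apply Subtype.ext
    change cact g χ.1 = χ.1
    funext a
    refine congrArg χ.1 (Subtype.ext ?_)
    change g⁻¹ * a * g = a
    rw [mul_assoc, hA a a.2 g hg, ← mul_assoc, inv_mul_cancel, one_mul]

end Main

section Half

/-- A group of odd order acting on a finite set and commuting with a fixed-point-free involution: the index of the
kernel divides `(|X| / 2)!`. -/
theorem index_dvd_of_tau {P : Type*} [Group P] [Finite P] (hodd : Odd (Nat.card P)) {X : Type*} [Finite X]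
    [MulAction P X] {N : Subgroup P} (h : ∀ g : P, (∀ x : X, g • x = x) → g ∈ N) (hN : ∀ g ∈ N, ∀ x : X, g • x = x)
    (τ : X → X) (h2 : ∀ x, τ (τ x) = x) (h1 : ∀ x, τ x ≠ x) (hc : ∀ (g : P) (x : X), τ (g • x) = g • τ x) :
    N.index ∣ (Nat.card X / 2).factorial := by
  classical
  have := Fintype.ofFinite X
  -- the pairs
  let r : Setoid X :=
    { r := fun x y => y = x ∨ y = τ x
      iseqv :=
        { refl := fun x => Or.inl rfl
          symm := by
            rintro x y (rfl | rfl)
            · exact Or.inl rfl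
            · exact Or.inr (h2 x).symm
          trans := by
            rintro x y z (rfl | rfl) (rfl | rfl)
            · exact Or.inl rfl
            · exact Or.inr rfl
            · exact Or.inr rfl
            · exact Or.inl (h2 x) } }
  have hr : ∀ x y : X, (Quotient.mk r x = Quotient.mk r y) ↔ (y = x ∨ y = τ x) := fun x y => Quotient.eq (r := r)
  let act : MulAction P (Quotient r) :=
    { smul := fun g => Quotient.map (fun x => g • x) (by
        rintro x y (rfl | rfl)
        · exact Or.inl rfl
        · exact Or.inr (hc g x).symm)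
      one_smul := by
        intro y
        induction y using Quotient.inductionOn with
        | h x =>
          change Quotient.mk r ((1 : P) • x) = Quotient.mk r x
          rw [one_smul]
      mul_smul := by
        intro g k y
        induction y using Quotient.inductionOn with
        | h x =>
          change Quotient.mk r ((g * k) • x) = Quotient.mk r (g • k • x)
          rw [mul_smul] }
  have hact : ∀ (g : P) (x : X), g • (Quotient.mk r x) = Quotient.mk r (g • x) := fun g x => rfl
  have hcard : Nat.card (Quotient r) ≤ Nat.card X / 2 := by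
    rw [Nat.le_div_iff_mul_le (by norm_num), Nat.card_eq_fintype_card, Nat.card_eq_fintype_card]
    have h3 := Finset.card_nsmul_le_sum (Finset.univ : Finset (Quotient r))
      (fun y => ((Finset.univ : Finset X).filter fun x => Quotient.mk r x = y).card) 2 (by
        intro y _
        induction y using Quotient.inductionOn with
        | h x =>
          have h4 : ({x, τ x} : Finset X) ⊆ (Finset.univ : Finset X).filter fun z => Quotient.mk r z = Quotient.mk r x := by
            intro z hz
            rw [Finset.mem_insert, Finset.mem_singleton] at hz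
            rw [Finset.mem_filter]
            refine ⟨Finset.mem_univ _, ?_⟩
            rw [hr]
            rcases hz with rfl | rfl
            · exact Or.inl rfl
            · exact Or.inr (h2 x).symm
          calc 2 = ({x, τ x} : Finset X).card := (Finset.card_pair (h1 x).symm).symm
            _ ≤ _ := Finset.card_le_card h4)
    have h5 := Finset.card_eq_sum_card_fiberwise (f := fun x : X => Quotient.mk r x) (s := Finset.univ)
      (t := Finset.univ) (fun x _ => Finset.mem_univ _)
    rw [← h5, smul_eq_mul, Finset.card_univ, Finset.card_univ] at h3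
    exact h3
  refine (index_dvd_of_action (X := Quotient r) (N := N) ?_ ?_).trans (Nat.factorial_dvd_factorial hcard)
  · intro g hg
    apply h g
    intro x
    have h3 := hg (Quotient.mk r x)
    rw [hact, hr] at h3
    rcases h3 with h3 | h3
    · exact h3.symm
    · exfalso
      -- `g ^ 2` fixes `x`, and `g` is a power of `g ^ 2`
      have h4 : (g ^ 2) • x = x := by
        rw [pow_two, mul_smul]
        have h5 : g • x = τ x := by
          have := congrArg τ h3
          rw [h2] at this
          exact this.symm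
        rw [h5, ← hc, h5, h2]
      have h6 : g • x = x := by
        have h7 : g = (g ^ 2) ^ ((Nat.card P + 1) / 2) := by
          rw [← pow_mul, Nat.mul_div_cancel' (by rcases hodd with ⟨k, hk⟩; omega), pow_succ, pow_card_eq_one',
            one_mul]
        have h8 : g ^ 2 ∈ MulAction.stabilizer P x := h4
        have h9 := Subgroup.pow_mem _ h8 ((Nat.card P + 1) / 2)
        rw [← h7] at h9
        exact h9
      rw [h6] at h3
      exact h1 x h3.symm
  · intro g hg y
    induction y using Quotient.inductionOn with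
    | h x => rw [hact, hN g hg x]

variable {K : Type*} [Field K] {V : Type*} [AddCommGroup V] [Module K V]
  {P : Type*} [Group P] {ρ : P →* Module.End K V} {A : Subgroup P}

/-- the values of a weight are roots of unity -/
theorem wts_pow_card [Finite P] {χ : A → K} (h : χ ∈ wts ρ A) (a : A) : χ a ^ Nat.card P = 1 := by
  rw [← wts_pow h]
  have h1 : a ^ Nat.card P = 1 := by
    apply Subtype.ext
    rw [Subgroup.coe_pow, pow_card_eq_one', Subgroup.coe_one]
  rw [h1, wts_one h]

theorem wts_ne_zero [Finite P] {χ : A → K} (h : χ ∈ wts ρ A) (a : A) : χ a ≠ 0 := by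
  intro h0
  have h1 := wts_pow_card h a
  rw [h0, zero_pow Nat.card_pos.ne'] at h1
  exact zero_ne_one h1

/-- from the closure under `χ ↦ χ ^ m` with `m ≡ -1 mod p` to the closure under inversion -/
theorem inv_mem {p : ℕ} [Fact p.Prime] (hp2 : p ≠ 2) (hPp : IsPGroup p P) [Finite P] {m : ℤ}
    (hm : (p : ℤ) ∣ m + 1) (hcl : ∀ χ ∈ wts ρ A, (fun a => χ a ^ m) ∈ wts ρ A) {χ : A → K} (h : χ ∈ wts ρ A) :
    (fun a => (χ a)⁻¹) ∈ wts ρ A := by
  obtain ⟨b, hb⟩ := IsPGroup.iff_card.1 hPp
  have hit : ∀ k : ℕ, (fun a => χ a ^ (m ^ k)) ∈ wts ρ A := by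
    intro k
    induction k with
    | zero => simpa using h
    | succ k ih =>
      have h1 := hcl _ ih
      convert h1 using 2 with a
      rw [pow_succ, zpow_mul]
  have h1 := hit (p ^ b)
  convert h1 using 2 with a
  -- `m ^ (p ^ b) ≡ -1 mod p ^ b`
  have hodd : Odd (p ^ b) := ((Fact.out : p.Prime).odd_of_ne_two hp2).pow
  have h2 : ((p : ℤ) ^ (b + 1)) ∣ m ^ (p ^ b) - (-1) ^ (p ^ b) := by
    apply dvd_sub_pow_of_dvd_sub
    rw [sub_neg_eq_add]
    exact hm
  rw [hodd.neg_one_pow, sub_neg_eq_add] at h2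
  have h3 : (Nat.card P : ℤ) ∣ m ^ (p ^ b) + 1 := by
    refine dvd_trans ?_ h2
    rw [hb, pow_succ]
    push_cast
    exact Dvd.intro _ rfl
  obtain ⟨c, hc⟩ := h3
  have h4 : m ^ (p ^ b) = (Nat.card P : ℤ) * c - 1 := by linarith
  rw [h4, zpow_sub₀ (wts_ne_zero h a), zpow_mul, zpow_natCast, wts_pow_card h, one_zpow, zpow_one, one_div]

theorem index_dvd_half {p : ℕ} [Fact p.Prime] (hp2 : p ≠ 2) (hPp : IsPGroup p P)
    [Finite P] [IsAlgClosed K] [FiniteDimensional K V] (hpK : (p : K) ≠ 0)
    (hρ : Function.Injective ρ) (hn : A.Normal) (hA : ∀ a ∈ A, ∀ b ∈ A, a * b = b * a)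
    (hC : ∀ x : P, (∀ a ∈ A, x * a = a * x) → x ∈ A) {m : ℤ} (hm : (p : ℤ) ∣ m + 1)
    (hcl : ∀ χ ∈ wts ρ A, (fun a => χ a ^ m) ∈ wts ρ A) : A.index ∣ (Module.finrank K V / 2).factorial := by
  obtain ⟨b, hb⟩ := IsPGroup.iff_card.1 hPp
  have hP : (Nat.card P : K) ≠ 0 := by
    rw [hb]
    push_cast
    exact pow_ne_zero _ hpK
  have hoddP : Odd (Nat.card P) := by
    rw [hb]
    exact ((Fact.out : p.Prime).odd_of_ne_two hp2).pow
  let act := wact ρ A
  have hfin : Finite (wts ρ A) := (wts_finite hP hA).to_subtype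
  let X := {χ : wts ρ A // ∃ a, χ.1 a ≠ 1}
  let actX : MulAction P X :=
    { smul := fun g χ => ⟨g • χ.1, by
        obtain ⟨a, ha⟩ := χ.2
        have hmem : g * a * g⁻¹ ∈ A := hn.conj_mem a.1 a.2 g
        refine ⟨⟨g * a * g⁻¹, hmem⟩, ?_⟩
        change χ.1.1 ⟨g⁻¹ * (g * a * g⁻¹) * g, _⟩ ≠ 1
        have : (⟨g⁻¹ * (g * a * g⁻¹) * g, by
            have := hn.conj_mem _ hmem g⁻¹
            rwa [inv_inv] at this⟩ : A) = a := Subtype.ext (by group)
        rw [this]
        exact ha⟩
      one_smul := fun χ => Subtype.ext (one_smul P χ.1)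
      mul_smul := fun g k χ => Subtype.ext (mul_smul g k χ.1) }
  have hactX : ∀ (g : P) (χ : X), (g • χ : X).1 = g • χ.1 := fun g χ => rfl
  let τ : X → X := fun χ => ⟨⟨fun a => (χ.1.1 a)⁻¹, inv_mem hp2 hPp hm hcl χ.1.2⟩, by
    obtain ⟨a, ha⟩ := χ.2
    exact ⟨a, fun h => ha (inv_eq_one.1 h)⟩⟩
  have hX : Finite X := inferInstance
  have hcard : Nat.card X ≤ Module.finrank K V :=
    (Nat.card_le_card_of_injective (fun χ : X => χ.1) Subtype.val_injective).trans (card_wts_le hP hA)
  refine (index_dvd_of_tau hoddP (X := X) (N := A) ?_ ?_ τ ?_ ?_ ?_).trans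
    (Nat.factorial_dvd_factorial (Nat.div_le_div_right hcard))
  · intro g hg
    refine hC g fun a ha => ?_
    refine comm_of_fix hP hA hρ (fun χ hχ => ?_) ⟨a, ha⟩
    by_cases h1 : ∃ a, χ a ≠ 1
    · exact congrArg Subtype.val (congrArg Subtype.val (hg ⟨⟨χ, hχ⟩, h1⟩))
    · rw [not_exists] at h1
      simp only [not_not] at h1
      funext b
      simp only [cact, h1]
  · intro g hg χ
    apply Subtype.ext
    rw [hactX]
    apply Subtype.ext
    change cact g χ.1.1 = χ.1.1
    funext a
    refine congrArg χ.1.1 (Subtype.ext ?_)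
    change g⁻¹ * a * g = a
    rw [mul_assoc, hA a a.2 g hg, ← mul_assoc, inv_mul_cancel, one_mul]
  · intro χ
    apply Subtype.ext
    apply Subtype.ext
    funext a
    exact inv_inv _
  · intro χ h
    obtain ⟨a, ha⟩ := χ.2
    have h1 : (χ.1.1 a)⁻¹ = χ.1.1 a := congrFun (congrArg Subtype.val (congrArg Subtype.val h)) a
    have h2 : χ.1.1 a ^ 2 = 1 := by
      rw [pow_two]
      nth_rw 1 [← h1]
      exact inv_mul_cancel₀ (wts_ne_zero χ.1.2 a)
    have h3 := wts_pow_card χ.1.2 a
    apply ha
    obtain ⟨k, hk⟩ := hoddP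
    rw [hk, pow_succ, pow_mul, h2, one_pow, one_mul] at h3
    exact h3
  · intro g χ
    rfl

end Half

end Cfsg.Agent.H128.Weights
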