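import Cfsg.Agent.H128.ClassicalAb
import Cfsg.Agent.LieClassical.QuadCount
import Cfsg.Agent.ClassicalGeometry.OrthSemiForms

/-!
# Weights, with a fixed vector (helper128)

If the `p`-group `P` fixes a nonzero vector then `|P : A|` divides `((dim V - 1) / 2)!` (with the hypotheses of
`Weights.index_dvd_half`). Application: `hasAb_ominus'`: if `3 ∤ q ^ (m + 1) + 1`, then `PΩ⁻_{2m+2}(q)` has an abelian
`3`-subgroup `B` with `|G|_3` dividing `|B| * m!` (any odd prime).
-/

set_option autoImplicit false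

namespace Cfsg.Agent.H128.WeightsFix

open Cfsg Module Weights AbelianClassical ClassicalAb
open scoped Matrix

section

variable {K : Type*} [Field K] {V : Type*} [AddCommGroup V] [Module K V]
  {P : Type*} [Group P] {ρ : P →* Module.End K V} {A : Subgroup P}

theorem index_dvd_half_fix {p : ℕ} [Fact p.Prime] (hp2 : p ≠ 2) (hPp : IsPGroup p P)
    [Finite P] [IsAlgClosed K] [FiniteDimensional K V] (hpK : (p : K) ≠ 0)
    (hρ : Function.Injective ρ) (hn : A.Normal) (hA : ∀ a ∈ A, ∀ b ∈ A, a * b = b * a)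
    (hC : ∀ x : P, (∀ a ∈ A, x * a = a * x) → x ∈ A) {m : ℤ} (hm : (p : ℤ) ∣ m + 1)
    (hcl : ∀ χ ∈ wts ρ A, (fun a => χ a ^ m) ∈ wts ρ A) {v : V} (hv0 : v ≠ 0) (hv : ∀ a : P, ρ a v = v) :
    A.index ∣ ((Module.finrank K V - 1) / 2).factorial := by
  obtain ⟨b, hb⟩ := IsPGroup.iff_card.1 hPp
  have hP : (Nat.card P : K) ≠ 0 := by
    rw [hb]
    push_cast
    exact pow_ne_zero _ hpK
  have hoddP : Odd (Nat.card P) := by
    rw [hb]
    exact ((Fact.out : p.Prime).odd_of_ne_two hp2).pow
  let act := wact ρ A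
  have hfin : Finite (wts ρ A) := (wts_finite hP hA).to_subtype
  let X := {χ : wts ρ A // ∃ a, χ.1 a ≠ 1}
  let actX : MulAction P X :=
    { smul := fun g χ => ⟨g • χ.1, by
        obtain ⟨a, ha⟩ := χ.2
        have hmem : g * a * g⁻¹ ∈ A := hn.conj_mem a.1 a.2 g
        refine ⟨⟨g * a * g⁻¹, hmem⟩, ?_⟩
        change χ.1.1 ⟨g⁻¹ * (g * a * g⁻¹) * g, _⟩ ≠ 1
        have : (⟨g⁻¹ * (g * a * g⁻¹) * g, by
            have := hn.conj_mem _ hmem g⁻¹
            rwa [inv_inv] at this⟩ : A) = a := Subtype.ext (by group)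
        rw [this]
        exact ha⟩
      one_smul := fun χ => Subtype.ext (one_smul P χ.1)
      mul_smul := fun g k χ => Subtype.ext (mul_smul g k χ.1) }
  have hactX : ∀ (g : P) (χ : X), (g • χ : X).1 = g • χ.1 := fun g χ => rfl
  let τ : X → X := fun χ => ⟨⟨fun a => (χ.1.1 a)⁻¹, inv_mem hp2 hPp hm hcl χ.1.2⟩, by
    obtain ⟨a, ha⟩ := χ.2
    exact ⟨a, fun h => ha (inv_eq_one.1 h)⟩⟩
  have hX : Finite X := inferInstance
  have hone : (fun _ => (1 : K)) ∈ wts ρ A := by
    refine (Submodule.ne_bot_iff _).2 ⟨v, ?_, hv0⟩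
    rw [mem_W]
    intro a
    rw [one_smul]
    exact hv a
  have hcard : Nat.card X ≤ Module.finrank K V - 1 := by
    have h1 := card_wts_le (ρ := ρ) hP hA
    -- `X` together with the trivial weight
    have h2 : Nat.card (Option X) ≤ Nat.card (wts ρ A) := by
      refine Nat.card_le_card_of_injective (fun o => o.elim ⟨_, hone⟩ (fun χ => χ.1)) ?_
      rintro (_ | χ) (_ | ψ) h
      · rfl
      · exfalso
        obtain ⟨a, ha⟩ := ψ.2
        have h3 : (⟨_, hone⟩ : wts ρ A) = ψ.1 := h
        rw [← h3] at ha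
        exact ha rfl
      · exfalso
        obtain ⟨a, ha⟩ := χ.2
        have h3 : χ.1 = (⟨_, hone⟩ : wts ρ A) := h
        rw [h3] at ha
        exact ha rfl
      · have h3 : χ.1 = ψ.1 := h
        exact congrArg some (Subtype.ext h3)
    rw [Finite.card_option] at h2
    omega
  refine (index_dvd_of_tau hoddP (X := X) (N := A) ?_ ?_ τ ?_ ?_ ?_).trans
    (Nat.factorial_dvd_factorial (Nat.div_le_div_right hcard))
  · intro g hg
    refine hC g fun a ha => ?_
    refine comm_of_fix hP hA hρ (fun χ hχ => ?_) ⟨a, ha⟩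
    by_cases h1 : ∃ a, χ a ≠ 1
    · exact congrArg Subtype.val (congrArg Subtype.val (hg ⟨⟨χ, hχ⟩, h1⟩))
    · rw [not_exists] at h1
      simp only [not_not] at h1
      funext b
      simp only [cact, h1]
  · intro g hg χ
    apply Subtype.ext
    rw [hactX]
    apply Subtype.ext
    change cact g χ.1.1 = χ.1.1
    funext a
    refine congrArg χ.1.1 (Subtype.ext ?_)
    change g⁻¹ * a * g = a
    rw [mul_assoc, hA a a.2 g hg, ← mul_assoc, inv_mul_cancel, one_mul]
  · intro χ
    apply Subtype.ext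
    apply Subtype.ext
    funext a
    exact inv_inv _
  · intro χ h
    obtain ⟨a, ha⟩ := χ.2
    have h1 : (χ.1.1 a)⁻¹ = χ.1.1 a := congrFun (congrArg Subtype.val (congrArg Subtype.val h)) a
    have h2 : χ.1.1 a ^ 2 = 1 := by
      rw [pow_two]
      nth_rw 1 [← h1]
      exact inv_mul_cancel₀ (wts_ne_zero χ.1.2 a)
    have h3 := wts_pow_card χ.1.2 a
    apply ha
    obtain ⟨k, hk⟩ := hoddP
    rw [hk, pow_succ, pow_mul, h2, one_pow, one_mul] at h3
    exact h3
  · intro g χ
    rfl

end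

section Transfer

variable {K : Type*} [Field K] {V : Type*} [AddCommGroup V] [Module K V]
  {Γ : Type*} [Group Γ] [Finite Γ] {G : Type*} [Group G]

theorem HasAb.of_rep_half_fix {p : ℕ} [hp : Fact p.Prime] (hp2 : p ≠ 2) [IsAlgClosed K] [FiniteDimensional K V]
    (hpK : (p : K) ≠ 0) (ρ : Γ →* Module.End K V) (hρ : Function.Injective ρ) (f : Γ →* G)
    (hf : Function.Surjective f) {m : ℤ} (hm : (p : ℤ) ∣ m + 1)
    (hcl : ∀ (P : Sylow p Γ) (A : Subgroup P), (∀ a ∈ A, ∀ b ∈ A, a * b = b * a) →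
      ∀ χ ∈ wts (ρ.comp (P : Subgroup Γ).subtype) A, (fun a => χ a ^ m) ∈ wts (ρ.comp (P : Subgroup Γ).subtype) A)
    (hfix : ∀ P : Sylow p Γ, ∃ v : V, v ≠ 0 ∧ ∀ x ∈ P, ρ x v = v)
    {N : ℕ} (hN : (Module.finrank K V - 1) / 2 = N) : HasAb p G N := by
  obtain ⟨P⟩ : Nonempty (Sylow p Γ) := inferInstance
  have hPp : IsPGroup p P := P.isPGroup'
  have : Group.IsNilpotent P := hPp.isNilpotent
  obtain ⟨A, hn, hAc, hAC⟩ := Lib.NormalAbelian.exists_normal_abelian_selfCentralizing (G := P)
  have hA : ∀ a ∈ A, ∀ b ∈ A, a * b = b * a := fun a ha b hb => by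
    have := hAc.is_comm.comm ⟨a, ha⟩ ⟨b, hb⟩
    exact congrArg Subtype.val this
  refine HasAb.of_surj f hf P A hA ?_
  rw [← hN]
  obtain ⟨v, hv0, hv⟩ := hfix P
  refine index_dvd_half_fix (ρ := ρ.comp (P : Subgroup Γ).subtype) hp2 hPp hpK (hρ.comp Subtype.val_injective) hn hA ?_ hm
    (hcl P A hA) hv0 (fun a => hv a a.2)
  intro x hx
  rw [← hAC, Subgroup.mem_centralizer_iff]
  intro a ha
  exact (hx a ha).symm

end Transfer

section Mat

variable {F : Type} [Field F] {ι : Type} [Fintype ι] [DecidableEq ι]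
  {Γ : Type*} [Group Γ] {μ : Γ →* Matrix ι ι F} {G : Type*} [Group G] [Finite Γ]

/-- groups preserving a bilinear form, with a fixed vector -/
theorem hasAb_form_fix {p : ℕ} [Fact p.Prime] (hp2 : p ≠ 2) (hp : (p : F) ≠ 0) (hμ : Function.Injective μ) (f : Γ →* G)
    (hf : Function.Surjective f) (J : Matrix ι ι F) (hJ : IsUnit J.det) (hJi : ∀ x, (μ x).transpose * J * μ x = J)
    (hfix : ∀ P : Sylow p Γ, ∃ v : ι → F, v ≠ 0 ∧ ∀ x ∈ P, μ x *ᵥ v = v)
    {N : ℕ} (hN : (Fintype.card ι - 1) / 2 = N) : HasAb p G N := by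
  refine HasAb.of_rep_half_fix hp2 (cast_ne_zero hp) (rep μ) (rep_injective μ hμ) f hf (m := -((1 : ℕ) : ℤ)) (by simp) ?_
    ?_ (by rw [Module.finrank_fintype_fun_eq_card, hN])
  · intro P A hA χ hχ
    set J' := J.map (algebraMap F (AlgebraicClosure F)) with hJ'
    have hdet : IsUnit J'.det := by
      have h1 : J'.det = algebraMap F (AlgebraicClosure F) J.det := by
        rw [RingHom.map_det]
        rfl
      rw [h1]
      exact hJ.map _
    let B : (ι → AlgebraicClosure F) → ((ι → AlgebraicClosure F) →ₗ[AlgebraicClosure F] AlgebraicClosure F) := fun w =>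
      { toFun := fun v => v ⬝ᵥ (J' *ᵥ w)
        map_add' := fun v v' => add_dotProduct _ _ _
        map_smul' := fun c v => smul_dotProduct _ _ _ }
    refine closed_of_form (card_ne hp P.isPGroup') hA B 1 ?_ ?_ ?_ hχ
    · intro c w v
      change v ⬝ᵥ (J' *ᵥ (c • w)) = c ^ 1 * (v ⬝ᵥ (J' *ᵥ w))
      rw [Matrix.mulVec_smul, dotProduct_smul, pow_one, smul_eq_mul]
    · intro x w v
      change (rep μ x v) ⬝ᵥ (J' *ᵥ (rep μ x w)) = v ⬝ᵥ (J' *ᵥ w)
      rw [rep_apply, rep_apply]
      set M := (μ x).map (algebraMap F (AlgebraicClosure F)) with hM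
      have h1 : M.transpose * J' * M = J' := by
        have h2 := congrArg (fun X : Matrix ι ι F => X.map (algebraMap F (AlgebraicClosure F))) (hJi x)
        simp only [Matrix.map_mul] at h2
        rw [hM, hJ', ← Matrix.transpose_map]
        exact h2
      rw [Matrix.mulVec_mulVec, ← Matrix.vecMul_transpose, ← Matrix.dotProduct_mulVec, Matrix.mulVec_mulVec,
        ← mul_assoc, h1]
    · intro w hw h0
      apply hw
      have h1 : J' *ᵥ w = 0 := by
        funext i
        have h2 := LinearMap.congr_fun h0 (Pi.single i 1)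
        change (Pi.single i 1 : ι → AlgebraicClosure F) ⬝ᵥ (J' *ᵥ w) = 0 at h2
        rw [single_dotProduct, one_mul] at h2
        exact h2
      have h3 := Matrix.mulVec_injective_iff_isUnit.2 ((Matrix.isUnit_iff_isUnit_det J').2 hdet)
      apply h3
      rw [h1, Matrix.mulVec_zero]
  · intro P
    obtain ⟨v, hv0, hv⟩ := hfix P
    refine ⟨fun i => algebraMap F (AlgebraicClosure F) (v i), ?_, ?_⟩
    · intro h
      apply hv0
      funext i
      exact (algebraMap F (AlgebraicClosure F)).injective ((congrFun h i).trans (map_zero _).symm)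
    · intro x hx
      rw [rep_apply]
      have h1 := hv x hx
      funext i
      have h2 := congrFun h1 i
      rw [Matrix.mulVec, dotProduct] at h2 ⊢
      rw [← h2, map_sum]
      exact Finset.sum_congr rfl fun j _ => by rw [map_mul, Matrix.map_apply]

end Mat

/-! ### orthogonal groups of minus type -/

section Minus

variable {F : Type} [Field F] [Fintype F]

/-- the number of vectors of norm one of the anisotropic binary form -/
theorem card_norm_one (a b : F) (hab : ∀ z₁ z₂ : F, z₁ ^ 2 + a * z₁ * z₂ + b * z₂ ^ 2 = 0 → z₁ = 0 ∧ z₂ = 0) :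
    Nat.card {w : Fin 2 → F // (w 0 ^ 2 + a * w 0 * w 1 + b * w 1 ^ 2) - 1 = 0} = Fintype.card F + 1 := by
  classical
  set Nm : (Fin 2 → F) → F := fun w => w 0 ^ 2 + a * w 0 * w 1 + b * w 1 ^ 2 with hNm
  -- multiplication
  let mu : (Fin 2 → F) → (Fin 2 → F) → (Fin 2 → F) := fun z w =>
    ![z 0 * w 0 - b * z 1 * w 1, z 0 * w 1 + z 1 * w 0 + a * z 1 * w 1]
  have hmu : ∀ z w, Nm (mu z w) = Nm z * Nm w := by
    intro z w
    simp only [hNm, mu, Matrix.cons_val_zero, Matrix.cons_val_one]
    ring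
  have hinj : ∀ z, z ≠ 0 → Function.Injective (mu z) := by
    intro z hz w w' h
    have h1 : Nm (mu z (w - w')) = 0 := by
      have e : mu z (w - w') = 0 := by
        have h0 := congrFun h 0
        have h1 := congrFun h 1
        simp only [mu, Matrix.cons_val_zero, Matrix.cons_val_one] at h0 h1
        funext i
        fin_cases i
        · simp only [mu, Pi.sub_apply]
          change z 0 * (w 0 - w' 0) - b * z 1 * (w 1 - w' 1) = 0
          linear_combination h0
        · simp only [mu, Pi.sub_apply]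
          change z 0 * (w 1 - w' 1) + z 1 * (w 0 - w' 0) + a * z 1 * (w 1 - w' 1) = 0
          linear_combination h1
      rw [e]
      simp [hNm]
    rw [hmu] at h1
    rcases mul_eq_zero.1 h1 with h2 | h2
    · exfalso
      apply hz
      obtain ⟨e0, e1⟩ := hab _ _ h2
      funext i
      fin_cases i
      · exact e0
      · exact e1
    · obtain ⟨e0, e1⟩ := hab _ _ h2
      funext i
      fin_cases i
      · exact sub_eq_zero.1 e0
      · exact sub_eq_zero.1 e1
  have hne : ∀ z, z ≠ 0 → Nm z ≠ 0 := by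
    intro z hz h
    apply hz
    obtain ⟨e0, e1⟩ := hab _ _ h
    funext i
    fin_cases i
    · exact e0
    · exact e1
  -- multiplication by `z` is bijective
  have hbij : ∀ z, z ≠ 0 → Function.Bijective (mu z) := fun z hz => Finite.injective_iff_bijective.1 (hinj z hz)
  -- count the nonzero vectors: every nonzero `z` is counted by its norm; fibres over norm classes have equal size
  set A := (Finset.univ.filter fun w : Fin 2 → F => Nm w = 1) with hA
  have hAcard : Nat.card {w : Fin 2 → F // (w 0 ^ 2 + a * w 0 * w 1 + b * w 1 ^ 2) - 1 = 0} = A.card := by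
    rw [Nat.card_eq_fintype_card, Fintype.card_subtype, hA]
    congr 1
    ext w
    simp only [Finset.mem_filter, Finset.mem_univ, true_and, hNm, sub_eq_zero]
  rw [hAcard]
  -- the fibres
  have hfib : ∀ c : F, (∃ z, Nm z = c) → c ≠ 0 → (Finset.univ.filter fun w : Fin 2 → F => Nm w = c).card = A.card := by
    rintro c ⟨z, hz⟩ hc
    have hz0 : z ≠ 0 := by
      rintro rfl
      apply hc
      rw [← hz]
      simp [hNm]
    symm
    apply Finset.card_bij (fun w _ => mu z w)
    · intro w hw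
      rw [hA, Finset.mem_filter] at hw
      rw [Finset.mem_filter, hmu, hw.2, mul_one]
      exact ⟨Finset.mem_univ _, hz⟩
    · intro w _ w' _ h
      exact hinj z hz0 h
    · intro w hw
      rw [Finset.mem_filter] at hw
      obtain ⟨w', rfl⟩ := (hbij z hz0).2 w
      refine ⟨w', ?_, rfl⟩
      rw [hA, Finset.mem_filter]
      refine ⟨Finset.mem_univ _, ?_⟩
      have h1 := hw.2
      rw [hmu, hz] at h1
      exact mul_left_cancel₀ hc (h1.trans (mul_one c).symm)
  -- the norm is onto: the values form a subgroup containing the squares and not contained in the squares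
  have hsurj : ∀ c : F, c ≠ 0 → ∃ z, Nm z = c := by
    intro c _
    obtain ⟨l₁, l₂, hl⟩ := ClassicalGeometry.OrthSemiForms.exists_binary_eq a b hab c
    exact ⟨![l₁, l₂], hl⟩
  have htot : (Finset.univ : Finset (Fin 2 → F)).card = ∑ c : F, (Finset.univ.filter fun w : Fin 2 → F => Nm w = c).card := by
    exact Finset.card_eq_sum_card_fiberwise (fun w _ => Finset.mem_univ _)
  have hzero : (Finset.univ.filter fun w : Fin 2 → F => Nm w = 0).card = 1 := by
    rw [Finset.card_eq_one]
    refine ⟨0, ?_⟩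
    ext w
    rw [Finset.mem_filter, Finset.mem_singleton]
    constructor
    · rintro ⟨-, h⟩
      by_contra hw
      exact hne w hw h
    · rintro rfl
      refine ⟨Finset.mem_univ _, ?_⟩
      simp [hNm]
  rw [Finset.card_univ, Fintype.card_fun, Fintype.card_fin, ← Finset.add_sum_erase _ _ (Finset.mem_univ (0 : F)), hzero,
    Finset.sum_congr rfl (fun c hc => hfib c (hsurj c (Finset.ne_of_mem_erase hc)) (Finset.ne_of_mem_erase hc)),
    Finset.sum_const, Finset.card_erase_of_mem (Finset.mem_univ _), Finset.card_univ, smul_eq_mul] at htot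
  have hq : 1 < Fintype.card F := Fintype.one_lt_card
  set q := Fintype.card F with hqd
  have h1 : (q - 1) * A.card = (q - 1) * (q + 1) := by
    obtain ⟨r, hr⟩ : ∃ r, q = r + 1 := ⟨q - 1, by omega⟩
    rw [hr] at htot ⊢
    rw [Nat.add_sub_cancel] at htot ⊢
    have h2 : (r + 1) ^ 2 = 1 + r * (r + 1 + 1) := by ring
    rw [h2] at htot
    omega
  exact Nat.eq_of_mul_eq_mul_left (by omega) h1

/-- the number of vectors of norm one of the form of minus type -/
theorem card_minus_one (m : ℕ) (a b : F) (hab : ∀ z₁ z₂ : F, z₁ ^ 2 + a * z₁ * z₂ + b * z₂ ^ 2 = 0 → z₁ = 0 ∧ z₂ = 0) :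
    Nat.card {v : (Fin m ⊕ Fin m) ⊕ Fin 2 → F // quadFormMinus m F a b v = 1} =
      Fintype.card F ^ m * (Fintype.card F ^ (m + 1) + 1) := by
  classical
  have h1 := LieClassical.QuadCount.card_sum (F := F) m
    (fun w : Fin 2 → F => (w 0 ^ 2 + a * w 0 * w 1 + b * w 1 ^ 2) - 1)
  rw [card_norm_one a b hab] at h1
  have h2 : Nat.card {v : (Fin m ⊕ Fin m) ⊕ Fin 2 → F // quadFormMinus m F a b v = 1} =
      Nat.card {p : (Fin m ⊕ Fin m → F) × (Fin 2 → F) // quadFormPlus m F p.1 +
        ((p.2 0 ^ 2 + a * p.2 0 * p.2 1 + b * p.2 1 ^ 2) - 1) = 0} := by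
    apply Nat.card_congr
    refine (Equiv.sumArrowEquivProdArrow _ _ _).subtypeEquiv ?_
    intro v
    change quadFormMinus m F a b v = 1 ↔ quadFormPlus m F (fun i => v (.inl i)) +
      ((v (.inr 0) ^ 2 + a * v (.inr 0) * v (.inr 1) + b * v (.inr 1) ^ 2) - 1) = 0
    rw [quadFormMinus, quadFormPlus, ← sub_eq_zero (b := (1 : F)), add_sub_assoc]
  rw [h2]
  rw [Fintype.card_fun, Fintype.card_fin] at h1
  have hq : 0 < Fintype.card F := Fintype.card_pos
  apply Nat.eq_of_mul_eq_mul_left hq
  have h3 : (Fintype.card F + 1) * Fintype.card F ^ (m + 1) =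
      Fintype.card F ^ 2 * Fintype.card F ^ m + Fintype.card F ^ (m + 1) := by ring
  rw [h3] at h1
  have h4 : Fintype.card F * (Fintype.card F ^ m * (Fintype.card F ^ (m + 1) + 1)) =
      Fintype.card F ^ 2 * Fintype.card F ^ (2 * m) + Fintype.card F ^ (m + 1) := by
    ring
  rw [h4]
  omega

theorem hasAb_quad_fix {ι : Type} [Fintype ι] [DecidableEq ι] {p : ℕ} [hpp : Fact p.Prime] (hp2 : p ≠ 2) (hp : (p : F) ≠ 0)
    (Q : (ι → F) → F) (hQ0 : Q 0 = 0)
    (B : (ι → F) →ₗ[F] (ι → F) →ₗ[F] F) (hB : ∀ u v, Q (u + v) = Q u + Q v + B u v)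
    (hnd : ∀ w, (∀ v, B v w = 0) → w = 0) (hcard : ¬ p ∣ Nat.card {v : ι → F // Q v = 1})
    {N : ℕ} (hN : (Fintype.card ι - 1) / 2 = N) : HasAb p (POmega F Q) N := by
  have hfin : Finite (Matrix.GeneralLinearGroup ι F) := inferInstance
  let μ : Omega F Q →* Matrix ι ι F := ((Units.coeHom (Matrix ι ι F)).comp (isometryGroup F Q).subtype).comp
    (Omega F Q).subtype
  have hμ : Function.Injective μ := by
    intro x y h
    apply Subtype.ext
    apply Subtype.ext
    exact Units.ext h
  have hx : ∀ (x : Omega F Q) (u : ι → F), Q (μ x *ᵥ u) = Q u := fun x u => x.1.2 u u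
  let J : Matrix ι ι F := LinearMap.toMatrix₂' F B
  have hJ : ∀ u v, u ⬝ᵥ (J *ᵥ v) = B u v := by
    intro u v
    rw [← Matrix.toLinearMap₂'_apply', Matrix.toLinearMap₂'_toMatrix']
  refine hasAb_form_fix (μ := μ) hp2 hp hμ (QuotientGroup.mk' _) (QuotientGroup.mk'_surjective _) J ?_ ?_ ?_ hN
  · rw [← Matrix.isUnit_iff_isUnit_det, ← Matrix.mulVec_injective_iff_isUnit]
    intro w w' h
    rw [← sub_eq_zero]
    apply hnd
    intro v
    rw [← hJ, Matrix.mulVec_sub]
    change v ⬝ᵥ (J *ᵥ w - J *ᵥ w') = 0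
    have h' : J *ᵥ w = J *ᵥ w' := h
    rw [h', sub_self, dotProduct_zero]
  · intro x
    have h1 : ∀ u v, B (μ x *ᵥ u) (μ x *ᵥ v) = B u v := by
      intro u v
      have h2 := hB (μ x *ᵥ u) (μ x *ᵥ v)
      rw [← Matrix.mulVec_add, hx, hx, hx, hB u v] at h2
      exact (add_left_cancel h2).symm
    ext i j
    have h3 := h1 (Pi.single i 1) (Pi.single j 1)
    rw [← hJ, ← hJ, Matrix.mulVec_mulVec, ← Matrix.vecMul_transpose, ← Matrix.dotProduct_mulVec,
      Matrix.mulVec_mulVec, ← mul_assoc] at h3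
    rw [single_dotProduct, single_dotProduct, one_mul, one_mul, Matrix.mulVec_single_one,
      Matrix.mulVec_single_one] at h3
    exact h3
  · intro P
    letI act : MulAction P {v : ι → F // Q v = 1} :=
      { smul := fun x v => ⟨μ x *ᵥ v.1, by rw [hx]; exact v.2⟩
        one_smul := fun v => Subtype.ext (by
          change μ (1 : Omega F Q) *ᵥ v.1 = v.1
          rw [map_one, Matrix.one_mulVec])
        mul_smul := fun x y v => Subtype.ext (by
          change μ ((x : Omega F Q) * y) *ᵥ v.1 = μ x *ᵥ (μ y *ᵥ v.1)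
          rw [map_mul, Matrix.mulVec_mulVec]) }
    have hPp : IsPGroup p P := P.isPGroup'
    obtain ⟨v, hv⟩ := hPp.nonempty_fixed_point_of_prime_not_dvd_card {v : ι → F // Q v = 1} hcard
    refine ⟨v.1, ?_, ?_⟩
    · intro h0
      have h1 := v.2
      rw [h0, hQ0] at h1
      exact zero_ne_one h1
    · intro x hxP
      exact congrArg Subtype.val (hv ⟨x, hxP⟩)

theorem hasAb_ominus' {p : ℕ} [hpp : Fact p.Prime] (hp2 : p ≠ 2) (hp : (p : F) ≠ 0) (m : ℕ) (a b : F)
    (hab : ∀ z₁ z₂ : F, z₁ ^ 2 + a * z₁ * z₂ + b * z₂ ^ 2 = 0 → z₁ = 0 ∧ z₂ = 0)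
    (hq : ¬ p ∣ Fintype.card F ^ (m + 1) + 1) :
    HasAb p (POmega F (quadFormMinus m F a b)) m := by
  let B : ((Fin m ⊕ Fin m) ⊕ Fin 2 → F) →ₗ[F] ((Fin m ⊕ Fin m) ⊕ Fin 2 → F) →ₗ[F] F :=
    LinearMap.mk₂ F (fun u v =>
      (∑ i, (u (.inl (.inl i)) * v (.inl (.inr i)) + v (.inl (.inl i)) * u (.inl (.inr i)))) +
      (2 * u (.inr 0) * v (.inr 0) + a * (u (.inr 0) * v (.inr 1) + v (.inr 0) * u (.inr 1)) +
        2 * b * u (.inr 1) * v (.inr 1)))
      (fun u u' v => by
        rw [add_add_add_comm, ← Finset.sum_add_distrib]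
        refine congrArg₂ _ (Finset.sum_congr rfl fun i _ => ?_) ?_ <;> (simp only [Pi.add_apply]; ring))
      (fun c u v => by
        rw [smul_eq_mul, mul_add c, Finset.mul_sum]
        refine congrArg₂ _ (Finset.sum_congr rfl fun i _ => ?_) ?_ <;> (simp only [Pi.smul_apply, smul_eq_mul]; ring))
      (fun u v v' => by
        rw [add_add_add_comm, ← Finset.sum_add_distrib]
        refine congrArg₂ _ (Finset.sum_congr rfl fun i _ => ?_) ?_ <;> (simp only [Pi.add_apply]; ring))
      (fun c u v => by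
        rw [smul_eq_mul, mul_add c, Finset.mul_sum]
        refine congrArg₂ _ (Finset.sum_congr rfl fun i _ => ?_) ?_ <;> (simp only [Pi.smul_apply, smul_eq_mul]; ring))
  have hBe : ∀ u v, B u v =
      (∑ i, (u (.inl (.inl i)) * v (.inl (.inr i)) + v (.inl (.inl i)) * u (.inl (.inr i)))) +
      (2 * u (.inr 0) * v (.inr 0) + a * (u (.inr 0) * v (.inr 1) + v (.inr 0) * u (.inr 1)) +
        2 * b * u (.inr 1) * v (.inr 1)) := fun u v => rfl
  refine hasAb_quad_fix hp2 hp (quadFormMinus m F a b) ?_ B ?_ ?_ ?_ ?_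
  · simp [quadFormMinus]
  · intro u v
    rw [hBe]
    simp only [quadFormMinus]
    have h3 : ∀ a b c d e f : F, a + b + (c + d) + (e + f) = (a + c + e) + (b + d + f) := by intros; ring
    rw [h3, ← Finset.sum_add_distrib, ← Finset.sum_add_distrib]
    refine congrArg₂ _ (Finset.sum_congr rfl fun i _ => ?_) ?_ <;> (simp only [Pi.add_apply]; ring)
  · intro w h
    have h0 := h (Pi.single (.inr 0) 1)
    have h1 := h (Pi.single (.inr 1) 1)
    rw [hBe] at h0 h1
    have h0' : 2 * w (.inr 0) + a * w (.inr 1) = 0 := by simpa [Pi.single_apply] using h0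
    have h1' : a * w (.inr 0) + 2 * b * w (.inr 1) = 0 := by simpa [Pi.single_apply] using h1
    have h3 : w (.inr 0) = 0 ∧ w (.inr 1) = 0 := by
      by_cases h2 : (2 : F) = 0
      · -- characteristic two
        rw [h2, zero_mul, zero_add] at h0'
        rw [h2, zero_mul, zero_mul, add_zero] at h1'
        have ha : a ≠ 0 := by
          intro ha
          -- `z ↦ z ^ 2` is onto
          have hchar : CharP F 2 := CharTwo.of_one_ne_zero_of_two_eq_zero one_ne_zero h2
          obtain ⟨z, hz⟩ : ∃ z : F, z ^ 2 = b := by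
            have := (frobenius_inj F 2)
            obtain ⟨z, hz⟩ := (Finite.injective_iff_surjective.1 this) b
            exact ⟨z, hz⟩
          have h4 := hab z 1 (by
            rw [ha, hz, zero_mul, zero_mul, one_pow, mul_one, add_zero, ← two_mul, h2, zero_mul])
          exact one_ne_zero h4.2
        exact ⟨(mul_eq_zero.1 h1').resolve_left ha, (mul_eq_zero.1 h0').resolve_left ha⟩
      · refine hab _ _ ?_
        have h4 : 2 * (w (.inr 0) ^ 2 + a * w (.inr 0) * w (.inr 1) + b * w (.inr 1) ^ 2) = 0 := by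
          linear_combination w (.inr 0) * h0' + w (.inr 1) * h1'
        exact (mul_eq_zero.1 h4).resolve_left h2
    funext j
    rcases j with (j | j) | j
    · have h4 := h (Pi.single (.inl (.inr j)) 1)
      rw [hBe] at h4
      simpa [Pi.single_apply] using h4
    · have h4 := h (Pi.single (.inl (.inl j)) 1)
      rw [hBe] at h4
      simpa [Pi.single_apply] using h4
    · fin_cases j
      · exact h3.1
      · exact h3.2
  · rw [card_minus_one m a b hab, hpp.out.dvd_mul]
    rintro (h | h)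
    · have h1 : p ∣ Fintype.card F := hpp.out.dvd_of_dvd_pow h
      obtain ⟨r, hr⟩ := CharP.exists F
      have hrp : r.Prime := CharP.char_is_prime F r
      have := Fact.mk hrp
      obtain ⟨n, _, hn⟩ := FiniteField.card F r
      rw [hn] at h1
      have h2 := (Nat.prime_dvd_prime_iff_eq hpp.out hrp).1 (hpp.out.dvd_of_dvd_pow h1)
      apply hp
      rw [h2]
      exact CharP.cast_eq_zero F r
    · exact hq h
  · rw [Fintype.card_sum, Fintype.card_sum, Fintype.card_fin, Fintype.card_fin]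
    omega

end Minus

end Cfsg.Agent.H128.WeightsFix
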